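import Cfsg.Agent.H759.FusFactor
import Cfsg.Agent.H802.FusGroup

/-!
# Realized fusion systems are saturated; the system of `Q ⋊ A` (helper781)

* `pullback ι` : the fusion system over `S` induced along an injective `ι : S →* G`.
* `isSaturated_of_isRealizedBy` : a system realized by `ι : S →* G` with `ι(S)` a Sylow subgroup is saturated.
* `semi A` : the fusion system of `Q ⋊ A` on `Q`, `A ≤ Aut(Q)`, with maps `x ↦ a β(x) a⁻¹`, `a ∈ Q`, `β ∈ A`; it is
  saturated for `A` of order prime to `p`.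
-/

set_option autoImplicit false

namespace Cfsg.Agent.H781

open Cfsg Cfsg.FusionSystem Cfsg.Agent.H802

section pullback

variable {Ω : Type*} [Group Ω] {S : Subgroup Ω} {G : Type*} [Group G]

/-- The fusion system over `S` induced by `G` along the injective homomorphism `ι : S →* G`. -/
def pullback (ι : S →* G) (hι : Function.Injective ι) : FusionSystem S where
  Hom P := {φ | ∃ (hP : P ≤ S) (hφ : ∀ x : P, φ x ∈ S), ∃ g : G, ∀ x : P,
    ι ⟨φ x, hφ x⟩ = g * ι ⟨x, hP x.2⟩ * g⁻¹}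
  le_of_mem := by
    rintro P φ ⟨hP, hφ, -⟩
    exact ⟨hP, hφ⟩
  injective_of_mem := by
    rintro P φ ⟨hP, hφ, g, hg⟩ a b hab
    have h1 : ι ⟨φ a, hφ a⟩ = ι ⟨φ b, hφ b⟩ := by
      congr 1
      exact Subtype.ext hab
    rw [hg, hg] at h1
    have h2 := hι (mul_left_cancel (mul_right_cancel h1))
    exact Subtype.ext (Subtype.mk.inj h2)
  conj_mem := by
    intro P g hP hg
    refine ⟨hP, fun x => S.mul_mem (S.mul_mem hg (hP x.2)) (S.inv_mem hg), ι ⟨g, hg⟩, fun x => ?_⟩
    rw [← map_mul, ← map_inv, ← map_mul]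
    rfl
  comp_mem := by
    rintro P Q φ ψ ⟨hP, hφ, g, hg⟩ ⟨hQ, hψ, k, hk⟩ h
    refine ⟨hP, fun x => hψ _, k * g, fun x => ?_⟩
    have h1 := hk ⟨φ x, h x⟩
    have h2 := hg x
    show ι ⟨ψ ⟨φ x, h x⟩, _⟩ = _
    rw [h1, h2]
    group
  inv_mem := by
    rintro P φ ⟨hP, hφ, g, hg⟩
    have hinj : Function.Injective φ := by
      intro a b hab
      have h1 : ι ⟨φ a, hφ a⟩ = ι ⟨φ b, hφ b⟩ := by
        congr 1
        exact Subtype.ext hab
      rw [hg, hg] at h1
      have h2 := hι (mul_left_cancel (mul_right_cancel h1))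
      exact Subtype.ext (Subtype.mk.inj h2)
    let e := MonoidHom.ofInjective hinj
    have he : ∀ x : P, e.symm ⟨φ x, ⟨x, rfl⟩⟩ = x := fun x => by
      have : (⟨φ x, ⟨x, rfl⟩⟩ : φ.range) = e x := Subtype.ext rfl
      rw [this, MulEquiv.symm_apply_apply]
    refine ⟨P.subtype.comp e.symm.toMonoidHom, ⟨?_, ?_, g⁻¹, ?_⟩, fun x => ?_⟩
    · rintro _ ⟨x, rfl⟩
      exact hφ x
    · intro x
      exact hP (e.symm x).2
    · rintro ⟨_, x, rfl⟩
      have h3 : (P.subtype.comp e.symm.toMonoidHom) ⟨φ x, ⟨x, rfl⟩⟩ = (x : Ω) :=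
        congrArg Subtype.val (he x)
      have h4 : (⟨(P.subtype.comp e.symm.toMonoidHom) ⟨φ x, ⟨x, rfl⟩⟩, hP (e.symm _).2⟩ : S) =
          ⟨x, hP x.2⟩ := Subtype.ext h3
      rw [h4, hg x]
      group
    · exact congrArg Subtype.val (he x)

theorem pullback_isRealizedBy (ι : S →* G) (hι : Function.Injective ι) :
    (pullback ι hι).IsRealizedBy ι := by
  refine ⟨hι, fun P hP φ hφ => ⟨?_, fun h => ⟨hP, hφ, h⟩⟩⟩
  rintro ⟨_, _, g, hg⟩
  exact ⟨g, hg⟩

/-- A system realized by `ι` is the factor system, modulo the trivial group, of the fusion system of `G` on the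
image of `ι`. -/
theorem isFactorSystem_of_isRealizedBy {F : FusionSystem S} {ι : S →* G} (h : F.IsRealizedBy ι) :
    (groupFusionSystem ι.range).IsFactorSystem ⊥
      (S.subtype.comp (MonoidHom.ofInjective h.1).symm.toMonoidHom) F := by
  obtain ⟨hι, hF⟩ := h
  set e := MonoidHom.ofInjective hι with he
  set θ : ι.range →* Ω := S.subtype.comp e.symm.toMonoidHom with hθ
  have hθe : ∀ x : S, θ ⟨ι x, ⟨x, rfl⟩⟩ = x := by
    intro x
    have h1 : (⟨ι x, ⟨x, rfl⟩⟩ : ι.range) = e x := Subtype.ext rfl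
    show ((e.symm ⟨ι x, ⟨x, rfl⟩⟩ : S) : Ω) = x
    rw [h1, MulEquiv.symm_apply_apply]
  have hθr : θ.range = S := by
    ext y
    constructor
    · rintro ⟨x, rfl⟩
      exact (e.symm x).2
    · intro hy
      exact ⟨_, hθe ⟨y, hy⟩⟩
  refine ⟨bot_le, ?_, hθr, ?_⟩
  · rintro ⟨_, s, rfl⟩
    rw [hθe, Subgroup.mem_bot]
    constructor
    · intro hs
      have : s = 1 := Subtype.ext hs
      subst this
      exact map_one ι
    · intro hs
      have hs' : ι s = 1 := hs
      have : s = 1 := hι (by rw [hs', map_one])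
      subst this
      rfl
  · intro P' φ'
    constructor
    · intro hφ'
      have hP' : P' ≤ S := hom_le hφ'
      have hv := hom_apply_mem hφ'
      obtain ⟨g, hg⟩ := (hF P' hP' φ' hv).1 hφ'
      refine ⟨hP', conjHom _ g, ⟨H759.preimageAlong_le, ?_, g, fun x => rfl⟩, ?_⟩
      · rintro ⟨x, hx⟩
        rw [H759.mem_preimageAlong] at hx
        obtain ⟨⟨s, rfl⟩, hx⟩ := hx
        rw [hθe] at hx
        show g * ι s * g⁻¹ ∈ ι.range
        rw [← hg ⟨s, hx⟩]
        exact ⟨_, rfl⟩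
      · have hval : ∀ x : preimageAlong θ P', conjHom (preimageAlong θ P') g x ∈ ι.range := by
          rintro ⟨x, hx⟩
          rw [H759.mem_preimageAlong] at hx
          obtain ⟨⟨s, rfl⟩, hx⟩ := hx
          rw [hθe] at hx
          show g * ι s * g⁻¹ ∈ ι.range
          rw [← hg ⟨s, hx⟩]
          exact ⟨_, rfl⟩
        refine ⟨H759.preimageAlong_le, hval, ?_, ?_⟩
        · rintro ⟨x, hx⟩
          rw [H759.mem_preimageAlong] at hx
          exact hx.2
        · rintro ⟨x, hx⟩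
          have hx0 := hx
          rw [H759.mem_preimageAlong] at hx0
          obtain ⟨⟨s, rfl⟩, hx1⟩ := hx0
          have hs : (s : Ω) ∈ P' := by rwa [hθe] at hx1
          have h1 : (⟨θ ⟨ι s, ⟨s, rfl⟩⟩, hx1⟩ : P') = ⟨s, hs⟩ := Subtype.ext (hθe s)
          have h2 : (⟨conjHom (preimageAlong θ P') g ⟨ι s, hx⟩, hval ⟨ι s, hx⟩⟩ : ι.range) =
              ⟨ι ⟨φ' ⟨s, hs⟩, hv _⟩, ⟨_, rfl⟩⟩ := by
            apply Subtype.ext
            show g * ι s * g⁻¹ = ι ⟨φ' ⟨s, hs⟩, hv _⟩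
            rw [hg ⟨s, hs⟩]
          show φ' ⟨θ ⟨ι s, _⟩, _⟩ = _
          rw [h1, h2, hθe]
    · rintro ⟨hP', φ, ⟨-, -, g, hg⟩, hφP, hφv, hφP', hφe⟩
      have hmem : ∀ x : P', ι ⟨x, hP' x.2⟩ ∈ preimageAlong θ P' := by
        intro x
        rw [H759.mem_preimageAlong]
        refine ⟨⟨_, rfl⟩, ?_⟩
        rw [hθe]
        exact x.2
      have key : ∀ x : P', φ' x = θ ⟨φ ⟨_, hmem x⟩, hφv _⟩ := by
        intro x
        rw [← hφe]
        congr 1
        exact Subtype.ext (hθe ⟨x, hP' x.2⟩).symm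
      have hv : ∀ x : P', φ' x ∈ S := by
        intro x
        rw [key]
        exact hθr.le ⟨_, rfl⟩
      refine (hF P' hP' φ' hv).2 ⟨g, fun x => ?_⟩
      obtain ⟨s, hs⟩ := hφv ⟨_, hmem x⟩
      have h1 : φ' x = s := by
        rw [key]
        have : (⟨φ ⟨_, hmem x⟩, hφv _⟩ : ι.range) = ⟨ι s, ⟨s, rfl⟩⟩ := Subtype.ext hs.symm
        rw [this, hθe]
      have h2 : (⟨φ' x, hv x⟩ : S) = s := Subtype.ext h1
      rw [h2, hs, hg]

/-- **A realized fusion system is saturated.** -/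
theorem isSaturated_of_isRealizedBy [Finite G] {p : ℕ} [Fact p.Prime] {F : FusionSystem S}
    {ι : S →* G} (h : F.IsRealizedBy ι) (T : Sylow p G) (hT : (T : Subgroup G) = ι.range) :
    F.IsSaturated p := by
  have h1 := isFactorSystem_of_isRealizedBy h
  have h2 : (groupFusionSystem ι.range).IsSaturated p := by
    rw [← hT]
    exact groupFusionSystem_isSaturated T
  have h3 : IsPGroup p ι.range := by
    rw [← hT]
    exact T.isPGroup'
  exact H759.isSaturated_factor h3 h2 H759.StronglyClosed.bot h1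

/-- A realizable fusion system is saturated. -/
theorem isSaturated_of_isRealizable {p : ℕ} [Fact p.Prime] {F : FusionSystem S}
    (h : F.IsRealizable p) : F.IsSaturated p := by
  obtain ⟨G, _, _, ι, h1, T, hT⟩ := h
  exact isSaturated_of_isRealizedBy h1 T hT

end pullback

end Cfsg.Agent.H781
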