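import Cfsg.Agent.H799.RowsTwoB
import Cfsg.Agent.H827.JFi
import Cfsg.Agent.KFacts.FiTTh.BasInv

/-!
# S5161: Sylow 2-subgroups of `Fi23` and `Fi24'` are self-normalising (helper781)
-/

set_option autoImplicit false

namespace Cfsg.Agent.H781.RowFi

open Subgroup Cfsg Cfsg.Agent.H747 Cfsg.Agent.QTNorm Cfsg.Agent.H799.RowsTwoB

/-- `A` is the only elementary abelian subgroup of order `≥ |A|` of `N(A)`, which has odd index, and `N(A)/A` has
self-normalising Sylow 2-subgroups -/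
theorem selfN_of_unique {G : Type*} [Group G] [Finite G] {L : Type*} [Group L] (A : Subgroup G)
    (ho : ¬ 2 ∣ (normalizer (A : Set G)).index) (hA : ∀ x ∈ A, x * x = 1)
    (hu : ∀ B : Subgroup G, B ≤ normalizer (A : Set G) → (∀ x ∈ B, x * x = 1) → Nat.card A ≤ Nat.card B → B = A)
    (π : normalizer (A : Set G) →* L) (hs : Function.Surjective π) (hk : ∀ c, π c = 1 → (c : G) ∈ A)
    (hL : SelfN L) : SelfN G := by
  have hf : Fact (Nat.Prime 2) := ⟨Nat.prime_two⟩
  obtain ⟨P, hP⟩ := Cfsg.Agent.KFacts.FiTTh.Uniq.Loc.exists_sylow ho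
  have hpA : IsPGroup 2 A := fun a => ⟨1, Subtype.ext (by rw [pow_one, pow_two]; exact hA a a.2)⟩
  have hAP : A ≤ (P : Subgroup G) := by
    have h1 : IsPGroup 2 ((P : Subgroup G) ⊔ A : Subgroup G) := P.isPGroup'.to_sup_of_normal_right' hpA hP
    exact le_sup_right.trans (P.is_maximal' h1 le_sup_left).le
  refine SelfN.of_one P (self_of_hom P (normalizer (A : Set G)) ?_ π hs (fun c hc => ⟨1, ?_⟩) hL)
  · intro x hx
    have h1 : A.map (MulAut.conj x).toMonoidHom = A := by
      refine hu _ ?_ ?_ ?_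
      · rintro _ ⟨a, ha, rfl⟩
        exact hP ((mem_normalizer_iff.1 hx a).1 (hAP ha))
      · rintro _ ⟨a, ha, rfl⟩
        have h2 := hA a ha
        show x * a * x⁻¹ * (x * a * x⁻¹) = 1
        calc x * a * x⁻¹ * (x * a * x⁻¹) = x * (a * a) * x⁻¹ := by group
          _ = 1 := by rw [h2]; group
      · rw [Nat.card_congr (A.equivMapOfInjective (MulAut.conj x).toMonoidHom (MulAut.conj x).injective).toEquiv]
    rw [mem_normalizer_iff]
    intro a
    constructor
    · intro ha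
      rw [← h1]
      exact ⟨a, ha, rfl⟩
    · intro ha
      rw [← h1] at ha
      obtain ⟨b, hb, hbe⟩ := ha
      have h3 : x * b * x⁻¹ = x * a * x⁻¹ := hbe
      have h4 : b = a := by simpa using h3
      exact h4 ▸ hb
  · have h1 := hA _ (hk c hc)
    exact Subtype.ext (by rw [pow_one, pow_two]; exact h1)

open Cfsg.Agent.KFacts.FiTTh Cfsg.Agent.KFacts.FiTTh.BasDef in
theorem selfN_Fi23 : SelfN Spor.Fi23 := by
  have := BasInv.finite
  refine selfN_of_unique (A BasFi.e) BasInv.hodd (fun x hx => BasInv.base.sq_A hx) (fun B hB h2 hc => ?_)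
    BasInv.base.ind BasInv.base.ind_surj (fun c hc => (BasInv.base.ind_ker c).1 hc) Cfsg.Agent.H868.selfN_M23
  exact BasInv.loc.eq_of hB h2 (by rw [← BasInv.base.cardA]; exact hc)

theorem selfN_Fi24 : SelfN Spor.Fi24' := by
  have := Cfsg.Agent.H827.JFi.finite
  have hu := Cfsg.Agent.H827.JFi.uniqN
  refine selfN_of_unique Cfsg.Agent.H827.Coco.AA Cfsg.Agent.H827.Coco.odd_index (fun x hx => ?_) (fun B hB h2 hc => ?_)
    Cfsg.Agent.H827.Coco.ind Cfsg.Agent.H827.Coco.ind_surj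
    (fun c hc => (Cfsg.Agent.H827.Coco.ind_ker c).1 hc) (selfN_m24 ⟨MulEquiv.refl _⟩)
  · rw [← pow_two]
    exact hu.elem.2 x hx
  · refine hu.uniq B hB ⟨⟨⟨?_⟩⟩, fun x hx => by rw [pow_two]; exact h2 x hx⟩ hc
    rintro ⟨a, ha⟩ ⟨b, hb⟩
    apply Subtype.ext
    show a * b = b * a
    have h3 := h2 _ (mul_mem ha hb)
    have h4 := h2 a ha
    have h5 := h2 b hb
    calc a * b = a * (a * b * (a * b)) * b := by rw [h3, mul_one]
      _ = (a * a) * b * a * (b * b) := by group
      _ = b * a := by rw [h4, h5, one_mul, mul_one]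

theorem row_fi23 {K : Type*} [Group K] (h : Spor.IsoFi23 K) : RowTwo K := by
  obtain ⟨e⟩ := h
  exact RowTwo.congr e.symm (row_of_selfN selfN_Fi23)

theorem row_fi24 {K : Type*} [Group K] (h : Spor.IsoFi24' K) : RowTwo K := by
  obtain ⟨e⟩ := h
  exact RowTwo.congr e.symm (row_of_selfN selfN_Fi24)

end Cfsg.Agent.H781.RowFi
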