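import Cfsg.Agent.H781.U42Gam

/-!
# Groups acting on `U₄(2)` (helper781)

`A ≅ Ω₆⁻(2)` normal in `Y`, no involution of `Y` centralizes `A` : `exists_z` gives an involution `z` of `A` with the
properties `ZFacts`.
-/

set_option autoImplicit false

namespace Cfsg.Agent.H781.U42Act

open Subgroup Cfsg Cfsg.Agent.H845.AutUFour Cfsg.Agent.H781.U42Gam

universe u v

abbrev Ω : Subgroup Γ := Omega (ZMod 2) Q6

theorem bij : Function.Bijective (conjHom : Γ →* MulAut ↥Ω) := by
  have hp : Fact (Nat.Prime 2) := ⟨Nat.prime_two⟩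
  have : Fintype (GaloisField 2 2) := Fintype.ofFinite _
  have hF : Fintype.card (GaloisField 2 2) = 4 := by
    have h := GaloisField.card 2 2 (by norm_num)
    rw [Nat.card_eq_fintype_card] at h
    rw [h]
    norm_num
  obtain ⟨f⟩ := nonempty_equiv hF
  obtain ⟨e⟩ := Cfsg.Agent.S0303.result (F := ZMod 2) (K := GaloisField 2 2) (q := 2) (ZMod.card 2) hF 1 1
    Cfsg.Agent.LargeExtra.Cards.aniso
  obtain ⟨e'⟩ := nonempty_equiv_omega
  have g : ↥Ω ≃* PSU 4 (GaloisField 2 2) 2 := e'.trans e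
  have hc : Nat.card (MulAut ↥Ω) = 51840 := by
    rw [Nat.card_congr (MulAut.congr g).toEquiv, card_mulAut_PSU hF, ← Nat.card_congr g.toEquiv, card_omega]
  have hfin : Finite (MulAut ↥Ω) := Nat.finite_of_card_ne_zero (by rw [hc]; norm_num)
  exact (Nat.bijective_iff_injective_and_card conjHom).2 ⟨conjHom_injective, by rw [hc, card_isometry]⟩

theorem exists_omega {F : Type v} [Field F] [Fintype F] (hF : Fintype.card F = 4) : Nonempty (PSU 4 F 2 ≃* ↥Ω) := by
  obtain ⟨e⟩ := Cfsg.Agent.S0303.result (F := ZMod 2) (K := F) (q := 2) (ZMod.card 2) hF 1 1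
    Cfsg.Agent.LargeExtra.Cards.aniso
  obtain ⟨e'⟩ := nonempty_equiv_omega
  exact ⟨(e'.trans e).symm⟩

theorem conjHom_apply (g : Γ) (w : ↥Ω) : ((conjHom g w : ↥Ω) : Γ) = g * w * g⁻¹ := MulAut.conjNormal_apply g w

/-- **The action.** -/
theorem exists_phi {Y : Type u} [Group Y] {A : Subgroup Y} (hn : A.Normal) (e : ↥A ≃* ↥Ω) :
    ∃ φ : Y →* Γ, (∀ (y : Y) (w : ↥A), ((e ⟨y * w * y⁻¹, hn.conj_mem w w.2 y⟩ : ↥Ω) : Γ) = φ y * (e w : Γ) * (φ y)⁻¹) ∧
      (∀ w : ↥A, φ w = (e w : Γ)) ∧ ∀ y, φ y = 1 ↔ y ∈ centralizer (A : Set Y) := by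
  have key : ∀ y : Y, ∃ g : Γ, ∀ w : ↥A, ((e ⟨y * w * y⁻¹, hn.conj_mem w w.2 y⟩ : ↥Ω) : Γ) = g * (e w : Γ) * g⁻¹ := by
    intro y
    obtain ⟨g, hg⟩ := bij.2 (MulAut.congr e (MulAut.conjNormal y))
    refine ⟨g, fun w => ?_⟩
    have h1 := DFunLike.congr_fun hg (e w)
    have h2 : MulAut.congr e (MulAut.conjNormal y) (e w) = e (MulAut.conjNormal y w) := by
      simp [MulAut.congr]
    rw [h2] at h1
    rw [← conjHom_apply, h1]
    congr 2
  choose f hf using key
  have uniq : ∀ g h : Γ, (∀ w : ↥A, g * (e w : Γ) * g⁻¹ = h * (e w : Γ) * h⁻¹) → g = h := by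
    intro g h H
    apply bij.1
    ext w
    have h1 := H (e.symm w)
    rw [e.apply_symm_apply] at h1
    rw [conjHom_apply, conjHom_apply, h1]
  refine ⟨MonoidHom.mk' f fun x y => ?_, hf, fun w => ?_, fun y => ?_⟩
  · apply uniq
    intro w
    rw [← hf]
    have h1 := hf x ⟨y * w * y⁻¹, hn.conj_mem w w.2 y⟩
    rw [hf y w] at h1
    have h2 : (⟨x * y * w * (x * y)⁻¹, hn.conj_mem w w.2 (x * y)⟩ : ↥A) =
        ⟨x * (y * w * y⁻¹) * x⁻¹, hn.conj_mem _ (hn.conj_mem w w.2 y) x⟩ := Subtype.ext (by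
      change x * y * w * (x * y)⁻¹ = x * (y * w * y⁻¹) * x⁻¹
      rw [mul_inv_rev]
      simp only [mul_assoc])
    rw [h2]
    refine h1.trans ?_
    rw [mul_inv_rev]
    simp only [mul_assoc]
  · change f w = _
    apply uniq
    intro v
    rw [← hf]
    have h1 : (⟨w * v * (w : Y)⁻¹, hn.conj_mem v v.2 w⟩ : ↥A) = w * v * w⁻¹ := rfl
    rw [h1, map_mul, map_mul, map_inv]
    rfl
  · change f y = 1 ↔ _
    rw [mem_centralizer_iff]
    constructor
    · intro h a ha
      have h1 := hf y ⟨a, ha⟩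
      rw [h, one_mul, inv_one, mul_one] at h1
      have h2 := congrArg Subtype.val (e.injective (Subtype.ext h1))
      change y * a * y⁻¹ = a at h2
      exact (mul_inv_eq_iff_eq_mul.1 h2).symm
    · intro h
      apply uniq
      intro w
      rw [← hf, one_mul, inv_one, mul_one]
      congr 2
      apply Subtype.ext
      change y * w * y⁻¹ = w
      rw [← h w w.2, mul_inv_cancel_right]

/-- the properties of `z` -/
structure ZFacts {Y : Type u} [Group Y] (A : Subgroup Y) (z : Y) : Prop where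
  mem : z ∈ A
  sq : z * z = 1
  ne : z ≠ 1
  one : ∀ n, n * z = z * n → n * n = 1 → (∀ c ∈ A, c * z = z * c → n * (c * n * c⁻¹) = c * n * c⁻¹ * n) → n = 1 ∨ n = z
  five : ∀ y, y ^ 5 = 1 → y * z = z * y → y ∈ centralizer (A : Set Y)
  big : ∀ R : Subgroup Y, IsPGroup 2 ↥R → (∀ c ∈ A, c * z = z * c → ∀ r ∈ R, c * r * c⁻¹ ∈ R) → Nat.card ↥R ≤ 64
  card : ¬ 256 ∣ Nat.card Y

/-- a 2-group meeting the centralizer -/
theorem inj_of_two {Y : Type u} [Group Y] [Finite Y] {C : Subgroup Y} (hC : ∀ u ∈ C, u * u = 1 → u = 1) {R : Subgroup Y}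
    (hR : IsPGroup 2 ↥R) {r : Y} (hr : r ∈ R) (hrC : r ∈ C) : r = 1 := by
  obtain ⟨k, hk⟩ := hR ⟨r, hr⟩
  have hk' : r ^ 2 ^ k = 1 := congrArg Subtype.val hk
  clear hk
  induction k with
  | zero => simpa using hk'
  | succ k ih =>
    apply ih
    apply hC _ (C.pow_mem hrC _)
    rw [← pow_add]
    convert hk' using 2
    ring

theorem exists_z {Y : Type u} [Group Y] [Finite Y] {A : Subgroup Y} (hn : A.Normal) (e : ↥A ≃* ↥Ω)
    (hC : ∀ u ∈ centralizer (A : Set Y), u * u = 1 → u = 1) : ∃ z, ZFacts A z := by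
  obtain ⟨φ, h1, h2, h3⟩ := exists_phi hn e
  have hfinG : Finite Γ := Nat.finite_of_card_ne_zero (by rw [card_isometry]; norm_num)
  have hp : Fact (Nat.Prime 2) := ⟨Nat.prime_two⟩
  set z : ↥A := e.symm ⟨zG, z_mem⟩ with hz
  set c : ↥A := e.symm ⟨cG, c_mem⟩ with hc
  have φz : φ z = zG := by rw [h2, hz, e.apply_symm_apply]
  have φc : φ c = cG := by rw [h2, hc, e.apply_symm_apply]
  have inj : ∀ x y : ↥A, φ x = φ y → (x : Y) = y := by
    intro x y h
    rw [h2, h2] at h
    exact congrArg Subtype.val (e.injective (Subtype.ext h))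
  have hcz : (c : Y) * z = z * c := by
    have h := inj (c * z) (z * c) (by
      change φ ((c : Y) * z) = φ ((z : Y) * c)
      rw [map_mul, map_mul, φz, φc, U42Gam.cz])
    exact h
  have hzz : (z : Y) * z = 1 := by
    have h := inj (z * z) 1 (by
      change φ ((z : Y) * z) = φ 1
      rw [map_mul, map_one, φz, zz])
    exact h
  have hcard : ¬ 256 ∣ Nat.card Y := by
    intro h
    have h4 : Odd (Nat.card ↥φ.ker) := by
      rw [← Nat.not_even_iff_odd]
      intro hev
      obtain ⟨u, hu⟩ := exists_prime_orderOf_dvd_card' (G := ↥φ.ker) 2 hev.two_dvd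
      have h5 : (u : Y) * u = 1 := by
        have h6 := pow_orderOf_eq_one u
        rw [hu, pow_two] at h6
        exact congrArg Subtype.val h6
      have h6 := hC u ((h3 _).1 (MonoidHom.mem_ker.1 u.2)) h5
      have h7 : u = 1 := Subtype.ext h6
      rw [h7, orderOf_one] at hu
      omega
    have h5 : Nat.card Y = Nat.card ↥φ.range * Nat.card ↥φ.ker := by
      rw [Subgroup.card_eq_card_quotient_mul_card_subgroup φ.ker,
        Nat.card_congr (QuotientGroup.quotientKerEquivRange φ).toEquiv]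
    have h6 : Nat.card ↥φ.range ∣ 51840 := by
      rw [← card_isometry]
      exact card_subgroup_dvd_card _
    rw [h5] at h
    have h7 : Nat.Coprime 256 (Nat.card ↥φ.ker) := by
      have : Nat.Coprime (2 ^ 8) (Nat.card ↥φ.ker) := Nat.Coprime.pow_left 8 h4.coprime_two_left
      exact this
    have h8 := h7.dvd_of_dvd_mul_right h
    exact absurd (h8.trans h6) (by norm_num)
  refine ⟨z, z.2, hzz, ?_, ?_, ?_, ?_, hcard⟩
  · intro h
    apply z_ne
    rw [← φz, h, map_one]
  · intro n hnz hnn hcc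
    have e1 : φ n * zG = zG * φ n := by rw [← φz, ← map_mul, ← map_mul, hnz]
    have e2 : φ n * φ n = 1 := by rw [← map_mul, hnn, map_one]
    have e3 : φ n * (cG * φ n * cG⁻¹) = cG * φ n * cG⁻¹ * φ n := by
      rw [← φc, ← map_inv, ← map_mul, ← map_mul, ← map_mul, ← map_mul, hcc c c.2 hcz]
    rcases prop_one e1 e2 e3 with h | h
    · left
      exact hC n ((h3 n).1 h) hnn
    · right
      have e4 : n * z = 1 := by
        apply hC
        · rw [← h3, map_mul, h, φz, zz]
        · calc n * z * (n * z) = n * (z * n) * z := by group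
            _ = n * n * (z * z) := by rw [← hnz]; group
            _ = 1 := by rw [hnn, hzz, one_mul]
      calc n = n * (z * z) := by rw [hzz, mul_one]
        _ = n * z * z := by group
        _ = z := by rw [e4, one_mul]
  · intro y hy hyz
    rw [← h3]
    apply prop_five
    · rw [← φz, ← map_mul, ← map_mul, hyz]
    · rw [← map_pow, hy, map_one]
  · intro R hR hnorm
    by_contra hlt
    push Not at hlt
    obtain ⟨k, hk⟩ := (IsPGroup.iff_card (p := 2)).1 hR
    -- the image
    have hinj : Function.Injective (φ.comp R.subtype) := by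
      rw [injective_iff_map_eq_one]
      intro r hr
      have h4 : φ r = 1 := hr
      exact Subtype.ext (inj_of_two hC hR r.2 ((h3 _).1 h4))
    set S : Subgroup Γ := R.map φ with hS
    have hSR : Nat.card ↥S = Nat.card ↥R := by
      have h4 : S = (φ.comp R.subtype).range := by
        ext x
        constructor
        · rintro ⟨r, hr, rfl⟩
          exact ⟨⟨r, hr⟩, rfl⟩
        · rintro ⟨r, rfl⟩
          exact ⟨r, r.2, rfl⟩
      rw [h4]
      exact Nat.card_congr (MonoidHom.ofInjective hinj).symm.toEquiv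
    have hS2 : IsPGroup 2 ↥S := hR.map φ
    have hgS : gG ∈ S := by
      set g : ↥A := e.symm ⟨gG, g_mem⟩ with hg
      have φg : φ g = gG := by rw [h2, hg, e.apply_symm_apply]
      have hgz : (g : Y) * z = z * g := by
        have h := inj (g * z) (z * g) (by
          change φ ((g : Y) * z) = φ ((z : Y) * g)
          rw [map_mul, map_mul, φz, φg, U42Gam.gz])
        exact h
      have hgp : IsPGroup 2 ↥(zpowers gG) := by
        intro x
        refine ⟨1, ?_⟩
        obtain ⟨m, hm⟩ := mem_zpowers_iff.1 x.2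
        apply Subtype.ext
        change (x : Γ) ^ 2 ^ 1 = 1
        rw [← hm, pow_one, pow_two, ← zpow_add, ← two_mul, zpow_mul]
        have : gG ^ (2 : ℤ) = 1 := by rw [zpow_two, gg]
        rw [this, one_zpow]
      have hle : zpowers gG ≤ normalizer (S : Set Γ) := by
        rw [zpowers_le, mem_normalizer_iff]
        have hmem : ∀ x ∈ S, gG * x * gG⁻¹ ∈ S := by
          rintro _ ⟨r, hr, rfl⟩
          refine ⟨g * r * (g : Y)⁻¹, hnorm g g.2 hgz r hr, ?_⟩
          rw [map_mul, map_mul, map_inv, φg]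
        intro x
        refine ⟨hmem x, fun h => ?_⟩
        have h4 := hmem _ h
        have hgi : gG⁻¹ = gG := inv_eq_of_mul_eq_one_left gg
        have h5 : gG * (gG * x * gG⁻¹) * gG⁻¹ = x := by
          rw [hgi]
          calc gG * (gG * x * gG) * gG = (gG * gG) * x * (gG * gG) := by group
            _ = x := by rw [gg, one_mul, mul_one]
        rwa [h5] at h4
      have h4 : IsPGroup 2 ↥(zpowers gG ⊔ S : Subgroup Γ) := IsPGroup.to_sup_of_normal_right' hgp hS2 hle
      obtain ⟨m, hm⟩ := (IsPGroup.iff_card (p := 2)).1 h4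
      have h5 : Nat.card ↥(zpowers gG ⊔ S : Subgroup Γ) ∣ 51840 := by
        rw [← card_isometry]
        exact card_subgroup_dvd_card _
      have h6 : m ≤ 7 := by
        by_contra hcon
        push Not at hcon
        rw [hm] at h5
        have h7 : 2 ^ 8 ∣ 51840 := (pow_dvd_pow 2 hcon).trans h5
        exact absurd h7 (by norm_num)
      have h7 : 7 ≤ k := by
        by_contra hcon
        push Not at hcon
        rw [hk] at hlt
        have : 2 ^ k ≤ 2 ^ 6 := Nat.pow_le_pow_right (by norm_num) (by omega)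
        omega
      have h8 : S = zpowers gG ⊔ S := by
        apply Subgroup.eq_of_le_of_card_ge le_sup_right
        rw [hSR, hk, hm]
        exact Nat.pow_le_pow_right (by norm_num) (h6.trans h7)
      rw [h8]
      exact (le_sup_left : zpowers gG ≤ _) (mem_zpowers gG)
    have hcS : cG * gG * cG⁻¹ ∈ S := by
      obtain ⟨r, hr, hrg⟩ := hgS
      refine ⟨c * r * (c : Y)⁻¹, hnorm c c.2 hcz r hr, ?_⟩
      rw [map_mul, map_mul, map_inv, φc, hrg]
    have hw := S.mul_mem hgS hcS
    apply gcg_ne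
    obtain ⟨m, hm⟩ := hS2 ⟨_, hw⟩
    have hm' : (gG * (cG * gG * cG⁻¹)) ^ 2 ^ m = 1 := congrArg Subtype.val hm
    have h4 : orderOf (gG * (cG * gG * cG⁻¹)) ∣ 2 ^ m := orderOf_dvd_of_pow_eq_one hm'
    have h5 : orderOf (gG * (cG * gG * cG⁻¹)) ∣ 3 := by
      apply orderOf_dvd_of_pow_eq_one
      rw [pow_succ, pow_two, mul_assoc]
      exact gcg
    have h6 : Nat.Coprime (2 ^ m) 3 := Nat.Coprime.pow_left m (by norm_num)
    exact orderOf_eq_one_iff.1 (Nat.eq_one_of_dvd_coprimes h6 h4 h5)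

end Cfsg.Agent.H781.U42Act
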