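import Cfsg.Agent.H802.FusNorm
import Cfsg.Agent.H759.FusBasic

/-!
# Existence of the normalizer fusion system (helper781)

For `Q ≤ S` the maps of `F.normalizerHom Q` form a fusion system over `N_S(Q)`.
-/

set_option autoImplicit false

namespace Cfsg.Agent.H781

open Cfsg Cfsg.FusionSystem Cfsg.Agent.H802

variable {Ω : Type*} [Group Ω] {S : Subgroup Ω}

theorem mem_or_sup_induction {A B R : Subgroup Ω} {ψ : (A ⊔ B : Subgroup Ω) →* Ω}
    (hA : ∀ (x : Ω) (hx : x ∈ A), ψ ⟨x, Subgroup.mem_sup_left hx⟩ ∈ R)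
    (hB : ∀ (x : Ω) (hx : x ∈ B), ψ ⟨x, Subgroup.mem_sup_right hx⟩ ∈ R)
    (y : (A ⊔ B : Subgroup Ω)) : ψ y ∈ R := by
  have h : (A ⊔ B : Subgroup Ω) ≤ (R.comap ψ).map (A ⊔ B : Subgroup Ω).subtype := by
    rw [sup_le_iff]
    exact ⟨fun x hx => ⟨⟨x, Subgroup.mem_sup_left hx⟩, hA x hx, rfl⟩,
      fun x hx => ⟨⟨x, Subgroup.mem_sup_right hx⟩, hB x hx, rfl⟩⟩
  obtain ⟨z, hz, hzy⟩ := h y.2
  have : z = y := Subtype.ext hzy
  rw [← this]
  exact hz

/-- Membership in the image of `Q` under a map on a larger group. -/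
theorem mem_map_subgroupOf {R Q : Subgroup Ω} (hQR : Q ≤ R) {ψ : R →* Ω} {y : Ω} :
    y ∈ (Q.subgroupOf R).map ψ ↔ ∃ (x : Ω) (hx : x ∈ Q), ψ ⟨x, hQR hx⟩ = y := by
  constructor
  · rintro ⟨x, hx, rfl⟩
    exact ⟨x, hx, rfl⟩
  · rintro ⟨x, hx, rfl⟩
    exact ⟨⟨x, hQR hx⟩, hx, rfl⟩

/-- The normalizer fusion system `N_F(Q)`. -/
def normSys (F : FusionSystem S) (Q : Subgroup Ω) (hQ : Q ≤ S) :
    FusionSystem (normalizerIn S Q) where
  Hom P := F.normalizerHom Q P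
  le_of_mem h := ⟨h.2.1, h.2.2.1⟩
  injective_of_mem h := F.injective_of_mem h.1
  conj_mem := by
    intro P g hP hg
    have hPS : P ≤ S := fun x hx => (hP hx).1
    refine ⟨F.conj_mem hPS hg.1, hP, fun x => ?_, conjHom (P ⊔ Q) g,
      F.conj_mem (sup_le hPS hQ) hg.1, fun x => rfl, ?_⟩
    · exact (normalizerIn S Q).mul_mem ((normalizerIn S Q).mul_mem hg (hP x.2))
        ((normalizerIn S Q).inv_mem hg)
    · ext y
      rw [mem_map_subgroupOf le_sup_right]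
      constructor
      · rintro ⟨x, hx, rfl⟩
        exact (Subgroup.mem_normalizer_iff.1 hg.2 x).1 hx
      · intro hy
        have hy' := (Subgroup.mem_normalizer_iff.1 (Subgroup.inv_mem _ hg.2) y).1 hy
        refine ⟨_, hy', ?_⟩
        show g * (g⁻¹ * y * g⁻¹⁻¹) * g⁻¹ = y
        group
  comp_mem := by
    rintro P P' φ ψ ⟨hφ, hPN, hφN, φ', hφ', hφe, hφQ⟩ ⟨hψ, hP'N, hψN, ψ', hψ', hψe, hψQ⟩ h
    have hval : ∀ y : (P ⊔ Q : Subgroup Ω), φ' y ∈ P' ⊔ Q := by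
      intro y
      refine mem_or_sup_induction (R := P' ⊔ Q) (fun x hx => ?_) (fun x hx => ?_) y
      · have := hφe ⟨x, hx⟩
        have h2 : φ' ⟨x, Subgroup.mem_sup_left hx⟩ = φ ⟨x, hx⟩ := this
        rw [h2]
        exact Subgroup.mem_sup_left (h _)
      · exact Subgroup.mem_sup_right
          (hφQ.le ((mem_map_subgroupOf le_sup_right).2 ⟨x, hx, rfl⟩))
    refine ⟨F.comp_mem hφ hψ h, hPN, fun x => hψN _, ψ'.comp (φ'.codRestrict (P' ⊔ Q) hval),
      F.comp_mem hφ' hψ' hval, fun x => ?_, ?_⟩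
    · show ψ' ⟨φ' _, _⟩ = ψ ⟨φ x, _⟩
      rw [← hψe]
      congr 1
      exact Subtype.ext (hφe x)
    · ext y
      rw [mem_map_subgroupOf le_sup_right]
      constructor
      · rintro ⟨x, hx, rfl⟩
        show ψ' ⟨φ' _, _⟩ ∈ Q
        have h1 : φ' ⟨x, Subgroup.mem_sup_right hx⟩ ∈ Q :=
          hφQ.le ((mem_map_subgroupOf le_sup_right).2 ⟨x, hx, rfl⟩)
        have h2 : ψ' ⟨φ' ⟨x, Subgroup.mem_sup_right hx⟩, Subgroup.mem_sup_right h1⟩ ∈
            (Q.subgroupOf (P' ⊔ Q)).map ψ' :=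
          (mem_map_subgroupOf le_sup_right).2 ⟨_, h1, rfl⟩
        rw [hψQ] at h2
        exact h2
      · intro hy
        rw [← hψQ, mem_map_subgroupOf le_sup_right] at hy
        obtain ⟨z, hz, rfl⟩ := hy
        have hz' := hz
        rw [← hφQ, mem_map_subgroupOf le_sup_right] at hz'
        obtain ⟨x, hx, hxz⟩ := hz'
        refine ⟨x, hx, ?_⟩
        show ψ' ⟨φ' _, _⟩ = _
        congr 1
        exact Subtype.ext hxz
  inv_mem := by
    rintro P φ ⟨hφ, hPN, hφN, φ', hφ', hφe, hφQ⟩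
    have hr : φ.range ⊔ Q ≤ φ'.range := by
      refine sup_le ?_ ?_
      · rintro _ ⟨x, rfl⟩
        exact ⟨_, hφe x⟩
      · intro y hy
        rw [← hφQ] at hy
        obtain ⟨x, -, rfl⟩ := hy
        exact ⟨x, rfl⟩
    obtain ⟨χ, hχ, hχe⟩ := H759.exists_inv F hφ' hr
    have hP : ∀ x : P, χ ⟨φ x, Subgroup.mem_sup_left ⟨x, rfl⟩⟩ = x := by
      intro x
      have h1 := hφe x
      have h2 : φ' (Subgroup.inclusion le_sup_left x) ∈ φ.range ⊔ Q := by
        rw [h1]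
        exact Subgroup.mem_sup_left ⟨x, rfl⟩
      have h3 := hχe _ h2
      have h4 : (⟨φ' (Subgroup.inclusion le_sup_left x), h2⟩ : (φ.range ⊔ Q : Subgroup Ω)) =
          ⟨φ x, Subgroup.mem_sup_left ⟨x, rfl⟩⟩ := Subtype.ext h1
      rw [h4] at h3
      exact h3
    refine ⟨χ.comp (Subgroup.inclusion le_sup_left), ⟨restrict_mem hχ le_sup_left, ?_, ?_, χ, hχ,
      fun x => rfl, ?_⟩, fun x => hP x⟩
    · rintro _ ⟨x, rfl⟩
      exact hφN x
    · rintro ⟨_, x, rfl⟩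
      have := hP x
      show χ ⟨φ x, _⟩ ∈ _
      rw [this]
      exact hPN x.2
    · have hQQ : ∀ (x : Ω) (hx : x ∈ Q), ∃ hy : φ' ⟨x, Subgroup.mem_sup_right hx⟩ ∈ Q,
          χ ⟨φ' ⟨x, Subgroup.mem_sup_right hx⟩, Subgroup.mem_sup_right hy⟩ = x := by
        intro x hx
        have h1 : φ' ⟨x, Subgroup.mem_sup_right hx⟩ ∈ Q :=
          hφQ.le ((mem_map_subgroupOf le_sup_right).2 ⟨x, hx, rfl⟩)
        exact ⟨h1, hχe _ _⟩
      ext y
      rw [mem_map_subgroupOf le_sup_right]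
      constructor
      · rintro ⟨x, hx, rfl⟩
        have hx' := hx
        rw [← hφQ, mem_map_subgroupOf le_sup_right] at hx'
        obtain ⟨z, hz, hzx⟩ := hx'
        obtain ⟨h1, h2⟩ := hQQ z hz
        have h3 : (⟨φ' ⟨z, Subgroup.mem_sup_right hz⟩, Subgroup.mem_sup_right h1⟩ :
          (φ.range ⊔ Q : Subgroup Ω)) = ⟨x, Subgroup.mem_sup_right hx⟩ := Subtype.ext hzx
        rw [h3] at h2
        rw [h2]
        exact hz
      · intro hy
        obtain ⟨h1, h2⟩ := hQQ y hy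
        exact ⟨_, h1, h2⟩

theorem isNormalizerSystem_normSys (F : FusionSystem S) (Q : Subgroup Ω) (hQ : Q ≤ S) :
    F.IsNormalizerSystem Q (normSys F Q hQ) := fun _ => rfl

/-- `Aut_{N_F(Q)}(Q) = Aut_F(Q)`. -/
theorem autGroup_normalizerSystem {F : FusionSystem S} {Q : Subgroup Ω} (hQ : Q ≤ S)
    {N : FusionSystem (normalizerIn S Q)} (hN : F.IsNormalizerSystem Q N) :
    N.autGroup Q = F.autGroup Q := by
  have hQN : Q ≤ normalizerIn S Q := le_normalizerIn hQ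
  ext α
  rw [mem_autGroup_iff N hQN, mem_autGroup_iff F hQ, hN Q]
  constructor
  · exact fun h => h.1
  · intro h
    refine ⟨h, hQN, fun x => hQN (α x).2, ?_⟩
    have hQQ : Q ⊔ Q = Q := sup_idem Q
    have key : ∀ R : Subgroup Ω, R = Q → ∀ hle : Q ≤ R,
        ∃ ψ ∈ F.Hom R, (∀ x : Q, ψ (Subgroup.inclusion hle x) =
          (Q.subtype.comp α.toMonoidHom) x) ∧ (Q.subgroupOf R).map ψ = Q := by
      rintro R rfl hle
      refine ⟨_, h, fun x => rfl, ?_⟩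
      ext y
      rw [mem_map_subgroupOf le_rfl]
      constructor
      · rintro ⟨x, hx, rfl⟩
        exact (α _).2
      · intro hy
        refine ⟨α.symm ⟨y, hy⟩, (α.symm ⟨y, hy⟩).2, ?_⟩
        show ((α (α.symm ⟨y, hy⟩) : R) : Ω) = y
        rw [MulEquiv.apply_symm_apply]
    exact key _ hQQ le_sup_left

/-- In `N_F(Q)` the subgroup `Q` is fully normalized. -/
theorem isFullyNormalized_normalizerSystem [Finite S] {F : FusionSystem S} {Q : Subgroup Ω}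
    (hQ : Q ≤ S) {N : FusionSystem (normalizerIn S Q)} (hN : F.IsNormalizerSystem Q N) :
    N.IsFullyNormalized Q := by
  refine ⟨le_normalizerIn hQ, ?_⟩
  rintro R ⟨φ, hφ, rfl⟩
  have hfin : Finite Q := finite_of_le hQ
  rw [hN Q] at hφ
  obtain ⟨-, -, -, ψ, hψ, hψe, hψQ⟩ := hφ
  have hr : φ.range = Q := by
    apply le_antisymm
    · rintro _ ⟨x, rfl⟩
      rw [← hψe]
      exact hψQ.le ⟨_, x.2, rfl⟩
    · intro y hy
      rw [← hψQ, mem_map_subgroupOf le_sup_right] at hy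
      obtain ⟨x, hx, rfl⟩ := hy
      exact ⟨⟨x, hx⟩, (hψe ⟨x, hx⟩).symm⟩
  rw [hr]

end Cfsg.Agent.H781
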