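import Cfsg.Agent.H781.QuatClosed
import Cfsg.Agent.H269.StrongSylowMain
import Cfsg.Agent.H331.SCExc

/-!
# Strongly closed quaternion subgroups are Sylow 2-subgroups of their normal closure (helper781)

From the theorem of Foote (S1252).
-/

set_option autoImplicit false

namespace Cfsg.Agent.H781.QuatClosed

open Subgroup Cfsg
open scoped commutatorElement

universe u

theorem commutator_eq_of_simple {X : Type*} [Group X] {L : Subgroup X} (hs : IsSimpleGroup L)
    (hna : ∃ a b : L, a * b ≠ b * a) : ⁅L, L⁆ = L := by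
  have h1 : commutator L = ⊤ := by
    rcases (inferInstance : (commutator L).Normal).eq_bot_or_eq_top with h | h
    · exfalso
      obtain ⟨a, b, hab⟩ := hna
      apply hab
      have h2 : ⁅a, b⁆ ∈ commutator L := commutator_mem_commutator (mem_top a) (mem_top b)
      rw [h, mem_bot, commutatorElement_eq_one_iff_mul_comm] at h2
      exact h2
    · exact h
  have h2 := congrArg (Subgroup.map L.subtype) h1
  rw [_root_.commutator_def, map_commutator, ← MonoidHom.range_eq_map, range_subtype] at h2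
  exact h2

theorem exists_normal (hF : H269.FooteStmt.{u}) {G : Type u} [Group G] [Finite G] {n : ℕ} (R : Subgroup G)
    (P : Sylow 2 G) (hR : Cfsg.IsStronglyClosed R (P : Subgroup G)) (e : R ≃* QuaternionGroup (2 ^ (n + 1))) :
    ∃ N : Subgroup G, N.Normal ∧ R ≤ N ∧ ¬ 2 ∣ R.relIndex N := by
  have hp : Fact (Nat.Prime 2) := ⟨Nat.prime_two⟩
  have hR2 : IsPGroup 2 R := P.isPGroup'.to_le hR.1
  obtain ⟨c, z, q⟩ := exists_QD e
  obtain ⟨N, hN, hNo, hmax⟩ := H269.exists_maximal_normal R
  obtain ⟨P', hP'⟩ := H269.stronglyClosed_quotient hR N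
  set π := QuotientGroup.mk' N with hπ
  by_cases hle : R ≤ N
  · refine ⟨N, hN, hle, ?_⟩
    rw [inf_eq_left.2 hle] at hNo
    exact hNo.not_two_dvd_nat
  · exfalso
    have hev : Even ((R.map π).relIndex (normalClosure (R.map π : Set (G ⧸ N)))) := by
      have h1 := hmax (normalClosure (R.map π : Set (G ⧸ N))) inferInstance (by
        intro hbot
        apply hle
        intro x hx
        have h2 : π x ∈ normalClosure (R.map π : Set (G ⧸ N)) := subset_normalClosure ⟨x, hx, rfl⟩
        rw [hbot, mem_bot] at h2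
        exact (QuotientGroup.eq_one_iff x).1 h2)
      have h3 : R.map π ⊓ normalClosure (R.map π : Set (G ⧸ N)) = R.map π :=
        inf_eq_left.2 le_normalClosure
      rwa [h3] at h1
    obtain ⟨hne, r, L, hcomm, hind, hsup, hsimp, hcen⟩ := hF (G ⧸ N) P' (R.map π) hP' hev hmax
    -- there is at least one factor
    have hr : 0 < r := by
      by_contra h0
      have h0' : r = 0 := by omega
      subst h0'
      rw [iSup_of_empty] at hsup
      apply hne
      rw [eq_bot_iff, hsup]
      exact le_normalClosure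
    let i : Fin r := ⟨0, hr⟩
    obtain ⟨Q, hQ⟩ := hcen i
    have hSL := H331.SCExc.sylow_exc (hsimp i).2 Q
    have hnab : ∃ a b : L i, a * b ≠ b * a := by
      obtain ⟨x, y, hxy⟩ := hSL.nab
      exact ⟨x, y, fun h => hxy (Subtype.ext h)⟩
    have hL := commutator_eq_of_simple (hsimp i).1 hnab
    -- the centre of `Q`
    have hmem : ∀ v : G ⧸ N, v ∈ R.map π ⊓ L i ↔
        ∃ w : (Q : Subgroup (L i)), w ∈ center (Q : Subgroup (L i)) ∧ ((w : L i) : G ⧸ N) = v := by
      intro v
      rw [hQ]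
      constructor
      · rintro ⟨_, ⟨w, hw, rfl⟩, rfl⟩
        exact ⟨w, hw, rfl⟩
      · rintro ⟨w, hw, rfl⟩
        exact ⟨_, ⟨w, hw, rfl⟩, rfl⟩
    refine false_of_exc (L := L i) (E := R.map π ⊓ L i) (Q := (Q : Subgroup (L i)).map (L i).subtype) hR2 q hNo hL
      rfl ?_ ?_ ?_ ?_ ?_ ?_
    · rintro _ ⟨x, -, rfl⟩
      exact x.2
    · intro v hv
      obtain ⟨w, -, rfl⟩ := (hmem v).1 hv
      exact ⟨w, w.2, rfl⟩
    · intro v hv p hp'
      obtain ⟨w, hw, rfl⟩ := (hmem v).1 hv
      obtain ⟨p, hp'', rfl⟩ := hp'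
      have h1 := mem_center_iff.1 hw ⟨p, hp''⟩
      exact (congrArg (fun t : (Q : Subgroup (L i)) => ((t : L i) : G ⧸ N)) h1).symm
    · intro v hv
      obtain ⟨w, hw, rfl⟩ := (hmem v).1 hv
      exact congrArg (fun t : (Q : Subgroup (L i)) => ((t : L i) : G ⧸ N)) (hSL.exp w hw)
    · obtain ⟨x, y, hxy, hx1, hx, hy1, hy⟩ := hSL.two
      refine ⟨_, (hmem _).2 ⟨x, hSL.inv x hx, rfl⟩, _, (hmem _).2 ⟨y, hSL.inv y hy, rfl⟩, ?_, ?_, ?_⟩
      · exact fun h => hxy (Subtype.ext (Subtype.ext h))
      · exact fun h => hx1 (Subtype.ext (Subtype.ext h))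
      · exact fun h => hy1 (Subtype.ext (Subtype.ext h))
    · -- an element of order 4
      have h4 : ∃ u : (Q : Subgroup (L i)), u * u ≠ 1 ∧ (u * u) * (u * u) = 1 := by
        by_contra hcon
        push Not at hcon
        have h5 : ∀ k : ℕ, ∀ u : (Q : Subgroup (L i)), u ^ 2 ^ k = 1 → u * u = 1 := by
          intro k
          induction k with
          | zero => intro u hu; rw [pow_zero, pow_one] at hu; rw [hu, one_mul]
          | succ k ih =>
            intro u hu
            by_contra h6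
            have h7 : (u * u) ^ 2 ^ k = 1 := by rw [← pow_two, ← pow_mul, mul_comm, ← pow_succ, hu]
            exact hcon u h6 (ih _ h7)
        have h6 : ∀ u : (Q : Subgroup (L i)), u * u = 1 := fun u => by
          obtain ⟨k, hk⟩ := Q.isPGroup' u
          exact h5 k u hk
        obtain ⟨x, y, hxy⟩ := hSL.nab
        exact hxy ((mem_center_iff.1 (hSL.inv x (h6 x)) y).symm)
      obtain ⟨u, hu1, hu⟩ := h4
      refine ⟨_, ⟨u, u.2, rfl⟩, (hmem _).2 ⟨u * u, hSL.inv _ hu, rfl⟩, ?_⟩
      exact fun h => hu1 (Subtype.ext (Subtype.ext h))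

end Cfsg.Agent.H781.QuatClosed
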