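import Cfsg.Agent.H751.Big.SameFus
import Cfsg.Agent.H781.QuatFoote

/-!
# Good quaternion subgroups are Sylow 2-subgroups of a normal subgroup of `C(z)` (helper781)
-/

set_option autoImplicit false

namespace Cfsg.Agent.H781.GoodNormal

open Subgroup Cfsg Cfsg.Agent.H751.Big

universe u

/-- **Lemma A.** -/
theorem exists_normal (hF : H269.FooteStmt.{u}) {G : Type u} [Group G] [Finite G] {Q : Subgroup G} {z : G}
    (h : Good Q z) : ∃ K : Subgroup G, Q ≤ K ∧ K ≤ centralizer {z} ∧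
      (∀ c ∈ centralizer ({z} : Set G), ∀ x ∈ K, c * x * c⁻¹ ∈ K) ∧ ¬ 2 ∣ Q.relIndex K := by
  have hp : Fact (Nat.Prime 2) := ⟨Nat.prime_two⟩
  set C : Subgroup G := centralizer {z} with hC
  have h1 : IsPGroup 2 (Q.subgroupOf C) := h.isPGroup.comap_subtype
  obtain ⟨P, hP⟩ := h1.exists_le_sylow
  have hQP : Q ≤ (P : Subgroup C).map C.subtype := fun x hx => ⟨⟨x, h.le hx⟩, hP hx, rfl⟩
  have hcl : IsStronglyClosed (Q.subgroupOf C) (P : Subgroup C) := by
    refine ⟨hP, fun x hx g hg => ?_⟩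
    exact h.closed ((P : Subgroup C).map C.subtype) (P.isPGroup'.map _) hQP (map_subtype_le _) x hx g g.2
      ⟨_, hg, rfl⟩
  obtain ⟨n, ⟨e⟩⟩ := h.quat
  obtain ⟨N, hN, hQN, hodd⟩ := QuatClosed.exists_normal hF (Q.subgroupOf C) P hcl
    ((subgroupOfEquivOfLe h.le).trans e)
  refine ⟨N.map C.subtype, fun x hx => ⟨⟨x, h.le hx⟩, hQN hx, rfl⟩, map_subtype_le _, ?_, ?_⟩
  · rintro c hc _ ⟨x, hx, rfl⟩
    exact ⟨_, hN.conj_mem x hx ⟨c, hc⟩, rfl⟩
  · have e1 : Q = (Q.subgroupOf C).map C.subtype := by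
      rw [subgroupOf_map_subtype]; exact (inf_eq_left.2 h.le).symm
    rw [e1, relIndex_map_map_of_injective _ _ C.subtype_injective]
    exact hodd

/-- in the subgroup `K` of Lemma A, `z` is the only involution -/
theorem eq_of_mem {G : Type*} [Group G] [Finite G] {Q K : Subgroup G} {z : G} (h : Good Q z) (hQK : Q ≤ K)
    (hKz : K ≤ centralizer {z}) (hodd : ¬ 2 ∣ Q.relIndex K) {t : G} (ht : t ∈ K) (h2 : orderOf t = 2) : t = z := by
  have hp : Fact (Nat.Prime 2) := ⟨Nat.prime_two⟩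
  have h1 : IsPGroup 2 (Q.subgroupOf K) := h.isPGroup.comap_subtype
  let S : Sylow 2 K := h1.toSylow hodd
  have h3 : IsPGroup 2 (zpowers (⟨t, ht⟩ : K)) := by
    refine IsPGroup.of_card (n := 1) ?_
    rw [Nat.card_zpowers, pow_one, ← h2]
    exact (Subgroup.orderOf_mk t ht)
  obtain ⟨S', hS'⟩ := h3.exists_le_sylow
  obtain ⟨g, hg⟩ := MulAction.exists_smul_eq K S' S
  have h4 : g * ⟨t, ht⟩ * g⁻¹ ∈ (S : Subgroup K) := by
    rw [← hg]
    exact ⟨_, hS' (mem_zpowers _), rfl⟩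
  have h5 : (g : G) * t * (g : G)⁻¹ ∈ Q := h4
  obtain ⟨n, ⟨e⟩⟩ := h.quat
  obtain ⟨c, z', q⟩ := QuatClosed.exists_QD e
  have h6 : ∀ x ∈ Q, orderOf x = 2 → x = z' := by
    intro x hx ho
    rcases q.uniq x hx (by rw [← pow_two, ← ho, pow_orderOf_eq_one]) with h7 | h7
    · rw [h7, orderOf_one] at ho
      norm_num at ho
    · exact h7
  have h7 : (g : G) * t * (g : G)⁻¹ = z := by
    rw [h6 _ h5 ?_, ← h6 z h.mem h.ord]
    rw [← h2]
    exact orderOf_injective (MulAut.conj (g : G)).toMonoidHom (MulAut.conj (g : G)).injective t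
  have h8 := mem_centralizer_singleton_iff.1 (hKz g.2)
  calc t = (g : G)⁻¹ * ((g : G) * t * (g : G)⁻¹) * g := by group
    _ = (g : G)⁻¹ * (z * g) := by rw [h7]; group
    _ = z := by rw [← h8]; group

end Cfsg.Agent.H781.GoodNormal
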