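import Cfsg.Agent.H781.Realized

/-!
# The fusion system of `Q ⋊ A` on `Q` (helper781)

`semi A` for `A ≤ Aut(Q)`: the fusion system over `Q` with maps `x ↦ a β(x) a⁻¹`, `a ∈ Q`, `β ∈ A`; it is saturated
for `Q` a finite `p`-group and `A` of order prime to `p`, and it is contained in every fusion system `F` over `S ≥ Q` with
`A ≤ Aut_F(Q)`.
-/

set_option autoImplicit false

namespace Cfsg.Agent.H781

open Cfsg Cfsg.FusionSystem Cfsg.Agent.H802

variable {Ω : Type*} [Group Ω] {Q : Subgroup Ω}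

/-- The fusion system over `Q` of the semidirect product `Q ⋊ A`. -/
def semi (A : Subgroup (MulAut Q)) : FusionSystem Q :=
  pullback (SemidirectProduct.inl : Q →* Q ⋊[A.subtype] A) SemidirectProduct.inl_injective

theorem mem_semi_iff {A : Subgroup (MulAut Q)} {P : Subgroup Ω} {φ : P →* Ω} :
    φ ∈ (semi A).Hom P ↔ ∃ (hP : P ≤ Q) (a : Q), ∃ β ∈ A, ∀ x : P,
      φ x = (a : Ω) * ((β ⟨x, hP x.2⟩ : Q) : Ω) * (a : Ω)⁻¹ := by
  have key : ∀ (g : Q ⋊[A.subtype] A) (x : Q), g * SemidirectProduct.inl x * g⁻¹ =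
      SemidirectProduct.inl (g.left * ((g.right : MulAut Q) x) * g.left⁻¹) := by
    intro g x
    have h1 := SemidirectProduct.inl_aut (φ := A.subtype) g.right x
    have h2 := (SemidirectProduct.inl_left_mul_inr_right g).symm
    have h3 : ((g.right : MulAut Q) x) = A.subtype g.right x := rfl
    rw [map_mul, map_mul, h3, h1, map_inv]
    conv_lhs => rw [h2]
    rw [mul_inv_rev, map_inv]
    simp only [mul_assoc]
  constructor
  · rintro ⟨hP, hφ, g, hg⟩
    refine ⟨hP, g.left, g.right, g.right.2, fun x => ?_⟩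
    have h1 := hg x
    rw [key] at h1
    have h2 := SemidirectProduct.inl_injective h1
    exact congrArg Subtype.val h2
  · rintro ⟨hP, a, β, hβ, h⟩
    have hv : ∀ x : P, φ x ∈ Q := by
      intro x
      rw [h]
      exact Q.mul_mem (Q.mul_mem a.2 (β _).2) (Q.inv_mem a.2)
    refine ⟨hP, hv, ⟨a, ⟨β, hβ⟩⟩, fun x => ?_⟩
    rw [key]
    congr 1
    exact Subtype.ext (h x)

theorem semi_isRealizedBy (A : Subgroup (MulAut Q)) : (semi A).IsRealizedBy
    (SemidirectProduct.inl : Q →* Q ⋊[A.subtype] A) :=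
  pullback_isRealizedBy _ _

theorem exists_sylow_inl {p : ℕ} [Fact p.Prime] [Finite Q] (hQ : IsPGroup p Q)
    (A : Subgroup (MulAut Q)) (hA : (Nat.card A).Coprime p) :
    ∃ T : Sylow p (Q ⋊[A.subtype] A), (T : Subgroup (Q ⋊[A.subtype] A)) =
      (SemidirectProduct.inl : Q →* Q ⋊[A.subtype] A).range := by
  haveI : Finite (MulAut Q) := Finite.of_injective (fun e : MulAut Q => (e : Q → Q))
    (fun a b h => MulEquiv.ext (fun x => congrFun h x))
  haveI : Finite (Q ⋊[A.subtype] A) := Finite.of_equiv _ SemidirectProduct.equivProd.symm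
  set R := (SemidirectProduct.inl : Q →* Q ⋊[A.subtype] A).range with hR
  have hRp : IsPGroup p R :=
    hQ.of_surjective (SemidirectProduct.inl : Q →* Q ⋊[A.subtype] A).rangeRestrict
      (MonoidHom.rangeRestrict_surjective _)
  have hcR : Nat.card R = Nat.card Q :=
    (Nat.card_congr (MonoidHom.ofInjective
      (SemidirectProduct.inl_injective (φ := A.subtype))).toEquiv).symm
  have hcG : Nat.card (Q ⋊[A.subtype] A) = Nat.card Q * Nat.card A := by
    rw [Nat.card_congr SemidirectProduct.equivProd, Nat.card_prod]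
  have hidx : R.index = Nat.card A := by
    have h1 := R.card_mul_index
    rw [hcG, hcR] at h1
    exact Nat.eq_of_mul_eq_mul_left Nat.card_pos h1
  have hnd : ¬ p ∣ R.index := by
    rw [hidx]
    intro h
    have := Nat.dvd_gcd h (dvd_refl p)
    rw [hA] at this
    exact (Fact.out : p.Prime).one_lt.ne' (Nat.dvd_one.1 this)
  exact ⟨hRp.toSylow hnd, rfl⟩

theorem semi_isSaturated {p : ℕ} [Fact p.Prime] [Finite Q] (hQ : IsPGroup p Q)
    (A : Subgroup (MulAut Q)) (hA : (Nat.card A).Coprime p) : (semi A).IsSaturated p := by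
  haveI : Finite (MulAut Q) := Finite.of_injective (fun e : MulAut Q => (e : Q → Q))
    (fun a b h => MulEquiv.ext (fun x => congrFun h x))
  haveI : Finite (Q ⋊[A.subtype] A) := Finite.of_equiv _ SemidirectProduct.equivProd.symm
  obtain ⟨T, hT⟩ := exists_sylow_inl hQ A hA
  exact isSaturated_of_isRealizedBy (semi_isRealizedBy A) T hT

/-- `semi A` is contained in every fusion system `F` with `A ≤ Aut_F(Q)`. -/
theorem semi_le {S : Subgroup Ω} {F : FusionSystem S} (hQS : Q ≤ S) {A : Subgroup (MulAut Q)}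
    (hA : A ≤ F.autGroup Q) : (semi A).IsSubsystemOf F := by
  intro P φ hφ
  obtain ⟨hP, a, β, hβ, h⟩ := mem_semi_iff.1 hφ
  have h1 := (mem_autGroup_iff F hQS β).1 (hA hβ)
  have h2 := restrict_mem h1 hP
  obtain ⟨χ, hχ, he⟩ := exists_comp h2 (F.conj_mem hQS (hQS a.2))
    (fun x => (β (Subgroup.inclusion hP x)).2)
  refine mem_of_apply_eq hχ (fun x => ?_)
  rw [he, h]
  rfl

/-- `Aut(Q)` in `semi A`. -/
theorem mem_autGroup_semi {A : Subgroup (MulAut Q)} {α : MulAut Q} :
    α ∈ (semi A).autGroup Q ↔ ∃ (a : Q), ∃ β ∈ A, α = MulAut.conj a * β := by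
  rw [mem_autGroup_iff _ le_rfl, mem_semi_iff]
  constructor
  · rintro ⟨_, a, β, hβ, h⟩
    refine ⟨a, β, hβ, MulEquiv.ext fun x => Subtype.ext ?_⟩
    exact h x
  · rintro ⟨a, β, hβ, rfl⟩
    exact ⟨le_rfl, a, β, hβ, fun x => rfl⟩

end Cfsg.Agent.H781
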