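import Cfsg.Agent.H781.Realized
import Cfsg.Agent.H355.FocalTwo

/-!
# Soft facts on realized fusion systems (helper781)

`F` a fusion system over `S` realized by `ι : S →* G` with image a Sylow `p`-subgroup `T` of the finite group `G`.

* `exists_not_isPGroup` : an element normalizing but not centralizing a `p`-subgroup of `G`, some power of which prime to
  `p` centralizes it, gives an automorphism group of `F` that is not a `p`-group.
* `exists_index_two_sub` : a normal subgroup of `G` of index two gives an `F`-invariant subgroup of index two of `S`.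
* `exists_normal_index_two` : conversely.
* `exists_central_involution` : a central involution of `G` gives an involution of `Z(S)` fixed by all maps of `F`.
-/

set_option autoImplicit false

namespace Cfsg.Agent.H781

open Cfsg Cfsg.FusionSystem Cfsg.Agent.H802
open scoped commutatorElement

variable {Ω : Type*} [Group Ω] {S : Subgroup Ω} {G : Type*} [Group G]

/-- The maps of a realized system: pointwise form. -/
theorem mem_of_realized {F : FusionSystem S} {ι : S →* G} (h : F.IsRealizedBy ι) {P : Subgroup Ω}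
    (hP : P ≤ S) {φ : P →* Ω} (g : G)
    (hφ : ∀ x : P, ∃ hx : φ x ∈ S, ι ⟨φ x, hx⟩ = g * ι ⟨x, hP x.2⟩ * g⁻¹) : φ ∈ F.Hom P := by
  choose h1 h2 using hφ
  exact (h.2 P hP φ h1).2 ⟨g, h2⟩

theorem exists_elt_of_realized {F : FusionSystem S} {ι : S →* G} (h : F.IsRealizedBy ι)
    {P : Subgroup Ω} {φ : P →* Ω} (hφ : φ ∈ F.Hom P) :
    ∃ g : G, ∀ (x : P) (hx : (x : Ω) ∈ S) (hy : φ x ∈ S), ι ⟨φ x, hy⟩ = g * ι ⟨x, hx⟩ * g⁻¹ := by
  obtain ⟨g, hg⟩ := (h.2 P (hom_le hφ) φ (hom_apply_mem hφ)).1 hφ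
  exact ⟨g, fun x _ _ => hg x⟩

theorem exists_not_isPGroup [Finite G] {p : ℕ} [Fact p.Prime] {F : FusionSystem S} {ι : S →* G}
    (h : F.IsRealizedBy ι) (T : Sylow p G) (hT : (T : Subgroup G) = ι.range) {Q₀ : Subgroup G}
    (hQ₀ : IsPGroup p Q₀) {w : G} (hw : w ∈ Subgroup.normalizer (Q₀ : Set G))
    (hwc : w ∉ Subgroup.centralizer (Q₀ : Set G)) {m : ℕ} (hm : m.Coprime p)
    (hwm : w ^ m ∈ Subgroup.centralizer (Q₀ : Set G)) :
    ∃ Q : Subgroup Ω, Q ≤ S ∧ ¬ IsPGroup p (F.autGroup Q) := by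
  classical
  obtain ⟨k, -, hk⟩ := (sylIn_top_of_sylow T).exists_conj (B := Q₀) le_top hQ₀
  set e := MonoidHom.ofInjective h.1 with he
  -- the conjugate of `w`
  set v : G := k * w * k⁻¹ with hv
  have hvQ : ∀ q ∈ Q₀, v * (k * q * k⁻¹) * v⁻¹ = k * (w * q * w⁻¹) * k⁻¹ := by
    intro q _; rw [hv]; group
  set Q : Subgroup Ω := ((Q₀.map (MulAut.conj k).toMonoidHom).comap ι).map S.subtype with hQ
  have hQS : Q ≤ S := by
    rintro _ ⟨x, -, rfl⟩
    exact x.2
  have hmem : ∀ x : S, (x : Ω) ∈ Q ↔ ∃ q ∈ Q₀, k * q * k⁻¹ = ι x := by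
    intro x
    constructor
    · rintro ⟨y, ⟨q, hq, hqy⟩, hyx⟩
      have : y = x := Subtype.ext hyx
      subst this
      exact ⟨q, hq, hqy⟩
    · rintro ⟨q, hq, hqx⟩
      exact ⟨x, ⟨q, hq, hqx⟩, rfl⟩
  have hinj := h.1
  have hrange : ∀ q ∈ Q₀, ∃ x : S, ι x = k * q * k⁻¹ := by
    intro q hq
    have h1 := hk q hq
    rw [hT] at h1
    exact h1
  have hval : ∀ x : Q, v * ι ⟨x, hQS x.2⟩ * v⁻¹ ∈ ι.range := by
    intro x
    obtain ⟨q, hq, hqx⟩ := (hmem ⟨x, hQS x.2⟩).1 x.2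
    rw [← hqx, hvQ q hq]
    exact hrange _ ((Subgroup.mem_normalizer_iff.1 hw q).1 hq)
  -- the map
  let φ : Q →* Ω := S.subtype.comp (e.symm.toMonoidHom.comp
    (((MulAut.conj v).toMonoidHom.comp (ι.comp (Subgroup.inclusion hQS))).codRestrict ι.range hval))
  have hφS : ∀ x : Q, φ x ∈ S := fun x => (e.symm _).2
  have hφe : ∀ (x : Q), ι ⟨φ x, hφS x⟩ = v * ι ⟨x, hQS x.2⟩ * v⁻¹ := by
    intro x
    have h1 : (⟨φ x, hφS x⟩ : S) = e.symm ⟨v * ι ⟨x, hQS x.2⟩ * v⁻¹, hval x⟩ := rfl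
    rw [h1]
    have h2 := e.apply_symm_apply ⟨v * ι ⟨x, hQS x.2⟩ * v⁻¹, hval x⟩
    exact congrArg Subtype.val h2
  have hφF : φ ∈ F.Hom Q := mem_of_realized h hQS v (fun x => ⟨hφS x, hφe x⟩)
  have hφQ : ∀ x : Q, φ x ∈ Q := by
    intro x
    obtain ⟨q, hq, hqx⟩ := (hmem ⟨x, hQS x.2⟩).1 x.2
    rw [show φ x = ((⟨φ x, hφS x⟩ : S) : Ω) from rfl, hmem, hφe, ← hqx, hvQ q hq]
    exact ⟨_, (Subgroup.mem_normalizer_iff.1 hw q).1 hq, rfl⟩
  have : Finite S := Finite.of_injective ι h.1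
  have : Finite Q := finite_of_le hQS
  obtain ⟨α, hα, hαe⟩ := exists_aut hφF (range_eq_of_mapsTo hφF hφQ)
  have hαι : ∀ (n : ℕ) (x : Q), ι ⟨((α ^ n) x : Q), hQS ((α ^ n) x).2⟩ =
      v ^ n * ι ⟨x, hQS x.2⟩ * (v ^ n)⁻¹ := by
    intro n
    induction n with
    | zero => intro x; simp
    | succ n ih =>
      intro x
      have h1 : (⟨((α ^ (n + 1)) x : Q), hQS ((α ^ (n + 1)) x).2⟩ : S) =
          ⟨((α ^ n) (α x) : Q), hQS ((α ^ n) (α x)).2⟩ := by
        apply Subtype.ext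
        show (((α ^ (n + 1)) x : Q) : Ω) = (((α ^ n) (α x) : Q) : Ω)
        rw [pow_succ, MulAut.mul_apply]
      rw [h1, ih]
      have h2 : (⟨((α x : Q) : Ω), hQS (α x).2⟩ : S) = ⟨φ x, hφS x⟩ := Subtype.ext (hαe x)
      rw [h2, hφe, pow_succ]
      group
  refine ⟨Q, hQS, fun hp => ?_⟩
  obtain ⟨n, hn⟩ := hp ⟨α, hα⟩
  have hn' : α ^ p ^ n = 1 := congrArg Subtype.val hn
  have hm' : α ^ m = 1 := by
    apply MulEquiv.ext
    intro x
    apply Subtype.ext
    obtain ⟨q, hq, hqx⟩ := (hmem ⟨x, hQS x.2⟩).1 x.2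
    have h1 := hαι m x
    have h2 : v ^ m * ι ⟨x, hQS x.2⟩ * (v ^ m)⁻¹ = ι ⟨x, hQS x.2⟩ := by
      rw [← hqx]
      have h3 : v ^ m = k * w ^ m * k⁻¹ := by rw [hv, conj_pow]
      have h4 : q * w ^ m = w ^ m * q := Subgroup.mem_centralizer_iff.1 hwm q hq
      rw [h3]
      calc k * w ^ m * k⁻¹ * (k * q * k⁻¹) * (k * w ^ m * k⁻¹)⁻¹
          = k * (w ^ m * q) * (w ^ m)⁻¹ * k⁻¹ := by group
        _ = k * q * k⁻¹ := by rw [← h4]; group
    rw [h2] at h1
    exact Subtype.mk.inj (hinj h1)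
  have h1 : orderOf α ∣ Nat.gcd m (p ^ n) :=
    Nat.dvd_gcd (orderOf_dvd_of_pow_eq_one hm') (orderOf_dvd_of_pow_eq_one hn')
  rw [Nat.Coprime.gcd_eq_one (Nat.Coprime.pow_right n hm), Nat.dvd_one, orderOf_eq_one_iff] at h1
  apply hwc
  rw [Subgroup.mem_centralizer_iff]
  intro q hq
  obtain ⟨s, hs⟩ := hrange q hq
  have hsQ : (s : Ω) ∈ Q := (hmem s).2 ⟨q, hq, hs.symm⟩
  have h2 := hαι 1 ⟨s, hsQ⟩
  rw [h1] at h2
  have h3 : ι s = v ^ 1 * ι s * (v ^ 1)⁻¹ := h2
  rw [pow_one, hs, hvQ q hq] at h3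
  have h4 : q = w * q * w⁻¹ := mul_left_cancel (mul_right_cancel h3)
  exact eq_mul_inv_iff_mul_eq.1 h4

/-- A normal subgroup of index two of `G` gives an invariant subgroup of index two of `S`. -/
theorem exists_index_two_sub [Finite G] {F : FusionSystem S} {ι : S →* G}
    (h : F.IsRealizedBy ι) (T : Sylow 2 G) (hT : (T : Subgroup G) = ι.range) {N : Subgroup G}
    (hN : N.Normal) (hNi : N.index = 2) :
    ∃ K : Subgroup Ω, K ≤ S ∧ K ≠ S ∧ (K.subgroupOf S).index = 2 ∧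
      ∀ (P : Subgroup Ω) (φ : P →* Ω), φ ∈ F.Hom P → ∀ x : P, (φ x ∈ K ↔ (x : Ω) ∈ K) := by
  set K : Subgroup Ω := (N.comap ι).map S.subtype with hK
  have hKS : K ≤ S := by
    rintro _ ⟨x, -, rfl⟩
    exact x.2
  have hmem : ∀ x : S, (x : Ω) ∈ K ↔ ι x ∈ N := by
    intro x
    constructor
    · rintro ⟨y, hy, hyx⟩
      have : y = x := Subtype.ext hyx
      subst this
      exact hy
    · intro hx
      exact ⟨x, hx, rfl⟩
  have hsub : K.subgroupOf S = N.comap ι := by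
    ext x
    rw [Subgroup.mem_subgroupOf, hmem]
    rfl
  have hTN : ¬ (T : Subgroup G) ≤ N := by
    intro hle
    have h1 : (T : Subgroup G).index = (T : Subgroup G).relIndex N * N.index :=
      (Subgroup.relIndex_mul_index hle).symm
    exact T.not_dvd_index (by rw [h1, hNi]; exact dvd_mul_left _ _)
  have hidx : (K.subgroupOf S).index = 2 := by
    rw [hsub]
    have h1 : (N.comap ι).index ∣ N.index := by
      rw [Subgroup.index_comap]
      exact Subgroup.relIndex_dvd_index_of_normal N ι.range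
    rw [hNi] at h1
    rcases (Nat.dvd_prime Nat.prime_two).1 h1 with h2 | h2
    · exfalso
      apply hTN
      rw [hT]
      rintro _ ⟨x, rfl⟩
      rw [Subgroup.index_eq_one] at h2
      have : x ∈ N.comap ι := by rw [h2]; trivial
      exact this
    · exact h2
  refine ⟨K, hKS, ?_, hidx, ?_⟩
  · intro hKe
    rw [hKe, Subgroup.subgroupOf_self, Subgroup.index_top] at hidx
    exact absurd hidx (by norm_num)
  · intro P φ hφ x
    obtain ⟨g, hg⟩ := exists_elt_of_realized h hφ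
    have hx : (x : Ω) ∈ S := hom_le hφ x.2
    have hy : φ x ∈ S := hom_apply_mem hφ x
    rw [show φ x = ((⟨φ x, hy⟩ : S) : Ω) from rfl, show (x : Ω) = ((⟨x, hx⟩ : S) : Ω) from rfl,
      hmem, hmem, hg x hx hy]
    constructor
    · intro h1
      have := hN.conj_mem _ h1 g⁻¹
      have e : g⁻¹ * (g * ι ⟨x, hx⟩ * g⁻¹) * g⁻¹⁻¹ = ι ⟨x, hx⟩ := by group
      rwa [e] at this
    · intro h1
      exact hN.conj_mem _ h1 g

/-- **Focal subgroup theorem**: an invariant subgroup of index two of `S` gives a normal subgroup of index two. -/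
theorem exists_normal_index_two [Finite G] {F : FusionSystem S} {ι : S →* G}
    (h : F.IsRealizedBy ι) (T : Sylow 2 G) (hT : (T : Subgroup G) = ι.range) {K : Subgroup Ω}
    (hKi : (K.subgroupOf S).index = 2)
    (hinv : ∀ (P : Subgroup Ω) (φ : P →* Ω), φ ∈ F.Hom P → ∀ x : P, (φ x ∈ K ↔ (x : Ω) ∈ K)) :
    ∃ N : Subgroup G, N.Normal ∧ N.index = 2 := by
  set P : Subgroup G := (K.subgroupOf S).map ι with hP
  have hPT : P ≤ (T : Subgroup G) := by
    rw [hT]
    rintro _ ⟨x, -, rfl⟩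
    exact ⟨x, rfl⟩
  have hmem : ∀ x : S, ι x ∈ P ↔ (x : Ω) ∈ K := by
    intro x
    constructor
    · rintro ⟨y, hy, hyx⟩
      have := h.1 hyx
      subst this
      exact hy
    · intro hx
      exact ⟨x, hx, rfl⟩
  have hrel : P.relIndex (T : Subgroup G) = 2 := by
    have h1 : P.relIndex ι.range = (P.comap ι).index := (Subgroup.index_comap P ι).symm
    have h2 : P.comap ι = K.subgroupOf S := by
      ext x
      rw [Subgroup.mem_comap, hmem]
      rfl
    rw [hT, h1, h2, hKi]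
  obtain ⟨N, hN, hNi, -⟩ := H355.FocalTwo.exists_index_two T P hPT hrel (by
    rw [Subgroup.focalSubgroup_def, Subgroup.closure_le]
    rintro _ ⟨hcT, x, hx, u, rfl⟩
    -- `[x, u] = x (u x u⁻¹)⁻¹`
    have e1 : ⁅x, u⁆ = x * (u * x * u⁻¹)⁻¹ := by rw [commutatorElement_def]; group
    have hy : u * x * u⁻¹ ∈ (T : Subgroup G) := by
      have h2 : u * x * u⁻¹ = ⁅x, u⁆⁻¹ * x := by rw [e1]; group
      rw [h2]
      exact (T : Subgroup G).mul_mem ((T : Subgroup G).inv_mem hcT) hx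
    rw [hT] at hx hy
    obtain ⟨a, rfl⟩ := hx
    obtain ⟨b, hb⟩ := hy
    -- the map `⟨a⟩ → ⟨b⟩`
    have hconj : ∀ y : Subgroup.zpowers (a : Ω), ∃ (hyS : (y : Ω) ∈ S) (c : S),
        ι c = u * ι ⟨y, hyS⟩ * u⁻¹ := by
      rintro ⟨_, n, rfl⟩
      refine ⟨S.zpow_mem a.2 n, b ^ n, ?_⟩
      have h3 : (⟨(fun x => (a : Ω) ^ x) n, S.zpow_mem a.2 n⟩ : S) = a ^ n := Subtype.ext rfl
      rw [h3, map_zpow, map_zpow, hb, conj_zpow]
    choose hyS c hc using hconj
    let φ : Subgroup.zpowers (a : Ω) →* Ω :=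
      { toFun := fun y => (c y : Ω)
        map_one' := by
          have h4 : c 1 = 1 := h.1 (by
            rw [hc, map_one]
            have h5 : (⟨((1 : Subgroup.zpowers (a : Ω)) : Ω), hyS 1⟩ : S) = 1 := Subtype.ext rfl
            rw [h5, map_one]
            group)
          rw [h4]; rfl
        map_mul' := fun y z => by
          have h4 : c (y * z) = c y * c z := h.1 (by
            rw [map_mul, hc, hc, hc]
            have h5 : (⟨((y * z : Subgroup.zpowers (a : Ω)) : Ω), hyS (y * z)⟩ : S) =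
                ⟨y, hyS y⟩ * ⟨z, hyS z⟩ := Subtype.ext rfl
            rw [h5, map_mul]
            group)
          rw [h4]; rfl }
    have hφF : φ ∈ F.Hom (Subgroup.zpowers (a : Ω)) :=
      mem_of_realized h (fun y hy => hyS ⟨y, hy⟩) u (fun y => ⟨(c y).2, hc y⟩)
    have hφa : φ ⟨a, Subgroup.mem_zpowers _⟩ = b := by
      have h4 : c ⟨a, Subgroup.mem_zpowers _⟩ = b := h.1 (by rw [hc, hb])
      exact congrArg Subtype.val h4
    have hiff := hinv _ φ hφF ⟨a, Subgroup.mem_zpowers _⟩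
    rw [hφa] at hiff
    -- index two: `a b⁻¹ ∈ K`
    have hab : (a * b⁻¹ : S) ∈ K.subgroupOf S := by
      have h5 := Subgroup.mul_mem_iff_of_index_two hKi (a := a) (b := b⁻¹)
      rw [h5]
      show ((a : Ω) ∈ K ↔ (b⁻¹ : S) ∈ K.subgroupOf S)
      rw [Subgroup.inv_mem_iff]
      exact hiff.symm
    show ⁅ι a, u⁆ ∈ P
    rw [e1, ← hb, ← map_inv, ← map_mul, hmem]
    exact hab)
  exact ⟨N, hN, hNi⟩

/-- A central involution of `G` gives a central involution of `S` fixed by all maps of `F`. -/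
theorem exists_central_involution [Finite G] {F : FusionSystem S} {ι : S →* G}
    (h : F.IsRealizedBy ι) (T : Sylow 2 G) (hT : (T : Subgroup G) = ι.range) {c : G}
    (hc : orderOf c = 2) (hcc : ∀ g : G, g * c = c * g) :
    ∃ z ∈ S, orderOf z = 2 ∧ (∀ s ∈ S, s * z = z * s) ∧
      ∀ (P : Subgroup Ω) (φ : P →* Ω), φ ∈ F.Hom P → ∀ (hz : z ∈ P), φ ⟨z, hz⟩ = z := by
  have : Fact (Nat.Prime 2) := ⟨Nat.prime_two⟩
  have hcT : c ∈ (T : Subgroup G) := by
    have h1 : IsPGroup 2 (Subgroup.zpowers c) := by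
      refine IsPGroup.of_card (n := 1) ?_
      rw [Nat.card_zpowers, hc, pow_one]
    have hn : (Subgroup.zpowers c).Normal := by
      constructor
      rintro _ ⟨n, rfl⟩ g
      refine ⟨n, ?_⟩
      have : g * c ^ n = c ^ n * g := (show Commute g c from hcc g).zpow_right n
      show c ^ n = g * c ^ n * g⁻¹
      rw [this]
      group
    exact (h1.le_sylow_of_normal T) (Subgroup.mem_zpowers c)
  rw [hT] at hcT
  obtain ⟨z, hz⟩ := hcT
  have hzo : orderOf z = 2 := by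
    rw [← orderOf_injective ι h.1 z, hz, hc]
  refine ⟨z, z.2, ?_, ?_, ?_⟩
  · rw [Subgroup.orderOf_coe, hzo]
  · intro s hs
    have h1 : (⟨s, hs⟩ : S) * z = z * ⟨s, hs⟩ := h.1 (by rw [map_mul, map_mul, hz, hcc])
    exact congrArg Subtype.val h1
  · intro P φ hφ hzP
    obtain ⟨g, hg⟩ := exists_elt_of_realized h hφ
    have h1 := hg ⟨z, hzP⟩ z.2 (hom_apply_mem hφ _)
    have h2 : (⟨((⟨z, hzP⟩ : P) : Ω), z.2⟩ : S) = z := rfl
    rw [h2, hz, hcc, mul_inv_cancel_right, ← hz] at h1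
    exact congrArg Subtype.val (h.1 h1)

end Cfsg.Agent.H781
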