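import Cfsg.Agent.H355.LspDefs
import Cfsg.Agent.Classification.DihStructure
import Cfsg.Agent.StandardComponent.AltAut
import Cfsg.Agent.S0251
import Cfsg.Agent.S1012

/-!
# Groups with dihedral Sylow 2-subgroups: the subgroup generated by the 2-elements (helper781, S3392 LSP-E)
-/

set_option autoImplicit false

namespace Cfsg.Agent.H781.DihLL

open Subgroup Cfsg Cfsg.Agent.H355.Lsp Cfsg.Agent.Classification.DihedralCentral Cfsg.Agent.Classification.DihReduction
open Equiv (Perm swap)

/-- the third alternative of `Cond` -/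
def Psl (T : Type*) [Group T] : Prop :=
  ∃ (F : Type) (_ : Field F) (_ : Fintype F) (A : Subgroup (MulAut (Matrix.ProjectiveSpecialLinearGroup (Fin 2) F))),
      (MulAut.conj : Matrix.ProjectiveSpecialLinearGroup (Fin 2) F →* _).range ≤ A ∧ Nonempty (T ≃* ↥A)

theorem Psl.cond {T : Type*} [Group T] (h : Psl T) : Cond T := Or.inr (Or.inr h)

theorem Psl.congr {T T' : Type*} [Group T] [Group T'] (e : T ≃* T') (h : Psl T) : Psl T' := by
  obtain ⟨F, i1, i2, A, hA, ⟨f⟩⟩ := h
  exact ⟨F, i1, i2, A, hA, ⟨e.symm.trans f⟩⟩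

theorem mem_LL {G : Type*} [Group G] {g : G} {n : ℕ} (h : orderOf g = 2 ^ n) : g ∈ LL G := subset_closure ⟨n, h⟩

theorem mem_LL_two {G : Type*} [Group G] {g : G} (h : g * g = 1) : g ∈ LL G := by
  by_cases h1 : g = 1
  · rw [h1]; exact one_mem _
  · exact mem_LL (n := 1) (by rw [pow_one]; exact orderOf_eq_prime (by rw [pow_two]; exact h) h1)

theorem LL_map {G H : Type*} [Group G] [Group H] (e : G ≃* H) : (LL G).map e.toMonoidHom = LL H := by
  rw [LL, MonoidHom.map_closure]
  congr 1
  ext y
  constructor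
  · rintro ⟨x, ⟨n, hx⟩, rfl⟩
    exact ⟨n, by rw [← hx]; exact orderOf_injective e.toMonoidHom e.injective x⟩
  · rintro ⟨n, hy⟩
    exact ⟨e.symm y, ⟨n, by rw [← hy]; exact orderOf_injective e.symm.toMonoidHom e.symm.injective y⟩,
      e.apply_symm_apply y⟩

/-- transport -/
noncomputable def LLEquiv {G H : Type*} [Group G] [Group H] (e : G ≃* H) : LL G ≃* LL H :=
  ((LL G).equivMapOfInjective e.toMonoidHom e.injective).trans (MulEquiv.subgroupCongr (LL_map e))

theorem LL_map_le {G H : Type*} [Group G] [Group H] (f : G →* H) (hf : Function.Injective f) : (LL G).map f ≤ LL H := by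
  rw [LL, MonoidHom.map_closure, closure_le]
  rintro _ ⟨x, ⟨n, hx⟩, rfl⟩
  exact mem_LL (n := n) (by rw [orderOf_injective f hf, hx])

/-- a group with a self-centralising normal `PSL₂` -/
theorem psl_of_normal {T : Type*} [Group T] (L : Subgroup T) [L.Normal] (hC : centralizer (L : Set T) = ⊥)
    {F : Type} [Field F] [Fintype F] (e : L ≃* Matrix.ProjectiveSpecialLinearGroup (Fin 2) F) : Psl T := by
  let Φ : T →* MulAut (Matrix.ProjectiveSpecialLinearGroup (Fin 2) F) :=
    (MulAut.congr e).toMonoidHom.comp MulAut.conjNormal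
  have hΦ : ∀ t x, Φ t x = e (MulAut.conjNormal t (e.symm x)) := fun t x => rfl
  have hinj : Function.Injective Φ := by
    rw [injective_iff_map_eq_one]
    intro t ht
    have h1 : t ∈ centralizer (L : Set T) := by
      rw [mem_centralizer_iff]
      intro l hl
      have h2 := hΦ t (e ⟨l, hl⟩)
      rw [ht, e.symm_apply_apply] at h2
      have h3 := congrArg Subtype.val (e.injective h2)
      rw [MulAut.conjNormal_apply] at h3
      have h4 : l = t * l * t⁻¹ := h3
      calc l * t = t * l * t⁻¹ * t := by rw [← h4]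
        _ = t * l := by group
    rwa [hC, mem_bot] at h1
  refine ⟨F, inferInstance, inferInstance, Φ.range, ?_, ⟨MonoidHom.ofInjective hinj⟩⟩
  rintro _ ⟨x, rfl⟩
  refine ⟨(e.symm x : L), ?_⟩
  ext1 y
  rw [hΦ, MulAut.conj_apply]
  have h1 : MulAut.conjNormal ((e.symm x : L) : T) (e.symm y) = e.symm (x * y * x⁻¹) := by
    apply Subtype.ext
    rw [MulAut.conjNormal_apply, map_mul, map_mul, map_inv]
    rfl
  rw [h1, e.apply_symm_apply]

/-- the same for `LL` -/
theorem psl_LL {Y : Type*} [Group Y] (L : Subgroup Y) [L.Normal] (hC : centralizer (L : Set Y) = ⊥) (hL : L ≤ LL Y)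
    {F : Type} [Field F] [Fintype F] (e : L ≃* Matrix.ProjectiveSpecialLinearGroup (Fin 2) F) : Psl (LL Y) := by
  have hn : (L.subgroupOf (LL Y)).Normal := inferInstance
  refine psl_of_normal (L.subgroupOf (LL Y)) ?_ ((subgroupOfEquivOfLe hL).trans e)
  rw [eq_bot_iff]
  intro x hx
  rw [mem_bot]
  apply Subtype.ext
  have h1 : (x : Y) ∈ centralizer (L : Set Y) := by
    rw [mem_centralizer_iff]
    intro l hl
    have h2 := mem_centralizer_iff.1 hx ⟨l, hL hl⟩ hl
    exact congrArg Subtype.val h2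
  rw [hC, mem_bot] at h1
  exact h1

/-- simple groups of even order -/
theorem LL_eq_top {L : Type*} [Group L] [IsSimpleGroup L] {z : L} (hz : z ≠ 1) (hzz : z * z = 1) : LL L = ⊤ := by
  have hn : (LL L).Normal := by
    refine ⟨fun x hx g => ?_⟩
    have h1 := LL_map (MulAut.conj g)
    rw [← h1]
    exact ⟨x, hx, rfl⟩
  rcases hn.eq_bot_or_eq_top with h | h
  · have h1 := mem_LL_two hzz
    rw [h, mem_bot] at h1
    exact absurd h1 hz
  · exact h

theorem le_LL {Y : Type*} [Group Y] (L : Subgroup Y) [IsSimpleGroup L] {z : L} (hz : z ≠ 1) (hzz : z * z = 1) :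
    L ≤ LL Y := by
  have h1 := LL_map_le L.subtype L.subtype_injective
  rw [LL_eq_top hz hzz] at h1
  rw [← MonoidHom.range_eq_map, L.range_subtype] at h1
  exact h1

/-! ### `S₄` and `A₄` -/

theorem LL_perm : LL (Perm (Fin 4)) = ⊤ := by
  rw [eq_top_iff, ← Equiv.Perm.closure_isSwap, closure_le]
  rintro _ ⟨i, j, -, rfl⟩
  exact mem_LL_two (Equiv.swap_mul_self i j)

theorem centralizer_alt_four : centralizer (alternatingGroup (Fin 4) : Set (Perm (Fin 4))) = ⊥ := by
  rw [eq_bot_iff]
  intro x hx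
  rw [mem_centralizer_iff] at hx
  have h1 : ∀ y ∈ alternatingGroup (Fin 4), y * x = x * y := hx
  have key : ∀ x : Perm (Fin 4), (∀ y : Perm (Fin 4), Equiv.Perm.sign y = 1 → y * x = x * y) → x = 1 := by decide
  rw [mem_bot]
  exact key x fun y hy => h1 y (Equiv.Perm.mem_alternatingGroup.2 hy)

theorem psl_perm : Psl (LL (Perm (Fin 4))) := by
  obtain ⟨e⟩ := Cfsg.Agent.S0251.result (F := ZMod 3) (by rw [ZMod.card])
  exact psl_LL (alternatingGroup (Fin 4)) centralizer_alt_four (by rw [LL_perm]; exact le_top) e.symm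

section Klein

variable {Y : Type*} [Group Y] {V : Subgroup Y}

theorem klein_sq (hV : IsKleinFour V) {v : Y} (hv : v ∈ V) : v * v = 1 :=
  congrArg Subtype.val (hV.mul_self ⟨v, hv⟩)

theorem klein_comm (hV : IsKleinFour V) {v w : Y} (hv : v ∈ V) (hw : w ∈ V) : v * w = w * v := by
  have h1 := klein_sq hV hv
  have h2 := klein_sq hV hw
  have h3 := klein_sq hV (V.mul_mem hv hw)
  have h4 : v⁻¹ = v := inv_eq_of_mul_eq_one_left h1
  have h5 : w⁻¹ = w := inv_eq_of_mul_eq_one_left h2
  have h6 : (v * w)⁻¹ = v * w := inv_eq_of_mul_eq_one_left h3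
  rw [← h6, mul_inv_rev, h4, h5]

/-- three different elements of a Klein four-group -/
theorem klein_cases (hV : IsKleinFour V) {v w x : Y} (hv : v ∈ V) (hw : w ∈ V) (hx : x ∈ V) (h1 : v ≠ 1) (h2 : w ≠ 1)
    (h3 : v ≠ w) : x = 1 ∨ x = v ∨ x = w ∨ x = v * w := by
  by_contra hcon
  push Not at hcon
  obtain ⟨a1, a2, a3, a4⟩ := hcon
  have h4 : v * w ≠ 1 := by
    intro h
    apply h3
    rw [← inv_eq_of_mul_eq_one_left (klein_sq hV hw)]
    exact eq_inv_of_mul_eq_one_left h
  have h5 : Nat.card V = 4 := hV.card_four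
  have hfin : Finite V := Nat.finite_of_card_ne_zero (by rw [h5]; norm_num)
  let f : Fin 5 → V := ![1, ⟨v, hv⟩, ⟨w, hw⟩, ⟨v * w, V.mul_mem hv hw⟩, ⟨x, hx⟩]
  have hf : Function.Injective f := by
    have e1 : v * w ≠ v := by
      intro h; exact h2 (mul_eq_left.1 h)
    have e2 : v * w ≠ w := by
      intro h; exact h1 (mul_eq_right.1 h)
    intro i j hij
    have hij' := congrArg Subtype.val hij
    fin_cases i <;> fin_cases j <;> simp [f] at hij' <;>
      first
        | rfl
        | (exfalso; first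
            | exact h1 hij' | exact h1 hij'.symm | exact h2 hij' | exact h2 hij'.symm | exact h3 hij' | exact h3 hij'.symm
            | exact h4 hij' | exact h4 hij'.symm | exact e1 hij' | exact e1 hij'.symm | exact e2 hij' | exact e2 hij'.symm
            | exact a1 hij' | exact a1 hij'.symm | exact a2 hij' | exact a2 hij'.symm | exact a3 hij' | exact a3 hij'.symm
            | exact a4 hij' | exact a4 hij'.symm)
  have h6 := Nat.card_le_card_of_injective f hf
  rw [h5, Nat.card_eq_fintype_card, Fintype.card_fin] at h6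
  omega

end Klein

section Four

variable {Y : Type*} [Group Y] {V : Subgroup Y} [V.Normal]

/-- index three -/
theorem LL_eq_of_three (hV : IsKleinFour V) (h3 : V.index = 3) : LL Y = V := by
  apply le_antisymm
  · rw [closure_le]
    rintro g ⟨n, hg⟩
    have h1 : (QuotientGroup.mk' V g) ^ (2 ^ n) = 1 := by rw [← map_pow, ← hg, pow_orderOf_eq_one, map_one]
    have h2 : orderOf (QuotientGroup.mk' V g) ∣ 3 := by
      rw [← h3, index_eq_card]
      exact orderOf_dvd_natCard _
    have h3' : orderOf (QuotientGroup.mk' V g) ∣ 2 ^ n := orderOf_dvd_of_pow_eq_one h1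
    have h4 : orderOf (QuotientGroup.mk' V g) = 1 :=
      Nat.eq_one_of_dvd_coprimes (Nat.Coprime.pow_left n (by norm_num)) h3' h2
    rw [orderOf_eq_one_iff] at h4
    exact (QuotientGroup.eq_one_iff g).1 h4
  · intro v hv
    exact mem_LL_two (klein_sq hV hv)

theorem cond_of_three (hV : IsKleinFour V) (h3 : V.index = 3) : Cond (LL Y) := by
  rw [LL_eq_of_three hV h3]
  refine Or.inl ⟨IsPGroup.of_card (n := 2) (by rw [hV.card_four]; norm_num), Or.inl ⟨2, ?_⟩⟩
  exact IsKleinFour.nonempty_mulEquiv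

/-- index six -/
theorem perm_of_six [Finite Y] (hV : IsKleinFour V) (hC : centralizer (V : Set Y) = V) (h6 : V.index = 6) :
    Nonempty (Y ≃* Perm (Fin 4)) := by
  apply Cfsg.Agent.S1012.result
  · rw [← V.card_mul_index, h6, hV.card_four]
  · intro g hg
    obtain ⟨r, hr⟩ : ∃ r, r = g ^ 2 := ⟨_, rfl⟩
    obtain ⟨u, hu⟩ : ∃ u, u = g ^ 3 := ⟨_, rfl⟩
    have hg6 : g ^ 6 = 1 := by rw [← hg, pow_orderOf_eq_one]
    have hr3 : r * r * r = 1 := by rw [hr, ← pow_add, ← pow_add, hg6]
    have hu2 : u * u = 1 := by rw [hu, ← pow_add, hg6]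
    have hru : r * u = u * r := by rw [hr, hu, ← pow_add, ← pow_add]
    have hr1 : r ≠ 1 := by
      rw [hr]
      intro h
      have := orderOf_dvd_of_pow_eq_one h
      rw [hg] at this
      revert this; decide
    have hu1 : u ≠ 1 := by
      rw [hu]
      intro h
      have := orderOf_dvd_of_pow_eq_one h
      rw [hg] at this
      revert this; decide
    have hn : ∀ x v, v ∈ V → x * v * x⁻¹ ∈ V := fun x v hv => Normal.conj_mem inferInstance v hv x
    have hcen : ∀ x, (∀ v ∈ V, x * v * x⁻¹ = v) → x ∈ V := by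
      intro x hx
      rw [← hC, mem_centralizer_iff]
      intro v hv
      have := hx v hv
      calc v * x = x * v * x⁻¹ * x := by rw [this]
        _ = x * v := by group
    -- if `x` fixes `v`, `w` it fixes `V`
    have htwo : ∀ x v w, v ∈ V → w ∈ V → v ≠ 1 → w ≠ 1 → v ≠ w → x * v * x⁻¹ = v → x * w * x⁻¹ = w → x ∈ V := by
      intro x v w hv hw h1 h2 h3 h4 h5
      apply hcen
      intro y hy
      rcases klein_cases hV hv hw hy h1 h2 h3 with rfl | rfl | rfl | rfl
      · group
      · exact h4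
      · exact h5
      · calc x * (v * w) * x⁻¹ = (x * v * x⁻¹) * (x * w * x⁻¹) := by group
          _ = v * w := by rw [h4, h5]
    have hrV : r ∉ V := by
      intro h
      apply hr1
      have := klein_sq hV h
      rwa [this, one_mul] at hr3
    have hfix : ∀ v ∈ V, v ≠ 1 → r * v * r⁻¹ ≠ v := by
      intro v hv hv1 h
      -- another element
      obtain ⟨w, hw, hw1, hwv⟩ : ∃ w ∈ V, w ≠ 1 ∧ w ≠ v := by
        by_contra hcon
        push Not at hcon
        classical
        have h1 : (V : Set Y) ⊆ (({1, v} : Finset Y) : Set Y) := by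
          intro x hx
          by_cases hx1 : x = 1
          · simp [hx1]
          · simp [hcon x hx hx1]
        have h2 := Set.ncard_le_ncard h1 (Finset.finite_toSet _)
        rw [Set.ncard_coe_finset] at h2
        have h3 : Nat.card V = (V : Set Y).ncard := rfl
        have h4 := Finset.card_le_two (a := (1 : Y)) (b := v)
        rw [← h3, hV.card_four] at h2
        omega
      have h1 : r * w * r⁻¹ ≠ 1 := by
        intro h1
        apply hw1
        calc w = r⁻¹ * (r * w * r⁻¹) * r := by group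
          _ = 1 := by rw [h1]; group
      have h2 : r * w * r⁻¹ ≠ v := by
        intro h2
        apply hwv
        calc w = r⁻¹ * (r * w * r⁻¹) * r := by group
          _ = r⁻¹ * (r * v * r⁻¹) * r := by rw [h2, h]
          _ = v := by group
      rcases klein_cases hV hv hw (hn r w hw) hv1 hw1 hwv.symm with h3 | h3 | h3 | h3
      · exact h1 h3
      · exact h2 h3
      · exact hrV (htwo r v w hv hw hv1 hw1 hwv.symm h h3)
      · -- `r³` moves `w`
        have h4 : (r * r * r) * w * (r * r * r)⁻¹ = v * (v * (v * w)) := by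
          calc (r * r * r) * w * (r * r * r)⁻¹ = r * (r * (r * w * r⁻¹) * r⁻¹) * r⁻¹ := by group
            _ = r * (r * (v * w) * r⁻¹) * r⁻¹ := by rw [h3]
            _ = r * ((r * v * r⁻¹) * (r * w * r⁻¹)) * r⁻¹ := by group
            _ = r * (v * (v * w)) * r⁻¹ := by rw [h, h3]
            _ = (r * v * r⁻¹) * ((r * v * r⁻¹) * (r * w * r⁻¹)) := by group
            _ = v * (v * (v * w)) := by rw [h, h3]
        rw [hr3, one_mul, inv_one, mul_one, ← mul_assoc v v, klein_sq hV hv, one_mul] at h4
        exact hv1 (mul_eq_right.1 h4.symm)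
    have hfixu : ∀ v ∈ V, v ≠ 1 → u * v * u⁻¹ ≠ v := by
      intro v hv hv1 h
      have h1 := hfix v hv hv1
      have h2 : r * v * r⁻¹ ≠ 1 := by
        intro h2
        apply hv1
        calc v = r⁻¹ * (r * v * r⁻¹) * r := by group
          _ = 1 := by rw [h2]; group
      have h3 : u * (r * v * r⁻¹) * u⁻¹ = r * v * r⁻¹ := by
        calc u * (r * v * r⁻¹) * u⁻¹ = (u * r) * v * (u * r)⁻¹ := by group
          _ = (r * u) * v * (r * u)⁻¹ := by rw [hru]
          _ = r * (u * v * u⁻¹) * r⁻¹ := by group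
          _ = r * v * r⁻¹ := by rw [h]
      have h4 := htwo u v _ hv (hn r v hv) hv1 h2 h1.symm h h3
      apply hfix u h4 hu1
      rw [hru]; group
    obtain ⟨v, hv, hv1⟩ : ∃ v ∈ V, v ≠ 1 := by
      by_contra hcon
      push Not at hcon
      have h1 : V = ⊥ := by
        rw [eq_bot_iff]
        intro x hx
        rw [mem_bot]
        exact hcon x hx
      have h2 := hV.card_four
      rw [h1, card_bot] at h2
      omega
    have h1 := hfixu v hv hv1
    have hu' : u⁻¹ = u := inv_eq_of_mul_eq_one_left hu2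
    apply hfixu (v * (u * v * u⁻¹)) (V.mul_mem hv (hn u v hv))
    · intro h2
      apply h1
      have h3 := klein_sq hV hv
      calc u * v * u⁻¹ = v * v * (u * v * u⁻¹) := by rw [h3, one_mul]
        _ = v * (v * (u * v * u⁻¹)) := by group
        _ = v := by rw [h2, mul_one]
    · calc u * (v * (u * v * u⁻¹)) * u⁻¹ = (u * v * u⁻¹) * ((u * u) * v * (u * u)⁻¹) := by group
        _ = (u * v * u⁻¹) * v := by rw [hu2]; group
        _ = v * (u * v * u⁻¹) := klein_comm hV (hn u v hv) hv

theorem cond_of_six [Finite Y] (hV : IsKleinFour V) (hC : centralizer (V : Set Y) = V) (h6 : V.index = 6) : Cond (LL Y) := by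
  obtain ⟨e⟩ := perm_of_six hV hC h6
  exact (psl_perm.congr (LLEquiv e).symm).cond

end Four

/-! ### `A₇` -/

section Seven

/-- three independent commuting involutions -/
theorem not_subDihedral_of {G : Type*} [Group G] [Finite G] (h : SubDihedral G) {a b c : G} (ha : a * a = 1)
    (hb : b * b = 1) (hc : c * c = 1) (hab : a * b = b * a) (hac : a * c = c * a) (hbc : b * c = c * b)
    (hinj : Function.Injective ![1, a, b, a * b, c]) : False := by
  have h1 : closure ({a, b, c} : Set G) ≤ centralizer ({a, b, c} : Set G) := by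
    rw [closure_le]
    rintro x (rfl | rfl | rfl)
    all_goals
      rw [SetLike.mem_coe, mem_centralizer_iff]
      rintro y (rfl | rfl | rfl)
    · rfl
    · exact hab.symm
    · exact hac.symm
    · exact hab
    · rfl
    · exact hbc.symm
    · exact hac
    · exact hbc
    · rfl
  have h2 : ∀ x ∈ closure ({a, b, c} : Set G), ∀ y ∈ closure ({a, b, c} : Set G), y * x = x * y := by
    intro x hx y hy
    have h3 : closure ({a, b, c} : Set G) ≤ centralizer {x} := by
      rw [closure_le]
      intro z hz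
      rw [SetLike.mem_coe, mem_centralizer_singleton_iff]
      exact (mem_centralizer_iff.1 (h1 hx)) z hz
    exact mem_centralizer_singleton_iff.1 (h3 hy)
  have h3 : ∀ x ∈ closure ({a, b, c} : Set G), x * x = 1 := by
    intro x hx
    induction hx using closure_induction with
    | mem x hx =>
      rcases hx with rfl | rfl | rfl
      · exact ha
      · exact hb
      · exact hc
    | one => exact one_mul 1
    | mul x y hx hy h4 h5 =>
      calc x * y * (x * y) = x * (y * x) * y := by group
        _ = x * (x * y) * y := by rw [h2 x hx y hy]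
        _ = (x * x) * (y * y) := by group
        _ = 1 := by rw [h4, h5, one_mul]
    | inv x hx h4 => rw [← mul_inv_rev, h4, inv_one]
  have h4 := card_le_four h _ h3
  have ma : a ∈ closure ({a, b, c} : Set G) := subset_closure (by simp)
  have mb : b ∈ closure ({a, b, c} : Set G) := subset_closure (by simp)
  have mc : c ∈ closure ({a, b, c} : Set G) := subset_closure (by simp)
  let f : Fin 5 → closure ({a, b, c} : Set G) := ![1, ⟨a, ma⟩, ⟨b, mb⟩, ⟨a * b, mul_mem ma mb⟩, ⟨c, mc⟩]
  have hf : ∀ i, (f i : G) = (![1, a, b, a * b, c] : Fin 5 → G) i := by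
    intro i
    fin_cases i <;> rfl
  have hf' : Function.Injective f := by
    intro i j hij
    apply hinj
    rw [← hf, ← hf, hij]
  have h5 := Nat.card_le_card_of_injective f hf'
  rw [Nat.card_eq_fintype_card, Fintype.card_fin] at h5
  omega

/-- the symmetric group of degree seven is not `SubDihedral` -/
theorem not_subDihedral_perm : ¬ SubDihedral (Perm (Fin 7)) := by
  intro h
  have hd1 : Equiv.Perm.Disjoint (swap (0 : Fin 7) 1) (swap 2 3) := by
    intro x
    revert x
    decide
  have hd2 : Equiv.Perm.Disjoint (swap (0 : Fin 7) 1) (swap 4 5) := by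
    intro x
    revert x
    decide
  have hd3 : Equiv.Perm.Disjoint (swap (2 : Fin 7) 3) (swap 4 5) := by
    intro x
    revert x
    decide
  refine not_subDihedral_of h (Equiv.swap_mul_self 0 1) (Equiv.swap_mul_self 2 3) (Equiv.swap_mul_self 4 5) hd1.commute
    hd2.commute hd3.commute ?_
  intro i j hij
  have key : ∀ i j : Fin 5, ((![1, swap 0 1, swap 2 3, swap 0 1 * swap 2 3, swap 4 5] : Fin 5 → Perm (Fin 7)) i 0 =
      (![1, swap 0 1, swap 2 3, swap 0 1 * swap 2 3, swap 4 5] : Fin 5 → Perm (Fin 7)) j 0) →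
      ((![1, swap 0 1, swap 2 3, swap 0 1 * swap 2 3, swap 4 5] : Fin 5 → Perm (Fin 7)) i 2 =
      (![1, swap 0 1, swap 2 3, swap 0 1 * swap 2 3, swap 4 5] : Fin 5 → Perm (Fin 7)) j 2) →
      ((![1, swap 0 1, swap 2 3, swap 0 1 * swap 2 3, swap 4 5] : Fin 5 → Perm (Fin 7)) i 4 =
      (![1, swap 0 1, swap 2 3, swap 0 1 * swap 2 3, swap 4 5] : Fin 5 → Perm (Fin 7)) j 4) → i = j := by decide
  exact key i j (by rw [hij]) (by rw [hij]) (by rw [hij])

theorem centralizer_alt_seven {x : Perm (Fin 7)} (hx : ∀ y ∈ alternatingGroup (Fin 7), x * y * x⁻¹ = y) : x = 1 := by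
  exact Cfsg.Agent.StandardComponent.AltAut.eq_one_of_centralizes (m := 5) (by norm_num) fun y => hx y y.2

/-- `A₇` -/
theorem eq_top_of_seven {Y : Type*} [Group Y] [Finite Y] (hY : SubDihedral Y) (L : Subgroup Y) [L.Normal]
    (hC : centralizer (L : Set Y) = ⊥) (e : L ≃* alternatingGroup (Fin 7)) : L = ⊤ := by
  obtain ⟨ψ, hψ⟩ := Cfsg.Agent.StandardComponent.AltAut.exists_autHom 7 le_rfl
  let Φ : Y →* Perm (Fin 7) := ψ.comp ((MulAut.congr e).toMonoidHom.comp MulAut.conjNormal)
  have hΦ : ∀ t x, ((e (MulAut.conjNormal t x) : alternatingGroup (Fin 7)) : Perm (Fin 7)) = Φ t * e x * (Φ t)⁻¹ := by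
    intro t x
    have h1 := hψ ((MulAut.congr e) (MulAut.conjNormal t)) (e x)
    have h2 : (MulAut.congr e) (MulAut.conjNormal t) (e x) = e (MulAut.conjNormal t x) := by
      show e (MulAut.conjNormal t (e.symm (e x))) = _
      rw [e.symm_apply_apply]
    rw [h2] at h1
    exact h1
  have hinj : Function.Injective Φ := by
    rw [injective_iff_map_eq_one]
    intro t ht
    have h1 : t ∈ centralizer (L : Set Y) := by
      rw [mem_centralizer_iff]
      intro l hl
      have h2 := hΦ t ⟨l, hl⟩
      rw [ht, one_mul, inv_one, mul_one] at h2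
      have h3 := congrArg Subtype.val (e.injective (Subtype.ext h2))
      rw [MulAut.conjNormal_apply] at h3
      calc l * t = t * l * t⁻¹ * t := by rw [show t * l * t⁻¹ = l from h3]
        _ = t * l := by group
    rwa [hC, mem_bot] at h1
  have hL : ∀ l : L, Φ l = e l := by
    intro l
    have h1 : (e l : Perm (Fin 7))⁻¹ * Φ l = 1 := by
      apply centralizer_alt_seven
      intro y hy
      obtain ⟨x, hx⟩ := e.surjective ⟨y, hy⟩
      have h2 := hΦ l x
      have h3 : MulAut.conjNormal (l : Y) x = l * x * l⁻¹ := Subtype.ext (by rw [MulAut.conjNormal_apply]; rfl)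
      rw [h3, map_mul, map_mul, map_inv] at h2
      have hx' : (e x : Perm (Fin 7)) = y := congrArg Subtype.val hx
      have h4 : (e l : Perm (Fin 7)) * e x * (e l : Perm (Fin 7))⁻¹ = Φ l * e x * (Φ l)⁻¹ := h2
      rw [hx'] at h4
      calc (e l : Perm (Fin 7))⁻¹ * Φ l * y * ((e l : Perm (Fin 7))⁻¹ * Φ l)⁻¹ =
          (e l : Perm (Fin 7))⁻¹ * (Φ l * y * (Φ l)⁻¹) * e l := by group
        _ = (e l : Perm (Fin 7))⁻¹ * ((e l : Perm (Fin 7)) * y * (e l : Perm (Fin 7))⁻¹) * e l := by rw [h4]
        _ = y := by group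
    exact (inv_mul_eq_one.1 h1).symm
  by_contra hne
  obtain ⟨y, hy⟩ : ∃ y, y ∉ L := by
    by_contra hcon
    push Not at hcon
    exact hne (eq_top_iff.2 fun x _ => hcon x)
  have hmem : ∀ σ ∈ alternatingGroup (Fin 7), ∃ l : L, Φ l = σ := by
    intro σ hσ
    obtain ⟨l, hl⟩ := e.surjective ⟨σ, hσ⟩
    exact ⟨l, by rw [hL, hl]⟩
  have hodd : Equiv.Perm.sign (Φ y) = -1 := by
    rcases Int.units_eq_one_or (Equiv.Perm.sign (Φ y)) with h | h
    · exfalso
      obtain ⟨l, hl⟩ := hmem _ (Equiv.Perm.mem_alternatingGroup.2 h)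
      exact hy (hinj hl ▸ l.2)
    · exact h
  have hsurj : Function.Surjective Φ := by
    intro σ
    rcases Int.units_eq_one_or (Equiv.Perm.sign σ) with h | h
    · obtain ⟨l, hl⟩ := hmem _ (Equiv.Perm.mem_alternatingGroup.2 h)
      exact ⟨l, hl⟩
    · obtain ⟨l, hl⟩ := hmem (σ * (Φ y)⁻¹) (Equiv.Perm.mem_alternatingGroup.2 (by rw [map_mul, map_inv, h, hodd]; decide))
      exact ⟨l * y, by rw [map_mul, hl, inv_mul_cancel_right]⟩
  let ε : Y ≃* Perm (Fin 7) := MulEquiv.ofBijective Φ ⟨hinj, hsurj⟩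
  exact not_subDihedral_perm (subDihedral_of_injective ε.symm.toMonoidHom ε.symm.injective hY)

end Seven

end Cfsg.Agent.H781.DihLL
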