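import Cfsg.Agent.H781.DihLL
import Cfsg.Agent.LFourA.Quot
import Cfsg.Agent.S0483

/-!
# Groups with dihedral Sylow 2-subgroups (helper781, S3392 LSP-E)
-/

set_option autoImplicit false

namespace Cfsg.Agent.H781.DihMain

open Subgroup Cfsg Cfsg.Agent.H355.Lsp Cfsg.Agent.Classification.DihedralCentral Cfsg.Agent.Classification.DihReduction
  Cfsg.Agent.Classification.DihStructure Cfsg.Agent.H781.DihLL

universe u

/-- groups without normal subgroups of odd order -/
theorem core_free {Y : Type u} [Group Y] [Finite Y] (S : Sylow 2 Y) {n : ℕ}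
    (e : (S : Subgroup Y) ≃* DihedralGroup n) (hO : Cfsg.oddCore Y = ⊥) :
    Cond (LL Y) ∨ Nonempty (Y ≃* alternatingGroup (Fin 7)) := by
  have hp : Fact (Nat.Prime 2) := ⟨Nat.prime_two⟩
  have hY : SubDihedral Y := subDihedral_of_sylow S n e
  have hFT : OddOrder.{u} := fun _ _ _ h => Cfsg.Agent.S0205.result h
  rcases structure_of_core_free hFT hY hO with h | ⟨V, hVn, hV, hC, hi⟩ | ⟨L, hLn, hLs, hC, hi, S', m, hm, hS'⟩
  · -- a 2-group
    left
    have h1 : (S : Subgroup Y) = ⊤ := by
      symm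
      exact S.is_maximal' (h.to_subgroup ⊤) le_top
    have h2 : LL Y = ⊤ := by
      rw [eq_top_iff]
      intro x _
      obtain ⟨k, hk⟩ := IsPGroup.iff_orderOf.1 h x
      exact mem_LL hk
    rw [h2]
    refine Or.inl ⟨h.of_equiv Subgroup.topEquiv.symm, Or.inl ⟨n, ?_⟩⟩
    exact ⟨(MulEquiv.subgroupCongr h1).symm.trans e⟩
  · left
    rcases hi with hi | hi
    · exact cond_of_three hV hi
    · exact cond_of_six hV hC hi
  · -- an involution of `L`
    obtain ⟨e'⟩ := hS'
    have h1 : ∃ z : L, z ≠ 1 ∧ z * z = 1 := by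
      refine ⟨(e'.symm (DihedralGroup.sr 0) : S'), ?_, ?_⟩
      · intro h
        have h2 : e'.symm (DihedralGroup.sr 0) = 1 := Subtype.ext h
        rw [map_eq_one_iff _ e'.symm.injective] at h2
        exact absurd h2 (by intro h; cases h)
      · have h2 : e'.symm (DihedralGroup.sr 0) * e'.symm (DihedralGroup.sr 0) = 1 := by
          rw [← map_mul, DihedralGroup.sr_mul_sr, sub_self, ← DihedralGroup.one_def, map_one]
        exact congrArg Subtype.val h2
    obtain ⟨z, hz1, hzz⟩ := h1
    have hle : L ≤ LL Y := le_LL L hz1 hzz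
    -- `L` is perfect
    have hperf : Group.IsPerfect L := by
      have hcn : (commutator L).Normal := inferInstance
      rcases hcn.eq_bot_or_eq_top with h | h
      · exfalso
        -- `L` abelian
        have h2 : ∀ x y : L, x * y = y * x := by
          intro x y
          have h3 : x * y * x⁻¹ * y⁻¹ ∈ commutator L := commutator_mem_commutator (mem_top x) (mem_top y)
          rw [h, mem_bot] at h3
          calc x * y = (x * y * x⁻¹ * y⁻¹) * (y * x) := by group
            _ = y * x := by rw [h3, one_mul]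
        have h4 : (z : Y) ∈ centralizer (L : Set Y) := by
          rw [mem_centralizer_iff]
          intro l hl
          exact congrArg Subtype.val (h2 ⟨l, hl⟩ z)
        rw [hC, mem_bot] at h4
        exact hz1 (Subtype.ext h4)
      · exact ⟨h⟩
    have hcore : Cfsg.oddCore L = ⊥ := by
      have hcn : (Cfsg.oddCore L).Normal := inferInstance
      rcases hcn.eq_bot_or_eq_top with h | h
      · exact h
      · exfalso
        have h2 : Odd (Nat.card (Cfsg.oddCore L)) := by
          rw [← Nat.coprime_two_right]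
          exact Cfsg.Agent.Lib.Cores.pPrimeCore_coprime 2
        rw [h, card_top] at h2
        have h3 : orderOf z ∣ Nat.card L := orderOf_dvd_natCard z
        rw [orderOf_eq_prime (by rw [pow_two]; exact hzz) hz1] at h3
        exact (Nat.not_even_iff_odd.2 h2) (even_iff_two_dvd.2 h3)
    let q : L ⧸ Cfsg.oddCore L ≃* L := (QuotientGroup.quotientMulEquivOfEq hcore).trans QuotientGroup.quotientBot
    rcases Cfsg.Agent.S0483.result S' m hm ⟨e'⟩ with ⟨F, i1, i2, -, -, ⟨f⟩⟩ | ⟨⟨f⟩⟩
    · left
      exact (psl_LL L hC hle (q.symm.trans f)).cond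
    · right
      have h2 := eq_top_of_seven hY L hC (q.symm.trans f)
      exact ⟨(Subgroup.topEquiv.symm.trans (MulEquiv.subgroupCongr h2.symm)).trans (q.symm.trans f)⟩

/-- **LSP-E.** -/
theorem dihedral_case {G : Type*} [Group G] [Finite G] (S : Sylow 2 G) {n : ℕ} (_hn : 1 ≤ n)
    (hS : Nonempty ((S : Subgroup G) ≃* DihedralGroup n)) :
    Cond ↥(LL (G ⧸ Cfsg.oddCore G)) ∨ Nonempty (G ⧸ Cfsg.oddCore G ≃* alternatingGroup (Fin 7)) := by
  have hp : Fact (Nat.Prime 2) := ⟨Nat.prime_two⟩
  obtain ⟨e⟩ := hS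
  have hinj : Function.Injective ((Cfsg.Agent.LFourA.Quot.pr G).subgroupMap (S : Subgroup G)) := by
    intro a b hab
    apply Subtype.ext
    exact Cfsg.Agent.LFourA.Quot.inj_of_mem S a.2 b.2 (congrArg Subtype.val hab)
  have e2 := MulEquiv.ofBijective _ ⟨hinj, (Cfsg.Agent.LFourA.Quot.pr G).subgroupMap_surjective (S : Subgroup G)⟩
  have h3 : (Cfsg.Agent.LFourA.Quot.syl S : Subgroup (G ⧸ Cfsg.oddCore G)) = (S : Subgroup G).map (Cfsg.Agent.LFourA.Quot.pr G) :=
    Cfsg.Agent.LFourA.Quot.syl_coe S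
  exact core_free (Cfsg.Agent.LFourA.Quot.syl S) ((MulEquiv.subgroupCongr h3).trans (e2.symm.trans e))
    Cfsg.Agent.LFourA.Quot.oddCore_quot

end Cfsg.Agent.H781.DihMain
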