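import Cfsg.Agent.H781.FourShapes
import Cfsg.Agent.H773.WrFinal
import Cfsg.Agent.H771.ModelUnique

/-!
# Dihedral, quaternion, semidihedral, wreathed: realizability, end of the proof (helper781)
-/

set_option autoImplicit false

universe u

namespace Cfsg.Agent.H781

open Cfsg Cfsg.FusionSystem Subgroup Cfsg.Agent.H802 Cfsg.Agent.H785 Cfsg.Agent.H773
open Cfsg.Agent.TwoFusion.QDBasic Cfsg.Agent.TwoFusion.WreathedBasic
open Cfsg.Agent.TwoFusion.WreathedLocal

variable {Ω : Type u} [Group Ω] {S : Subgroup Ω} [Finite S] {F : FusionSystem S}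

/-- Constrained fusion systems are realizable. -/
theorem isRealizable_of_normal_centric {p : ℕ} [Fact p.Prime] (hS : IsPGroup p S)
    (hF : F.IsSaturated p) {B : Subgroup Ω} (hB : F.IsNormal B) (hBc : F.IsCentric B) :
    F.IsRealizable p := by
  obtain ⟨L, _, ι, ⟨_, h1, ⟨T, hT⟩, -⟩, -⟩ := H771.exists_model hS hF hB hBc
  exact isRealizable_of_isRealizedBy h1 T hT

theorem wreathed_case (hS : IsPGroup 2 S) (hF : F.IsSaturated 2) (hSw : IsWreathed S) :
    RankLE F ∧ F.IsRealizable 2 := by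
  have : Fact (Nat.Prime 2) := ⟨Nat.prime_two⟩
  refine ⟨rankLE_wreathed hS hF hSw, ?_⟩
  by_cases hc : F.center = ⊥
  · rcases classify_wr hSw hF hc with ⟨K, _, _, -, h⟩ | ⟨B, hB, hBc, -⟩
    · exact isRealizable_of_realizedIn h
    · exact isRealizable_of_normal_centric hS hF hB hBc
  · obtain ⟨z, hz⟩ := exists_fixedInv_of_center hS hc
    exact isRealizable_wreathed_of_fixedInv hS hSw hF hz

end Cfsg.Agent.H781
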