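import Cfsg.Agent.H781.WrCentral
import Cfsg.Agent.H773.MaxFinal

/-!
# Dihedral, quaternion, semidihedral, wreathed: essential rank, realizability (helper781)
-/

set_option autoImplicit false
set_option linter.unusedSectionVars false
set_option linter.unusedVariables false

universe u v

namespace Cfsg.Agent.H781

open Cfsg Cfsg.FusionSystem Subgroup Cfsg.Agent.H802 Cfsg.Agent.H785 Cfsg.Agent.H773
open Cfsg.Agent.TwoFusion.QDBasic Cfsg.Agent.TwoFusion.WreathedBasic
open Cfsg.Agent.TwoFusion.WreathedLocal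

variable {Ω : Type u} [Group Ω] {S : Subgroup Ω} [Finite S] {F : FusionSystem S}

theorem isRealizable_of_realizedIn {G : Type v} [Group G] [Finite G] (h : RealizedIn F G) :
    F.IsRealizable 2 := by
  obtain ⟨ι, hr, T, hT⟩ := h
  exact isRealizable_of_isRealizedBy hr T hT

/-- The three-essential-subgroups statement. -/
def RankLE (F : FusionSystem S) : Prop :=
  ∀ E₁ E₂ E₃ : Subgroup Ω, F.IsEssential 2 E₁ → F.IsEssential 2 E₂ → F.IsEssential 2 E₃ →
    (∃ φ ∈ F.Hom E₁, φ.range = E₂) ∨ (∃ φ ∈ F.Hom E₁, φ.range = E₃) ∨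
      (∃ φ ∈ F.Hom E₂, φ.range = E₃)

theorem exists_two_pow_of_card (hS : IsPGroup 2 S) {m : ℕ} {c : ℕ} (hc : Nat.card S = 2 ^ c * m) :
    ∃ k, m = 2 ^ k := by
  have : Fact (Nat.Prime 2) := ⟨Nat.prime_two⟩
  obtain ⟨n, hn⟩ := IsPGroup.iff_card.mp hS
  have hdvd : m ∣ 2 ^ n := by
    rw [← hn, hc]
    exact dvd_mul_left m _
  obtain ⟨k, -, hk⟩ := (Nat.dvd_prime_pow Nat.prime_two).1 hdvd
  exact ⟨k, hk⟩

theorem dihedral_case (hS : IsPGroup 2 S) (hF : F.IsSaturated 2) {m : ℕ} (hm : 4 ≤ m)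
    (e : S ≃* DihedralGroup m) : RankLE F ∧ F.IsRealizable 2 := by
  have hm0 : NeZero m := ⟨by omega⟩
  obtain ⟨N, rfl⟩ : ∃ N, m = 2 ^ N := exists_two_pow_of_card hS (c := 1) (by
    rw [Nat.card_congr e.toEquiv, DihedralGroup.nat_card, pow_one])
  have hN : 2 ≤ N := by
    by_contra hcon
    have : N < 2 := by omega
    interval_cases N <;> omega
  have hmax := (isMax_dihedralGroup hN).map e.symm
  refine ⟨fun E₁ E₂ E₃ h1 h2 h3 => essential_rank hS hmax hF E₁ E₂ E₃ h1 h2 h3, ?_⟩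
  by_cases hc : F.center = ⊥
  · rcases classify_dihedral hN e hF hc with ⟨K, _, _, -, h⟩ | ⟨G, _, _, h, -⟩
    · exact isRealizable_of_realizedIn h
    · exact isRealizable_of_realizedIn h
  · obtain ⟨z, hz⟩ := exists_fixedInv_of_center hS hc
    refine isRealizable_of_fixedInv_of_sq hS hmax hF hz fun g hg => ?_
    have h1 : e g ∉ zpowers (DihedralGroup.r (1 : ZMod (2 ^ N))) := by
      intro h2
      apply hg
      rw [← e.symm_apply_apply g]
      exact (mem_zpowers_map e.symm).2 h2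
    have h2 := (dihedralGroup_out h1).1
    rw [← map_mul] at h2
    exact (map_eq_one_iff e e.injective).1 h2

theorem quaternion_case (hS : IsPGroup 2 S) (hF : F.IsSaturated 2) {m : ℕ} (hm : 2 ≤ m)
    (e : S ≃* QuaternionGroup m) : RankLE F ∧ F.IsRealizable 2 := by
  have hm0 : NeZero m := ⟨by omega⟩
  obtain ⟨k, rfl⟩ : ∃ k, m = 2 ^ k := exists_two_pow_of_card hS (c := 2) (by
    rw [Nat.card_congr e.toEquiv, Nat.card_eq_fintype_card, QuaternionGroup.card]
    norm_num)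
  have hk : 1 ≤ k := by
    by_contra hcon
    have : k = 0 := by omega
    subst this
    norm_num at hm
  exact ⟨fun E₁ E₂ E₃ h1 h2 h3 => essential_rank hS (isMax_quaternion hk e) hF E₁ E₂ E₃ h1 h2 h3,
    isRealizable_quaternion hS hk e hF⟩

theorem sd_case (hS : IsPGroup 2 S) (hF : F.IsSaturated 2) (hqd : IsQuasiDihedral S) :
    RankLE F ∧ F.IsRealizable 2 := by
  obtain ⟨n, u, y, h⟩ := exists_qdcoord hqd
  refine ⟨fun E₁ E₂ E₃ h1 h2 h3 => essential_rank hS (isMax_qd h) hF E₁ E₂ E₃ h1 h2 h3, ?_⟩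
  by_cases hc : F.center = ⊥
  · rcases classify_sd hqd hF hc with ⟨K, _, _, -, h⟩ | ⟨G, _, _, h, -⟩
    · exact isRealizable_of_realizedIn h
    · exact isRealizable_of_realizedIn h
  · obtain ⟨z, hz⟩ := exists_fixedInv_of_center hS hc
    exact isRealizable_qd_of_fixedInv hS hqd hF hz

/-- An active abelian subgroup of a wreathed group is the base. -/
theorem active_abelian_eq {n : ℕ} (hSw : IsWreathed S) (hn : Nat.card S = 2 ^ (2 * n + 1))
    {A A' : Subgroup Ω} (hA : Active F A) (hA' : Active F A')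
    (hAc : IsMulCommutative (A.subgroupOf S)) (hAc' : IsMulCommutative (A'.subgroupOf S)) :
    A = A' := by
  obtain ⟨u, z, h⟩ := exists_wcoord' hSw n hn
  have key : ∀ {B : Subgroup Ω}, Active F B → IsMulCommutative (B.subgroupOf S) →
      B.subgroupOf S = h.base := by
    intro B hB hBc
    obtain ⟨-, h2, -⟩ := S1202.result hSw n hn (B.subgroupOf S)
      (centralizer_subgroupOf_le hB.le hB.cent) (not_isPGroup_mulAut hB)
    refine abelian_eq_base h _ hBc ?_
    rcases h2 with ⟨-, h3⟩ | ⟨Q, ⟨e⟩, hQ⟩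
    · exact h3
    · exfalso
      obtain ⟨x₀, y₀, hxy₀⟩ := q8_noncomm_of_equiv e
      have hQle : Q ≤ B.subgroupOf S := hQ ▸ le_sup_left
      apply hxy₀
      have h3 := hBc.is_comm.comm (⟨x₀, hQle x₀.2⟩ : B.subgroupOf S) ⟨y₀, hQle y₀.2⟩
      have h4 : (x₀ : S) * y₀ = y₀ * x₀ := congrArg Subtype.val h3
      exact Subtype.ext h4
  have h1 : A.subgroupOf S = A'.subgroupOf S := (key hA hAc).trans (key hA' hAc').symm
  have h2 : (A.subgroupOf S).map S.subtype = (A'.subgroupOf S).map S.subtype := by rw [h1]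
  rwa [Subgroup.map_subgroupOf_eq_of_le hA.le, Subgroup.map_subgroupOf_eq_of_le hA'.le] at h2

/-- Nonabelian active subgroups of a wreathed group are conjugate in `S`. -/
theorem active_nonabelian_conj {n : ℕ} (hSw : IsWreathed S) (hn : Nat.card S = 2 ^ (2 * n + 1))
    {W W' : Subgroup Ω} {F' : FusionSystem S} (hW : Active F W) (hW' : Active F' W')
    (hWn : ¬ IsMulCommutative (W.subgroupOf S)) (hWn' : ¬ IsMulCommutative (W'.subgroupOf S)) :
    ∃ s ∈ S, W'.map (MulAut.conj s).toMonoidHom = W := by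
  obtain ⟨-, -, h5⟩ := S1202.result hSw n hn (W'.subgroupOf S)
    (centralizer_subgroupOf_le hW'.le hW'.cent) (not_isPGroup_mulAut hW')
  obtain ⟨s, hs⟩ := h5 (W.subgroupOf S) (centralizer_subgroupOf_le hW.le hW.cent)
    (not_isPGroup_mulAut hW) hWn' hWn
  refine ⟨s, s.2, ?_⟩
  ext y
  constructor
  · rintro ⟨t, ht, rfl⟩
    have h6 : (MulAut.conj s).toMonoidHom ⟨t, hW'.le ht⟩ ∈ W.subgroupOf S := by
      rw [← hs]
      exact ⟨_, ht, rfl⟩
    exact h6
  · intro hy
    have h6 : (⟨y, hW.le hy⟩ : S) ∈ W.subgroupOf S := hy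
    rw [← hs] at h6
    obtain ⟨t, ht, hty⟩ := h6
    exact ⟨(t : Ω), ht, congrArg Subtype.val hty⟩

theorem rankLE_wreathed (hS : IsPGroup 2 S) (hF : F.IsSaturated 2) (hSw : IsWreathed S) :
    RankLE F := by
  obtain ⟨n, hn2, hn, -⟩ := id hSw
  have key : ∀ {E E' : Subgroup Ω}, F.IsEssential 2 E → F.IsEssential 2 E' →
      (IsMulCommutative (E.subgroupOf S) ↔ IsMulCommutative (E'.subgroupOf S)) →
      ∃ φ ∈ F.Hom E, φ.range = E' := by
    intro E E' hE hE' hiff
    have a1 := active_of_essential hS hF hE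
    have a2 := active_of_essential hS hF hE'
    by_cases hc : IsMulCommutative (E.subgroupOf S)
    · have h1 := active_abelian_eq hSw hn a1 a2 hc (hiff.1 hc)
      subst h1
      exact ⟨E.subtype, subtype_mem F hE.1.1, E.range_subtype⟩
    · obtain ⟨s, hs, hse⟩ := active_nonabelian_conj hSw hn a2 a1 (fun h => hc (hiff.2 h)) hc
      refine ⟨conjHom E s, F.conj_mem hE.1.1 hs, ?_⟩
      rw [← hse]
      ext y
      constructor
      · rintro ⟨z, rfl⟩
        exact ⟨z, z.2, rfl⟩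
      · rintro ⟨z, hz, rfl⟩
        exact ⟨⟨z, hz⟩, rfl⟩
  intro E₁ E₂ E₃ h1 h2 h3
  by_cases c1 : IsMulCommutative (E₁.subgroupOf S) <;>
    by_cases c2 : IsMulCommutative (E₂.subgroupOf S) <;>
    by_cases c3 : IsMulCommutative (E₃.subgroupOf S)
  · exact Or.inl (key h1 h2 ⟨fun _ => c2, fun _ => c1⟩)
  · exact Or.inl (key h1 h2 ⟨fun _ => c2, fun _ => c1⟩)
  · exact Or.inr (Or.inl (key h1 h3 ⟨fun _ => c3, fun _ => c1⟩))
  · exact Or.inr (Or.inr (key h2 h3 ⟨fun h => absurd h c2, fun h => absurd h c3⟩))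
  · exact Or.inr (Or.inr (key h2 h3 ⟨fun _ => c3, fun _ => c2⟩))
  · exact Or.inr (Or.inl (key h1 h3 ⟨fun h => absurd h c1, fun h => absurd h c3⟩))
  · exact Or.inl (key h1 h2 ⟨fun h => absurd h c1, fun h => absurd h c2⟩)
  · exact Or.inl (key h1 h2 ⟨fun h => absurd h c1, fun h => absurd h c2⟩)

end Cfsg.Agent.H781
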