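import Cfsg.Agent.H781.GoodNormal
import Cfsg.Agent.OddHalf.Soft
import Cfsg.Agent.CpQuot.Congr
import Cfsg.Agent.S1252
import Cfsg.Agent.S1309

/-!
# Simple groups with a good quaternion subgroup (helper781)

A simple group with a generalised quaternion subgroup `Q ∋ z`, strongly closed in `C(z)`, is of Lie type in odd
characteristic, or `M11`, `M12`, `Sp6(2)`, `Ω8⁺(2)` (S1309).
-/

set_option autoImplicit false

namespace Cfsg.Agent.H781.GoodLie

open Subgroup Cfsg Cfsg.Agent.H751.Big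

universe u

theorem foote : H269.FooteStmt.{u} := fun X _ _ S A h1 h2 h3 => Cfsg.Agent.S1252.result S A h1 h2 h3

/-- **Lemma A.** -/
theorem exists_normal {G : Type u} [Group G] [Finite G] {Q : Subgroup G} {z : G}
    (h : Good Q z) : ∃ K : Subgroup G, Q ≤ K ∧ K ≤ centralizer {z} ∧
      (∀ c ∈ centralizer ({z} : Set G), ∀ x ∈ K, c * x * c⁻¹ ∈ K) ∧ ¬ 2 ∣ Q.relIndex K :=
  GoodNormal.exists_normal foote h

theorem relIndex_self_conj {G : Type*} [Group G] {K : Subgroup G} {u : G} (h : ∀ x ∈ K, u * x * u⁻¹ ∈ K)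
    (h' : ∀ x ∈ K, u⁻¹ * x * u ∈ K) : K.map (MulAut.conj u).toMonoidHom = K := by
  apply le_antisymm
  · rintro _ ⟨x, hx, rfl⟩
    exact h x hx
  · intro x hx
    exact ⟨_, h' x hx, by show u * (u⁻¹ * x * u) * u⁻¹ = x; group⟩

/-- **Step (1).** -/
theorem lie_of_good {G : Type u} [Group G] [Finite G] [IsSimpleGroup G] (hna : ¬ IsMulCommutative G)
    {Q : Subgroup G} {z : G} (h : Good Q z) :
    (∃ p : ℕ, p.Prime ∧ p ≠ 2 ∧ Cfsg.IsLieTypeChar p G) ∨ Cfsg.Spor.IsoM11 G ∨ Cfsg.Spor.IsoM12 G ∨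
      (∃ (F : Type) (_ : Field F) (_ : Fintype F), Fintype.card F = 2 ∧
        (Nonempty (G ≃* Cfsg.PSp 3 F) ∨ Nonempty (G ≃* Cfsg.POmega F (Cfsg.quadFormPlus 4 F)))) := by
  have hp : Fact (Nat.Prime 2) := ⟨Nat.prime_two⟩
  obtain ⟨K, hQK, hKz, hn, hodd⟩ := exists_normal h
  have hF : generalizedFittingSubgroup G = ⊤ := OddHalf.Soft.fstar_eq_top hna
  let e : ↥(generalizedFittingSubgroup G) ≃* G := (MulEquiv.subgroupCongr hF).trans Subgroup.topEquiv
  have hs : IsSimpleGroup ↥(generalizedFittingSubgroup G) := e.isSimpleGroup_congr.2 inferInstance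
  have hna' : ¬ IsMulCommutative ↥(generalizedFittingSubgroup G) := by
    intro hc
    apply hna
    refine ⟨⟨fun a b => ?_⟩⟩
    have h1 := hc.is_comm.comm (e.symm a) (e.symm b)
    rw [← map_mul, ← map_mul] at h1
    exact e.symm.injective h1
  set C : Subgroup G := centralizer {z} with hC
  have hKn : (K.subgroupOf C).Normal := by
    refine ⟨fun x hx c => ?_⟩
    exact hn c c.2 x hx
  have hconj : ∀ u ∈ C, K.map (MulAut.conj u).toMonoidHom = K := by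
    intro u hu
    refine relIndex_self_conj (hn u hu) fun x hx => ?_
    have := hn u⁻¹ (C.inv_mem hu) x hx
    rwa [inv_inv] at this
  have hzK : z ∈ K := hQK h.mem
  have hres := Cfsg.Agent.S1309.result (G := G) hs hna' z h.ord K hKz hzK (Normal.isSubnormal hKn) (by
      obtain ⟨n, ⟨f⟩⟩ := h.quat
      have h1 : IsPGroup 2 (Q.subgroupOf K) := h.isPGroup.comap_subtype
      exact ⟨h1.toSylow hodd, n, ⟨(subgroupOfEquivOfLe hQK).trans f⟩⟩)
    (fun t ht h2 => GoodNormal.eq_of_mem h hQK hKz hodd ht h2)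
    (fun u hu => Or.inl (hconj u hu))
    (fun y _ g _ _ hg => by
      rw [mem_normalizer_iff]
      intro x
      refine ⟨hn _ hg x, fun hx => ?_⟩
      have h1 := hn _ (C.inv_mem hg) _ hx
      have e1 : (g * y * g⁻¹)⁻¹ * (g * y * g⁻¹ * x * (g * y * g⁻¹)⁻¹) * (g * y * g⁻¹)⁻¹⁻¹ = x := by group
      rwa [e1] at h1)
  rcases hres with ⟨p, hp1, hp2, hl⟩ | h1 | h1 | ⟨F, iF, iF', hF2, h1⟩
  · exact Or.inl ⟨p, hp1, hp2, (Cfsg.Agent.CpQuot.Congr.isLieTypeChar_iff e p).1 hl⟩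
  · obtain ⟨f⟩ := h1
    exact Or.inr (Or.inl ⟨e.symm.trans f⟩)
  · obtain ⟨f⟩ := h1
    exact Or.inr (Or.inr (Or.inl ⟨e.symm.trans f⟩))
  · refine Or.inr (Or.inr (Or.inr ⟨F, iF, iF', hF2, ?_⟩))
    rcases h1 with ⟨⟨f⟩⟩ | ⟨⟨f⟩⟩
    · exact Or.inl ⟨e.symm.trans f⟩
    · exact Or.inr ⟨e.symm.trans f⟩

end Cfsg.Agent.H781.GoodLie
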