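import Cfsg.Prelude.Def_LocalEven
import Cfsg.Agent.Lib.Cores
import Cfsg.Agent.H802.FusNorm
import Cfsg.Agent.H802.FusGroup

/-!
# `p`-stability of fusion systems (helper781)

The `p`-core under surjections, quadratic automorphisms, transport of the `p`-core of `Aut_F(Q)`.
-/

set_option autoImplicit false

namespace Cfsg.Agent.H781

open Cfsg Cfsg.FusionSystem Cfsg.Agent.H802
open scoped commutatorElement

/-! ### The `p`-core -/

section core

variable {A B C : Type*} [Group A] [Group B] [Group C] {p : ℕ}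

theorem mem_pCore_equiv (e : A ≃* B) {a : A} : e a ∈ pCore p B ↔ a ∈ pCore p A := by
  rw [← Lib.Cores.map_equiv_pCore e p]
  constructor
  · rintro ⟨x, hx, h⟩
    have : x = a := e.injective h
    rwa [← this]
  · intro h
    exact ⟨a, h, rfl⟩

/-- Two surjections with the same kernel see the same `p`-core. -/
theorem mem_pCore_iff_of_surjective {f : A →* B} {g : A →* C} (hf : Function.Surjective f)
    (hg : Function.Surjective g) (hk : f.ker = g.ker) {a : A} :
    f a ∈ pCore p B ↔ g a ∈ pCore p C := by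
  let e : A ⧸ f.ker ≃* B := QuotientGroup.quotientKerEquivOfSurjective f hf
  let e' : A ⧸ g.ker ≃* C := QuotientGroup.quotientKerEquivOfSurjective g hg
  let e'' : A ⧸ f.ker ≃* A ⧸ g.ker := QuotientGroup.quotientMulEquivOfEq hk
  have h1 : f a = e (QuotientGroup.mk a) := rfl
  have h2 : g a = e' (e'' (QuotientGroup.mk a)) := rfl
  rw [h1, h2, mem_pCore_equiv, mem_pCore_equiv, mem_pCore_equiv]

/-- The `p`-core of a subgroup `X`, pushed to the ambient group: an element of a subgroup `Y ≤ X` lying in the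
`p`-core of `X` lies in the `p`-core of `Y`. -/
theorem mem_pCore_of_le {X Y : Subgroup A} (hYX : Y ≤ X) {a : A} (ha : a ∈ Y)
    (h : a ∈ ((pCore p X).map X.subtype : Subgroup A)) :
    a ∈ ((pCore p Y).map Y.subtype : Subgroup A) := by
  have hn : ((pCore p X).comap (Subgroup.inclusion hYX)).Normal :=
    (Lib.Cores.pCore_normal p).comap _
  have hp : IsPGroup p ((pCore p X).comap (Subgroup.inclusion hYX)) := by
    refine (Lib.Cores.pCore_isPGroup (G := X) p).comap_of_injective _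
      (Subgroup.inclusion_injective hYX)
  have hle := Lib.Cores.le_pCore hn hp
  obtain ⟨x, hx, rfl⟩ := h
  exact ⟨⟨_, ha⟩, hle hx, rfl⟩

end core

/-! ### Quadratic action -/

section quad

variable {G : Type*} [Group G]

/-- `[Q, ⟨g⟩, ⟨g⟩] = 1` for `g` normalizing `Q` means that `g` commutes with all `a⁻¹ a^g`, `a ∈ Q`. -/
theorem quad_iff {Q : Subgroup G} {g : G} (hg : g ∈ Subgroup.normalizer (Q : Set G)) :
    ⁅⁅Q, Subgroup.zpowers g⁆, Subgroup.zpowers g⁆ = ⊥ ↔
      ∀ a ∈ Q, g * (a⁻¹ * (g * a * g⁻¹)) * g⁻¹ = a⁻¹ * (g * a * g⁻¹) := by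
  rw [Subgroup.commutator_eq_bot_iff_le_centralizer]
  constructor
  · intro h a ha
    have h1 : ⁅a⁻¹, g⁆ ∈ ⁅Q, Subgroup.zpowers g⁆ :=
      Subgroup.commutator_mem_commutator (Q.inv_mem ha) (Subgroup.mem_zpowers g)
    have h2 := Subgroup.mem_centralizer_iff.1 (h h1) g (Subgroup.mem_zpowers g)
    have h3 : ⁅a⁻¹, g⁆ = a⁻¹ * (g * a * g⁻¹) := by
      rw [commutatorElement_def]; group
    rw [h3] at h2
    rw [h2]
    group
  · intro h
    -- the powers of `g`
    have key : ∀ (n : ℕ) (a : G), a ∈ Q → a⁻¹ * (g ^ n * a * (g ^ n)⁻¹) = (a⁻¹ * (g * a * g⁻¹)) ^ n := by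
      intro n
      induction n with
      | zero => intro a _; simp
      | succ n ih =>
        intro a ha
        have e1 : ∀ m : ℕ, g * (a⁻¹ * (g * a * g⁻¹)) ^ m * g⁻¹ = (a⁻¹ * (g * a * g⁻¹)) ^ m := by
          intro m
          rw [← conj_pow, h a ha]
        have e2 : a⁻¹ * (g ^ (n + 1) * a * (g ^ (n + 1))⁻¹) =
            (a⁻¹ * (g * a * g⁻¹)) * (g * (a⁻¹ * (g ^ n * a * (g ^ n)⁻¹)) * g⁻¹) := by
          rw [pow_succ']
          group
        rw [e2, ih a ha, e1 n, pow_succ']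
    have key' : ∀ (n : ℕ) (a : G), a ∈ Q → g * (a⁻¹ * (g ^ n * a * (g ^ n)⁻¹)) * g⁻¹ =
        a⁻¹ * (g ^ n * a * (g ^ n)⁻¹) := by
      intro n a ha
      rw [key n a ha, ← conj_pow, h a ha]
    rw [Subgroup.commutator_le]
    rintro q hq _ ⟨m, rfl⟩
    rw [Subgroup.mem_centralizer_iff]
    rintro _ ⟨k, rfl⟩
    -- it is enough that `g` commutes with `[q, g ^ m]`
    suffices hc : Commute g ⁅q, g ^ m⁆ from (hc.zpow_left k).eq
    have hcm : ∀ (n : ℕ) (a : G), a ∈ Q → Commute g ⁅a, g ^ n⁆ := by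
      intro n a ha
      have h1 := key' n a⁻¹ (Q.inv_mem ha)
      have h2 : a⁻¹⁻¹ * (g ^ n * a⁻¹ * (g ^ n)⁻¹) = ⁅a, g ^ n⁆ := by
        rw [commutatorElement_def]; group
      rw [h2] at h1
      exact mul_inv_eq_iff_eq_mul.1 h1
    obtain ⟨n, rfl | rfl⟩ := m.eq_nat_or_neg
    · simpa using hcm n q hq
    · -- `[q, g⁻ⁿ] = [q', gⁿ]⁻¹` with `q' = g⁻ⁿ q gⁿ`
      have hq' : (g ^ n)⁻¹ * q * g ^ n ∈ Q := by
        have hgn : (g ^ n)⁻¹ ∈ Subgroup.normalizer (Q : Set G) :=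
          Subgroup.inv_mem _ (Subgroup.pow_mem _ hg n)
        have := (Subgroup.mem_normalizer_iff.1 hgn q).1 hq
        simpa using this
      have h3 := hcm n _ hq'
      have h4 : ⁅q, g ^ (-(n : ℤ))⁆ = ⁅(g ^ n)⁻¹ * q * g ^ n, g ^ n⁆⁻¹ := by
        rw [commutatorElement_def, commutatorElement_def, zpow_neg, zpow_natCast]
        group
      show Commute g ⁅q, g ^ (-(n : ℤ))⁆
      rw [h4]
      exact h3.inv_right

/-- The fusion-theoretic form of quadratic action. -/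
theorem quad_aut_iff {Q : Subgroup G} {χ : MulAut Q} (a : Q) :
    (χ a⁻¹) * a * (χ a⁻¹) * (χ (χ a)) = 1 ↔ χ (a⁻¹ * χ a) = a⁻¹ * χ a := by
  rw [map_mul, map_inv]
  constructor
  · intro h
    have h1 : (χ a)⁻¹ * χ (χ a) = ((χ a)⁻¹ * a)⁻¹ := by
      rw [eq_inv_iff_mul_eq_one]
      have h2 : (χ a)⁻¹ * a * ((χ a)⁻¹ * χ (χ a)) = 1 := by
        rw [← mul_assoc]; exact h
      have h3 := mul_eq_one_iff_eq_inv.1 h2
      rw [h3]
      group
    rw [h1]
    group
  · intro h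
    rw [mul_assoc, h]
    group

end quad

/-! ### The homomorphism `N_G(Q) → Aut_F(Q')`, `Q'` a conjugate of `Q` -/

section group

variable {G : Type*} [Group G] {Q Q' : Subgroup G} {h : G}

theorem conj_mem_normalizer (hQ : ∀ x, x ∈ Q ↔ h * x * h⁻¹ ∈ Q') {g : G} :
    g ∈ Subgroup.normalizer (Q : Set G) ↔ h * g * h⁻¹ ∈ Subgroup.normalizer (Q' : Set G) := by
  have hQ' : ∀ x, x ∈ Q' ↔ h⁻¹ * x * h ∈ Q := by
    intro x
    rw [hQ]
    have : h * (h⁻¹ * x * h) * h⁻¹ = x := by group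
    rw [this]
  rw [Subgroup.mem_normalizer_iff, Subgroup.mem_normalizer_iff]
  constructor
  · intro H x
    rw [hQ' x, H, hQ]
    have : h * (g * (h⁻¹ * x * h) * g⁻¹) * h⁻¹ = h * g * h⁻¹ * x * (h * g * h⁻¹)⁻¹ := by group
    rw [this]
  · intro H x
    rw [hQ x, H, hQ']
    have : h⁻¹ * (h * g * h⁻¹ * (h * x * h⁻¹) * (h * g * h⁻¹)⁻¹) * h = g * x * g⁻¹ := by group
    rw [this]

/-- Conjugation by `h x h⁻¹` on `Q'`, for `x` normalizing `Q`. -/
noncomputable def rho (hQ : ∀ x, x ∈ Q ↔ h * x * h⁻¹ ∈ Q') :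
    Subgroup.normalizer (Q : Set G) →* MulAut Q' :=
  (Q'.normalizerMonoidHom).comp
    { toFun := fun x => ⟨h * x * h⁻¹, (conj_mem_normalizer hQ).1 x.2⟩
      map_one' := Subtype.ext (by simp)
      map_mul' := fun x y => Subtype.ext (by simp) }

theorem coe_rho (hQ : ∀ x, x ∈ Q ↔ h * x * h⁻¹ ∈ Q') (x : Subgroup.normalizer (Q : Set G))
    (y : Q') : ((rho hQ x y : Q') : G) = (h * x * h⁻¹) * y * (h * x * h⁻¹)⁻¹ := rfl

theorem ker_rho (hQ : ∀ x, x ∈ Q ↔ h * x * h⁻¹ ∈ Q') :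
    (rho hQ).ker = (Subgroup.centralizer (Q : Set G)).subgroupOf
      (Subgroup.normalizer (Q : Set G)) := by
  ext x
  rw [MonoidHom.mem_ker, Subgroup.mem_subgroupOf, Subgroup.mem_centralizer_iff]
  constructor
  · intro H y hy
    have h1 := congrArg (fun α : MulAut Q' => ((α ⟨h * y * h⁻¹, (hQ y).1 hy⟩ : Q') : G)) H
    simp only [coe_rho, MulAut.one_apply] at h1
    have h2 : h * (x * y * (x : G)⁻¹) * h⁻¹ = h * y * h⁻¹ := by
      rw [← h1]; group
    have h3 : (x : G) * y * (x : G)⁻¹ = y := mul_left_cancel (mul_right_cancel h2)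
    exact (mul_inv_eq_iff_eq_mul.1 h3).symm
  · intro H
    apply MulEquiv.ext
    intro y
    apply Subtype.ext
    rw [coe_rho, MulAut.one_apply]
    have hy : h⁻¹ * y * h ∈ Q := by
      rw [hQ]
      have : h * (h⁻¹ * (y : G) * h) * h⁻¹ = y := by group
      rw [this]
      exact y.2
    have h1 := H _ hy
    have h2 : (h * x * h⁻¹) * y * (h * x * h⁻¹)⁻¹ = h * (x * (h⁻¹ * y * h) * (x : G)⁻¹) * h⁻¹ := by
      group
    rw [h2, ← h1]
    group

end group

section stable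

variable {G : Type*} [Group G] {p : ℕ} {P : Subgroup G}

theorem gfs_autGroup {Q : Subgroup G} (hQ : Q ≤ P) :
    (groupFusionSystem P).autGroup Q = autInducedBy ⊤ Q := by
  rw [groupFusionSystem_eq, fs_autGroup le_top hQ]

theorem rho_mem {Q Q' : Subgroup G} {h : G} (hQ : ∀ x, x ∈ Q ↔ h * x * h⁻¹ ∈ Q') (hQ' : Q' ≤ P)
    (x : Subgroup.normalizer (Q : Set G)) : rho hQ x ∈ (groupFusionSystem P).autGroup Q' := by
  rw [gfs_autGroup hQ', mem_autInducedBy_iff]
  exact ⟨h * x * h⁻¹, Subgroup.mem_top _, fun y => coe_rho hQ x y⟩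

theorem rho_surjective {Q Q' : Subgroup G} {h : G} (hQ : ∀ x, x ∈ Q ↔ h * x * h⁻¹ ∈ Q')
    (hQ' : Q' ≤ P) :
    Function.Surjective ((rho hQ).codRestrict ((groupFusionSystem P).autGroup Q')
      (rho_mem hQ hQ')) := by
  rintro ⟨α, hα⟩
  have hα' := hα
  rw [gfs_autGroup hQ', mem_autInducedBy_iff] at hα'
  obtain ⟨g, -, hg⟩ := hα'
  have hgn : g ∈ Subgroup.normalizer (Q' : Set G) := mem_normalizer_of_aut hg
  have hgn' : h⁻¹ * g * h ∈ Subgroup.normalizer (Q : Set G) := by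
    rw [conj_mem_normalizer hQ]
    have : h * (h⁻¹ * g * h) * h⁻¹ = g := by group
    rwa [this]
  refine ⟨⟨_, hgn'⟩, Subtype.ext ?_⟩
  apply MulEquiv.ext
  intro y
  apply Subtype.ext
  show ((rho hQ ⟨_, hgn'⟩ y : Q') : G) = _
  rw [coe_rho, hg]
  show h * (h⁻¹ * g * h) * h⁻¹ * y * (h * (h⁻¹ * g * h) * h⁻¹)⁻¹ = _
  group

/-- The bridge between the two kinds of `p`-cores. -/
theorem mk_mem_pCore_iff {Q Q' : Subgroup G} {h : G} (hQ : ∀ x, x ∈ Q ↔ h * x * h⁻¹ ∈ Q')
    (hQ' : Q' ≤ P) (x : Subgroup.normalizer (Q : Set G)) :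
    (QuotientGroup.mk (s := (Subgroup.centralizer (Q : Set G)).subgroupOf
      (Subgroup.normalizer (Q : Set G))) x) ∈
        pCore p (↥(Subgroup.normalizer (Q : Set G)) ⧸
          (Subgroup.centralizer (Q : Set G)).subgroupOf (Subgroup.normalizer (Q : Set G))) ↔
      rho hQ x ∈ ((pCore p ((groupFusionSystem P).autGroup Q')).map
        ((groupFusionSystem P).autGroup Q').subtype : Subgroup (MulAut Q')) := by
  have h1 := mem_pCore_iff_of_surjective (p := p) (a := x)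
    (f := QuotientGroup.mk' ((Subgroup.centralizer (Q : Set G)).subgroupOf
      (Subgroup.normalizer (Q : Set G))))
    (g := (rho hQ).codRestrict ((groupFusionSystem P).autGroup Q') (rho_mem hQ hQ'))
    (QuotientGroup.mk'_surjective _) (rho_surjective hQ hQ')
    (by
      rw [QuotientGroup.ker_mk', MonoidHom.ker_codRestrict, ker_rho])
  refine h1.trans ?_
  constructor
  · intro H
    exact ⟨_, H, rfl⟩
  · rintro ⟨y, hy, hyx⟩
    have : y = (rho hQ).codRestrict ((groupFusionSystem P).autGroup Q') (rho_mem hQ hQ') x :=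
      Subtype.ext hyx
    rwa [← this]

end stable

end Cfsg.Agent.H781
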