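import Cfsg.Agent.H751.Big.SameFus
import Cfsg.Agent.S0261

/-!
# A good quaternion subgroup of `PSL_n(q)`, `n ≥ 5`, `q` odd (helper781)
-/

set_option autoImplicit false

namespace Cfsg.Agent.H781.PslGood

open Matrix Cfsg.Agent.H751.Big

variable {F : Type*} [Field F] {κ : Type*} [Fintype κ] [DecidableEq κ] {ν : Type*} [Fintype ν] [DecidableEq ν]

/-- block matrices `A ⊕ 1` as elements of `SL_n` -/
def emb (e : (Fin 2 ⊕ κ) ≃ ν) : SpecialLinearGroup (Fin 2) F →* SpecialLinearGroup ν F where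
  toFun A := ⟨reindexAlgEquiv F F e (fromBlocks (A : Matrix (Fin 2) (Fin 2) F) 0 0 1), by
    rw [det_reindexAlgEquiv, det_fromBlocks_zero₂₁, A.2, det_one, one_mul]⟩
  map_one' := by
    apply Subtype.ext
    show reindexAlgEquiv F F e (fromBlocks (1 : Matrix (Fin 2) (Fin 2) F) 0 0 1) = 1
    rw [fromBlocks_one, map_one]
  map_mul' A B := by
    apply Subtype.ext
    show reindexAlgEquiv F F e (fromBlocks ((A : Matrix (Fin 2) (Fin 2) F) * (B : Matrix (Fin 2) (Fin 2) F)) 0 0 1) =
      reindexAlgEquiv F F e (fromBlocks (A : Matrix (Fin 2) (Fin 2) F) 0 0 1) *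
        reindexAlgEquiv F F e (fromBlocks (B : Matrix (Fin 2) (Fin 2) F) 0 0 1)
    rw [← map_mul, fromBlocks_multiply]
    simp

theorem coe_emb (e : (Fin 2 ⊕ κ) ≃ ν) (A : SpecialLinearGroup (Fin 2) F) :
    ((emb e A : SpecialLinearGroup ν F) : Matrix ν ν F) =
      reindexAlgEquiv F F e (fromBlocks (A : Matrix (Fin 2) (Fin 2) F) 0 0 1) := rfl

/-- the matrices commuting with `-1 ⊕ 1` modulo scalars are block diagonal -/
theorem block_of_comm (h2 : (2 : F) ≠ 0) (hκ : 2 < Fintype.card κ) {G H : Matrix (Fin 2 ⊕ κ) (Fin 2 ⊕ κ) F}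
    (hHG : H * G = 1) {lam : F} (h : G * fromBlocks (-1) 0 0 1 = lam • (fromBlocks (-1) 0 0 1 * G)) :
    ∃ (A : Matrix (Fin 2) (Fin 2) F) (B : Matrix κ κ F), G = fromBlocks A 0 0 B := by
  obtain ⟨A, X, Y, B, rfl⟩ : ∃ A X Y B, G = fromBlocks A X Y B :=
    ⟨_, _, _, _, (fromBlocks_toBlocks G).symm⟩
  rw [fromBlocks_multiply, fromBlocks_multiply, fromBlocks_smul] at h
  simp only [Matrix.mul_zero, Matrix.zero_mul, add_zero, zero_add, Matrix.mul_one, Matrix.one_mul,
    Matrix.mul_neg, Matrix.neg_mul] at h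
  rw [fromBlocks_inj] at h
  obtain ⟨-, h12, h21, h22⟩ := h
  have hl : lam = 1 := by
    by_contra hl
    -- `B = 0`
    have hB : B = 0 := by
      have h3 : (1 - lam) • B = 0 := by rw [sub_smul, one_smul, ← h22, sub_self]
      exact (smul_eq_zero.1 h3).resolve_left (sub_ne_zero.2 (Ne.symm hl))
    subst hB
    -- `v ↦ X v` is injective
    let φ : (κ → F) →ₗ[F] (Fin 2 → F) := X.mulVecLin
    have hφ : Function.Injective φ := by
      rw [← LinearMap.ker_eq_bot, LinearMap.ker_eq_bot']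
      intro v hv
      have hv' : X *ᵥ v = 0 := hv
      have h3 : fromBlocks A X Y 0 *ᵥ (Sum.elim (0 : Fin 2 → F) v) = 0 := by
        rw [fromBlocks_mulVec]
        funext x
        cases x with
        | inl i => simp [hv']
        | inr k => simp
      have h4 : Sum.elim (0 : Fin 2 → F) v = 0 := by
        calc Sum.elim (0 : Fin 2 → F) v = (H * fromBlocks A X Y 0) *ᵥ (Sum.elim (0 : Fin 2 → F) v) := by
              rw [hHG, one_mulVec]
          _ = 0 := by rw [← mulVec_mulVec, h3, mulVec_zero]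
      funext k
      exact congrFun h4 (Sum.inr k)
    have h5 := LinearMap.finrank_le_finrank_of_injective hφ
    rw [Module.finrank_fintype_fun_eq_card, Module.finrank_fintype_fun_eq_card, Fintype.card_fin] at h5
    omega
  subst hl
  rw [one_smul] at h12 h21
  have hX : X = 0 := by
    have h3 : (2 : F) • X = 0 := by
      rw [two_smul]
      nth_rewrite 1 [h12]
      exact neg_add_cancel X
    exact (smul_eq_zero.1 h3).resolve_left h2
  have hY : Y = 0 := by
    have h3 : (2 : F) • Y = 0 := by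
      rw [two_smul]
      nth_rewrite 1 [← h21]
      exact neg_add_cancel Y
    exact (smul_eq_zero.1 h3).resolve_left h2
  exact ⟨A, B, by rw [hX, hY]⟩

/-! ### The subgroup `SL_2(q)` of `PSL_n(q)` -/

/-- `SL_2(q) → PSL_n(q)` -/
def beta (e : (Fin 2 ⊕ κ) ≃ ν) : SpecialLinearGroup (Fin 2) F →* ProjectiveSpecialLinearGroup ν F :=
  (QuotientGroup.mk' (Subgroup.center (SpecialLinearGroup ν F))).comp (emb e)

theorem mem_center_cases {x : SpecialLinearGroup ν F} (hx : x ∈ Subgroup.center (SpecialLinearGroup ν F)) :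
    ∃ lam : F, (x : Matrix ν ν F) = lam • (1 : Matrix ν ν F) := by
  obtain ⟨lam, -, hlam⟩ := Matrix.SpecialLinearGroup.mem_center_iff.1 hx
  refine ⟨lam, ?_⟩
  rw [← hlam, Matrix.scalar_apply, ← Matrix.smul_one_eq_diagonal]

theorem beta_injective (e : (Fin 2 ⊕ κ) ≃ ν) [Nonempty κ] : Function.Injective (beta (F := F) e) := by
  rw [injective_iff_map_eq_one]
  intro A hA
  obtain ⟨lam, hlam⟩ := mem_center_cases ((QuotientGroup.eq_one_iff (emb e A)).1 hA)
  have h1 : fromBlocks (A : Matrix (Fin 2) (Fin 2) F) 0 0 (1 : Matrix κ κ F) = lam • (1 : Matrix (Fin 2 ⊕ κ) (Fin 2 ⊕ κ) F) := by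
    apply (reindexAlgEquiv F F e).injective
    rw [map_smul, map_one]
    exact hlam
  rw [← fromBlocks_one, fromBlocks_smul, fromBlocks_inj] at h1
  obtain ⟨h11, -, -, h22⟩ := h1
  obtain ⟨k⟩ := (inferInstance : Nonempty κ)
  have h2 := congrFun (congrFun h22 k) k
  rw [Matrix.smul_apply, Matrix.one_apply_eq, smul_eq_mul, mul_one] at h2
  rw [← h2, one_smul] at h11
  exact Subtype.ext h11

/-- the involution -/
def zz (e : (Fin 2 ⊕ κ) ≃ ν) : ProjectiveSpecialLinearGroup ν F := beta e (-1)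

theorem beta_comm (e : (Fin 2 ⊕ κ) ≃ ν) (A : SpecialLinearGroup (Fin 2) F) :
    beta e A ∈ Subgroup.centralizer ({zz e} : Set (ProjectiveSpecialLinearGroup ν F)) := by
  rw [Subgroup.mem_centralizer_singleton_iff, zz, ← map_mul, ← map_mul]
  congr 1
  apply Subtype.ext
  simp

/-- the range of `beta` is normal in the centralizer of the involution -/
theorem conj_mem (e : (Fin 2 ⊕ κ) ≃ ν) (h2 : (2 : F) ≠ 0) (hκ : 2 < Fintype.card κ)
    {c : ProjectiveSpecialLinearGroup ν F} (hc : c ∈ Subgroup.centralizer ({zz e} : Set (ProjectiveSpecialLinearGroup ν F)))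
    (A : SpecialLinearGroup (Fin 2) F) : c * beta e A * c⁻¹ ∈ (beta (F := F) e).range := by
  obtain ⟨g, rfl⟩ := QuotientGroup.mk'_surjective _ c
  set R := reindexAlgEquiv F F e with hR
  rw [Subgroup.mem_centralizer_singleton_iff] at hc
  -- matrices
  let G : Matrix (Fin 2 ⊕ κ) (Fin 2 ⊕ κ) F := R.symm (g : Matrix ν ν F)
  let H : Matrix (Fin 2 ⊕ κ) (Fin 2 ⊕ κ) F := R.symm ((g⁻¹ : SpecialLinearGroup ν F) : Matrix ν ν F)
  have hGH : G * H = 1 := by
    show R.symm _ * R.symm _ = 1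
    rw [← map_mul, show (g : Matrix ν ν F) * ((g⁻¹ : SpecialLinearGroup ν F) : Matrix ν ν F) = 1 from
      congrArg Subtype.val (mul_inv_cancel g), map_one]
  have hHG : H * G = 1 := mul_eq_one_comm.1 hGH
  have h3 : (QuotientGroup.mk' (Subgroup.center (SpecialLinearGroup ν F))) ((emb e (-1) * g)⁻¹ * (g * emb e (-1))) = 1 := by
    rw [map_mul, map_inv, inv_mul_eq_one, map_mul, map_mul]
    exact hc.symm
  obtain ⟨lam, hlam⟩ := mem_center_cases ((QuotientGroup.eq_one_iff _).1 h3)
  have h4 : G * fromBlocks (-1) 0 0 1 = lam • (fromBlocks (-1) 0 0 1 * G) := by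
    apply R.injective
    rw [map_mul, map_smul, map_mul]
    have e1 : R (fromBlocks (-1) 0 0 1) = ((emb e (-1) : SpecialLinearGroup ν F) : Matrix ν ν F) := by
      rw [coe_emb]
      congr 2
    rw [e1]
    show R (R.symm _) * _ = lam • (_ * R (R.symm _))
    rw [R.apply_symm_apply]
    have h5 : (g * emb e (-1) : SpecialLinearGroup ν F) = (emb e (-1) * g) * ((emb e (-1) * g)⁻¹ * (g * emb e (-1))) := by
      group
    have h6 := congrArg (fun x : SpecialLinearGroup ν F => (x : Matrix ν ν F)) h5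
    have h7 : ((g * emb e (-1) : SpecialLinearGroup ν F) : Matrix ν ν F) =
        ((emb e (-1) * g : SpecialLinearGroup ν F) : Matrix ν ν F) *
          (((emb e (-1) * g)⁻¹ * (g * emb e (-1)) : SpecialLinearGroup ν F) : Matrix ν ν F) := h6
    rw [hlam, mul_smul_comm, mul_one] at h7
    exact h7
  obtain ⟨X, Y, hXY⟩ := block_of_comm h2 hκ hHG h4
  obtain ⟨X', Y', hXY'⟩ : ∃ X' Y', H = fromBlocks X' 0 0 Y' := by
    refine block_of_comm (H := G) (lam := lam⁻¹) h2 hκ hGH ?_
    have hl0 : lam ≠ 0 := by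
      rintro rfl
      rw [zero_smul] at h4
      have h5 : fromBlocks (-1) 0 0 1 = (0 : Matrix (Fin 2 ⊕ κ) (Fin 2 ⊕ κ) F) := by
        calc fromBlocks (-1) 0 0 1 = H * (G * fromBlocks (-1) 0 0 1) := by rw [← mul_assoc, hHG, one_mul]
          _ = 0 := by rw [h4, mul_zero]
      have h6 := congrFun (congrFun h5 (Sum.inl 0)) (Sum.inl 0)
      simp at h6
    have h5 : fromBlocks (-1) 0 0 1 * H = lam • (H * fromBlocks (-1) 0 0 1) := by
      calc fromBlocks (-1) 0 0 1 * H = H * (G * fromBlocks (-1) 0 0 1) * H := by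
            rw [← mul_assoc H, hHG, one_mul]
        _ = H * (lam • (fromBlocks (-1) 0 0 1 * G)) * H := by rw [h4]
        _ = lam • (H * fromBlocks (-1) 0 0 1 * (G * H)) := by
            rw [mul_smul_comm, smul_mul_assoc]
            simp only [mul_assoc]
        _ = _ := by rw [hGH, mul_one]
    rw [h5, smul_smul, inv_mul_cancel₀ hl0, one_smul]
  have hXX : X * X' = 1 := by
    rw [hXY, hXY', fromBlocks_multiply, ← fromBlocks_one, fromBlocks_inj] at hGH
    simpa using hGH.1
  have hYY : Y * Y' = 1 := by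
    rw [hXY, hXY', fromBlocks_multiply, ← fromBlocks_one, fromBlocks_inj] at hGH
    simpa using hGH.2.2.2
  have hdet : (X * (A : Matrix (Fin 2) (Fin 2) F) * X').det = 1 := by
    rw [det_mul, det_mul, A.2, mul_one, ← det_mul, hXX, det_one]
  refine ⟨⟨X * (A : Matrix (Fin 2) (Fin 2) F) * X', hdet⟩, ?_⟩
  show QuotientGroup.mk' _ (emb e _) = QuotientGroup.mk' _ g * QuotientGroup.mk' _ (emb e A) * (QuotientGroup.mk' _ g)⁻¹
  rw [← map_inv, ← map_mul, ← map_mul]
  congr 1
  apply Subtype.ext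
  show R (fromBlocks (X * (A : Matrix (Fin 2) (Fin 2) F) * X') 0 0 1) =
    (g : Matrix ν ν F) * R (fromBlocks (A : Matrix (Fin 2) (Fin 2) F) 0 0 1) * ((g⁻¹ : SpecialLinearGroup ν F) : Matrix ν ν F)
  apply R.symm.injective
  rw [R.symm_apply_apply, map_mul, map_mul, R.symm_apply_apply]
  show _ = G * fromBlocks (A : Matrix (Fin 2) (Fin 2) F) 0 0 1 * H
  rw [hXY, hXY', fromBlocks_multiply, fromBlocks_multiply]
  simp [hYY]

/-- **A good quaternion subgroup of `PSL_n(q)`.** -/
theorem exists_good [Fintype F] (hF : Odd (Fintype.card F)) {n : ℕ} (hn : 5 ≤ n) :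
    ∃ (Q : Subgroup (ProjectiveSpecialLinearGroup (Fin n) F)) (z : ProjectiveSpecialLinearGroup (Fin n) F), Good Q z := by
  classical
  have hp : Fact (Nat.Prime 2) := ⟨Nat.prime_two⟩
  have h2 : (2 : F) ≠ 0 := by
    intro h
    have h3 : ringChar F ∣ 2 := (ringChar.spec F 2).1 (by exact_mod_cast h)
    have h4 : ringChar F = 2 := by
      rcases (Nat.dvd_prime Nat.prime_two).1 h3 with h5 | h5
      · exact absurd h5 (CharP.ringChar_ne_one)
      · exact h5
    have h5 := FiniteField.even_card_of_char_two h4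
    rw [Nat.odd_iff] at hF
    omega
  let e : Fin 2 ⊕ Fin (n - 2) ≃ Fin n := Fintype.equivOfCardEq (by simp; omega)
  have hne : Nonempty (Fin (n - 2)) := ⟨⟨0, by omega⟩⟩
  have hfin : Finite (ProjectiveSpecialLinearGroup (Fin n) F) := inferInstanceAs (Finite (_ ⧸ _))
  obtain ⟨P⟩ : Nonempty (Sylow 2 (SpecialLinearGroup (Fin 2) F)) := inferInstance
  obtain ⟨k, hk, ⟨f⟩⟩ := Cfsg.Agent.S0261.result hF P
  obtain ⟨k, rfl⟩ : ∃ j, k = j + 1 := ⟨k - 1, by omega⟩
  have hinj := beta_injective (F := F) e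
  have hz1 : (-1 : SpecialLinearGroup (Fin 2) F) ≠ 1 := by
    intro h
    have h3 := congrFun (congrFun (congrArg (fun x : SpecialLinearGroup (Fin 2) F => (x : Matrix (Fin 2) (Fin 2) F)) h) 0) 0
    simp at h3
    apply h2
    linear_combination -h3
  have hz2 : (-1 : SpecialLinearGroup (Fin 2) F) * (-1) = 1 := by
    simp
  have hzP : (-1 : SpecialLinearGroup (Fin 2) F) ∈ P := by
    have h3 : IsPGroup 2 (Subgroup.zpowers (-1 : SpecialLinearGroup (Fin 2) F)) := by
      refine IsPGroup.of_card (n := 1) ?_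
      rw [Nat.card_zpowers, pow_one]
      exact orderOf_eq_prime (by rw [pow_two]; exact hz2) hz1
    have h4 : IsPGroup 2 ((P : Subgroup (SpecialLinearGroup (Fin 2) F)) ⊔ Subgroup.zpowers (-1) : Subgroup _) := by
      refine P.isPGroup'.to_sup_of_normal_right' h3 ?_
      intro x _
      rw [Subgroup.mem_normalizer_iff]
      intro y
      have h5 : ∀ (u y : SpecialLinearGroup (Fin 2) F), y ∈ Subgroup.zpowers (-1 : SpecialLinearGroup (Fin 2) F) →
          u * y * u⁻¹ = y := by
        rintro u _ ⟨i, rfl⟩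
        have h6 : Commute u (-1 : SpecialLinearGroup (Fin 2) F) := by
          show u * (-1) = (-1) * u
          apply Subtype.ext
          simp
        show u * (-1) ^ i * u⁻¹ = (-1) ^ i
        rw [(h6.zpow_right i).eq, mul_inv_cancel_right]
      constructor
      · intro hy; rw [h5 x y hy]; exact hy
      · intro hy
        have h7 := h5 x⁻¹ _ hy
        have e1 : x⁻¹ * (x * y * x⁻¹) * x⁻¹⁻¹ = y := by group
        rw [e1] at h7
        rw [h7]; exact hy
    have h5 := P.is_maximal' h4 le_sup_left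
    show (-1 : SpecialLinearGroup (Fin 2) F) ∈ (P : Subgroup (SpecialLinearGroup (Fin 2) F))
    rw [← h5]
    exact Subgroup.mem_sup_right (Subgroup.mem_zpowers _)
  refine ⟨(P : Subgroup (SpecialLinearGroup (Fin 2) F)).map (beta e), zz e,
    good_of_normal (K := (beta (F := F) e).range) ?_ ?_ ?_ ?_ ⟨k, ⟨((P : Subgroup (SpecialLinearGroup (Fin 2) F)).equivMapOfInjective (beta e) hinj).symm.trans f⟩⟩
      ⟨-1, hzP, rfl⟩ ?_⟩
  · rintro _ ⟨A, rfl⟩
    exact beta_comm e A
  · rintro c hc _ ⟨A, rfl⟩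
    exact conj_mem e h2 (by simp; omega) hc A
  · rintro _ ⟨A, -, rfl⟩
    exact ⟨A, rfl⟩
  · rw [MonoidHom.range_eq_map, Subgroup.relIndex_map_map_of_injective _ _ hinj, Subgroup.relIndex_top_right]
    exact P.not_dvd_index
  · show orderOf (beta e (-1)) = 2
    rw [orderOf_injective (beta e) hinj]
    exact orderOf_eq_prime (by rw [pow_two]; exact hz2) hz1

end Cfsg.Agent.H781.PslGood
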