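import Mathlib

/-!
# Strongly closed quaternion subgroups: the exceptional case of Foote's theorem (helper781)

`R` generalized quaternion, `N` normal with `R ⊓ N` a Sylow 2-subgroup of `N`, `E = π(R) ⊓ L` the centre of a Sylow
2-subgroup `Q` of the perfect subgroup `L` of `G/N`, elementary abelian of order at least `4`, and some `u² ∈ E`,
`u² ≠ 1`, `u ∈ Q`: impossible.
-/

set_option autoImplicit false
set_option linter.unusedSectionVars false

namespace Cfsg.Agent.H781.QuatClosed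

open Subgroup
open scoped commutatorElement

variable {G : Type*} [Group G]

/-- generalized quaternion, in the form in which it is used -/
structure QD (R : Subgroup G) (c z : G) : Prop where
  hc : c ∈ R
  hz : z ∈ R
  zz : z * z = 1
  z1 : z ≠ 1
  inv : ∀ x ∈ R, x ∉ zpowers c → x * c * x⁻¹ = c⁻¹
  mul : ∀ x ∈ R, ∀ y ∈ R, x ∉ zpowers c → y ∉ zpowers c → x * y ∈ zpowers c
  uniq : ∀ x ∈ R, x * x = 1 → x = 1 ∨ x = z

theorem a_one_zpow {m : ℕ} (k : ℤ) : (QuaternionGroup.a 1 : QuaternionGroup m) ^ k = QuaternionGroup.a (k : ZMod (2 * m)) := by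
  obtain ⟨j, rfl | rfl⟩ := Int.eq_nat_or_neg k
  · rw [zpow_natCast, QuaternionGroup.a_one_pow]; simp
  · rw [zpow_neg, zpow_natCast, QuaternionGroup.a_one_pow]
    have h2 : ∀ i : ZMod (2 * m), (QuaternionGroup.a i : QuaternionGroup m)⁻¹ = QuaternionGroup.a (-i) := fun _ => rfl
    rw [h2]; simp

theorem exists_QD {R : Subgroup G} {n : ℕ} (e : R ≃* QuaternionGroup (2 ^ (n + 1))) : ∃ c z : G, QD R c z := by
  have hne : NeZero (2 ^ (n + 1)) := ⟨by positivity⟩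
  set m := 2 ^ (n + 1) with hm
  let c : R := e.symm (QuaternionGroup.a 1)
  let z : R := e.symm (QuaternionGroup.a (m : ZMod (2 * m)))
  have hcz : ∀ x : R, (x : G) ∈ zpowers (c : G) ↔ ∃ i : ZMod (2 * m), e x = QuaternionGroup.a i := by
    intro x
    constructor
    · rintro ⟨k, hk⟩
      have hk' : c ^ k = x := Subtype.ext hk
      refine ⟨(k : ZMod (2 * m)), ?_⟩
      rw [← hk', map_zpow]
      show (e (e.symm (QuaternionGroup.a 1))) ^ k = _
      rw [e.apply_symm_apply, a_one_zpow]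
    · rintro ⟨i, hi⟩
      have h1 : QuaternionGroup.a i = (QuaternionGroup.a 1 : QuaternionGroup m) ^ (i.val : ℤ) := by
        rw [zpow_natCast, QuaternionGroup.a_one_pow, ZMod.natCast_zmod_val]
      refine ⟨(i.val : ℤ), ?_⟩
      have h2 : c ^ (i.val : ℤ) = x := by
        apply e.injective
        rw [map_zpow, hi, h1]
        show (e (e.symm (QuaternionGroup.a 1))) ^ _ = _
        rw [e.apply_symm_apply]
      exact congrArg Subtype.val h2
  have hcases : ∀ x : R, (x : G) ∉ zpowers (c : G) → ∃ i, e x = QuaternionGroup.xa i := by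
    intro x hx
    rw [hcz] at hx
    cases h : e x with
    | a i => exact absurd ⟨i, h⟩ hx
    | xa i => exact ⟨i, rfl⟩
  refine ⟨c, z, c.2, z.2, ?_, ?_, ?_, ?_, ?_⟩
  · have h1 : z * z = 1 := by
      apply e.injective
      rw [map_mul, map_one]
      show e (e.symm _) * e (e.symm _) = _
      rw [e.apply_symm_apply, QuaternionGroup.a_mul_a, QuaternionGroup.one_def]
      congr 1
      have : ((m : ZMod (2 * m)) + m) = ((2 * m : ℕ) : ZMod (2 * m)) := by push_cast; ring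
      rw [this, ZMod.natCast_self]
    exact congrArg Subtype.val h1
  · intro h
    have h1 : z = 1 := Subtype.ext h
    have h2 : QuaternionGroup.a (m : ZMod (2 * m)) = (1 : QuaternionGroup m) := by
      have h3 : e z = 1 := by rw [h1, map_one]
      have h4 : e z = QuaternionGroup.a (m : ZMod (2 * m)) := e.apply_symm_apply _
      rw [← h4, h3]
    rw [QuaternionGroup.one_def] at h2
    have h3 : (m : ZMod (2 * m)) = 0 := QuaternionGroup.a.inj h2
    rw [ZMod.natCast_eq_zero_iff] at h3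
    have h4 := Nat.le_of_dvd (Nat.pos_of_ne_zero (NeZero.ne m)) h3
    have h5 : 0 < m := Nat.pos_of_ne_zero (NeZero.ne m)
    omega
  · intro x hx hxc
    obtain ⟨i, hi⟩ := hcases ⟨x, hx⟩ hxc
    have h1 : (⟨x, hx⟩ : R) * c * (⟨x, hx⟩ : R)⁻¹ = c⁻¹ := by
      rw [mul_inv_eq_iff_eq_mul]
      apply e.injective
      rw [map_mul, map_mul, map_inv, hi]
      show _ * e (e.symm _) = (e (e.symm _))⁻¹ * _
      rw [e.apply_symm_apply, QuaternionGroup.xa_mul_a]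
      have h2 : (QuaternionGroup.a 1 : QuaternionGroup m)⁻¹ = QuaternionGroup.a (-1) := rfl
      rw [h2, QuaternionGroup.a_mul_xa]
      congr 1
      ring
    exact congrArg Subtype.val h1
  · intro x hx y hy hxc hyc
    obtain ⟨i, hi⟩ := hcases ⟨x, hx⟩ hxc
    obtain ⟨j, hj⟩ := hcases ⟨y, hy⟩ hyc
    have h1 := (hcz (⟨x, hx⟩ * ⟨y, hy⟩)).2 ⟨_, by rw [map_mul, hi, hj, QuaternionGroup.xa_mul_xa]⟩
    exact h1
  · intro x hx hxx
    by_cases hxc : x ∈ zpowers (c : G)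
    · obtain ⟨i, hi⟩ := (hcz ⟨x, hx⟩).1 hxc
      have h1 : (⟨x, hx⟩ : R) * ⟨x, hx⟩ = 1 := Subtype.ext hxx
      have h2 : QuaternionGroup.a i * QuaternionGroup.a i = (1 : QuaternionGroup m) := by
        rw [← hi, ← map_mul, h1, map_one]
      rw [QuaternionGroup.a_mul_a, QuaternionGroup.one_def] at h2
      have h3 : i + i = 0 := QuaternionGroup.a.inj h2
      have h4 : ((2 * i.val : ℕ) : ZMod (2 * m)) = 0 := by
        push_cast
        rw [ZMod.natCast_zmod_val]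
        rw [← h3]; ring
      rw [ZMod.natCast_eq_zero_iff] at h4
      have h5 : m ∣ i.val := Nat.dvd_of_mul_dvd_mul_left (by norm_num) h4
      obtain ⟨k, hk⟩ := h5
      have h6 : i.val < 2 * m := ZMod.val_lt i
      have h7 : 0 < m := Nat.pos_of_ne_zero (NeZero.ne m)
      have h8 : k < 2 := by
        by_contra h
        have : m * 2 ≤ m * k := Nat.mul_le_mul_left _ (by omega)
        omega
      have h9 : i = (m : ZMod (2 * m)) * k := by
        rw [← Nat.cast_mul, ← hk, ZMod.natCast_zmod_val]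
      interval_cases k
      · left
        have : (⟨x, hx⟩ : R) = 1 := by
          apply e.injective
          rw [hi, h9, map_one, QuaternionGroup.one_def]
          simp
        exact congrArg Subtype.val this
      · right
        have : (⟨x, hx⟩ : R) = z := by
          apply e.injective
          rw [hi, h9]
          show _ = e (e.symm _)
          rw [e.apply_symm_apply]
          simp
        exact congrArg Subtype.val this
    · exfalso
      obtain ⟨i, hi⟩ := hcases ⟨x, hx⟩ hxc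
      have h1 : (⟨x, hx⟩ : R) * ⟨x, hx⟩ = 1 := Subtype.ext hxx
      have h2 : QuaternionGroup.xa i * QuaternionGroup.xa i = (1 : QuaternionGroup m) := by
        rw [← hi, ← map_mul, h1, map_one]
      rw [QuaternionGroup.xa_mul_xa, QuaternionGroup.one_def] at h2
      have h3 := QuaternionGroup.a.inj h2
      have h4 : (m : ZMod (2 * m)) = 0 := by
        rw [← h3]; ring
      rw [ZMod.natCast_eq_zero_iff] at h4
      have h5 := Nat.le_of_dvd (Nat.pos_of_ne_zero (NeZero.ne m)) h4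
      have h6 : 0 < m := Nat.pos_of_ne_zero (NeZero.ne m)
      omega

/-! ### The exceptional case -/

theorem conj_mem_zpowers_inv {R : Subgroup G} {c z : G} (q : QD R c z) {x d : G} (hx : x ∈ R) (hxc : x ∉ zpowers c)
    (hd : d ∈ zpowers c) : x * d * x⁻¹ = d⁻¹ := by
  obtain ⟨k, rfl⟩ := hd
  show x * c ^ k * x⁻¹ = (c ^ k)⁻¹
  rw [← conj_zpow, q.inv x hx hxc, inv_zpow]

section main

variable [Finite G] {R N : Subgroup G} [hN : N.Normal] {c z : G}

/-- `R ⊓ N` is a maximal 2-subgroup of `N` -/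
theorem le_of_two (hodd : Odd ((R ⊓ N).relIndex N)) {V : Subgroup G} (hV : IsPGroup 2 V) (hVN : V ≤ N)
    (hDV : R ⊓ N ≤ V) : V ≤ R := by
  have : Fact (Nat.Prime 2) := ⟨Nat.prime_two⟩
  have h1 : (R ⊓ N).relIndex V ∣ (R ⊓ N).relIndex N := Dvd.intro _ (relIndex_mul_relIndex _ V N hDV hVN)
  have h2 : Odd ((R ⊓ N).relIndex V) := hodd.of_dvd_nat h1
  obtain ⟨n, hn⟩ := hV.index ((R ⊓ N).subgroupOf V)
  have h3 : (R ⊓ N).relIndex V = 2 ^ n := hn
  rw [h3] at h2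
  have h4 : n = 0 := by
    by_contra h
    exact (Nat.not_even_iff_odd.2 h2) (Even.pow_of_ne_zero even_two h)
  rw [h4, pow_zero] at h3
  exact (relIndex_eq_one.1 h3).trans inf_le_left

/-- the commutators of `G` lie in `C(D) N` -/
theorem commutator_le_gamma (hR : IsPGroup 2 R) (hodd : Odd ((R ⊓ N).relIndex N)) (hDc : R ⊓ N ≤ zpowers c) :
    ⁅(⊤ : Subgroup G), ⊤⁆ ≤ centralizer ((R ⊓ N : Subgroup G) : Set G) ⊔ N := by
  have : Fact (Nat.Prime 2) := ⟨Nat.prime_two⟩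
  set D : Subgroup G := R ⊓ N with hD
  have hD2 : IsPGroup 2 D := hR.to_le inf_le_left
  -- the Frattini argument
  have hF : normalizer (D : Set G) ⊔ N = ⊤ := by
    have h1 : IsPGroup 2 (D.subgroupOf N) := hD2.comap_of_injective _ N.subtype_injective
    have h2 : ¬ 2 ∣ (D.subgroupOf N).index := fun h => (Nat.not_even_iff_odd.2 hodd) (even_iff_two_dvd.2 h)
    have h3 := Sylow.normalizer_sup_eq_top (h1.toSylow h2)
    have h4 : ((h1.toSylow h2 : Sylow 2 N) : Subgroup N).map N.subtype = D := by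
      show (D.subgroupOf N).map N.subtype = D
      rw [subgroupOf_map_subtype]
      exact inf_eq_left.2 inf_le_right
    rw [h4] at h3
    exact h3
  -- the automorphisms of a cyclic group commute
  have hcomm : ∀ k₁ ∈ normalizer (D : Set G), ∀ k₂ ∈ normalizer (D : Set G), ∀ d ∈ D,
      k₁ * (k₂ * d * k₂⁻¹) * k₁⁻¹ = k₂ * (k₁ * d * k₁⁻¹) * k₂⁻¹ := by
    have hcyc : IsCyclic D := isCyclic_of_injective (Subgroup.inclusion hDc) (Subgroup.inclusion_injective hDc)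
    obtain ⟨g, hg⟩ := (Subgroup.isCyclic_iff_exists_zpowers_eq_top D).1 hcyc
    intro k₁ h₁ k₂ h₂ d hd
    have hgD : g ∈ D := by rw [← hg]; exact mem_zpowers g
    have hk : ∀ k ∈ normalizer (D : Set G), ∃ i : ℤ, ∀ e ∈ D, k * e * k⁻¹ = e ^ i := by
      intro k hk
      have h3 : k * g * k⁻¹ ∈ D := (mem_normalizer_iff.1 hk g).1 hgD
      rw [← hg] at h3
      obtain ⟨i, hi⟩ := h3
      have hi' : g ^ i = k * g * k⁻¹ := hi
      refine ⟨i, fun e he => ?_⟩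
      rw [← hg] at he
      obtain ⟨j, rfl⟩ := he
      show k * g ^ j * k⁻¹ = (g ^ j) ^ i
      rw [← conj_zpow, ← hi', ← zpow_mul, ← zpow_mul, mul_comm]
    obtain ⟨i, hi⟩ := hk k₁ h₁
    obtain ⟨j, hj⟩ := hk k₂ h₂
    rw [hj d hd, hi d hd, hi _ (D.zpow_mem hd j), hj _ (D.zpow_mem hd i), ← zpow_mul, ← zpow_mul, mul_comm]
  rw [commutator_le]
  intro g₁ _ g₂ _
  have h1 : g₁ ∈ normalizer (D : Set G) ⊔ N := by rw [hF]; exact mem_top _
  have h2 : g₂ ∈ normalizer (D : Set G) ⊔ N := by rw [hF]; exact mem_top _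
  obtain ⟨k₁, hk₁, n₁, hn₁, rfl⟩ := mem_sup_of_normal_right.1 h1
  obtain ⟨k₂, hk₂, n₂, hn₂, rfl⟩ := mem_sup_of_normal_right.1 h2
  have h3 : ⁅k₁, k₂⁆ ∈ centralizer (D : Set G) := by
    rw [mem_centralizer_iff]
    intro d hd
    have h4 := hcomm k₁ hk₁ k₂ hk₂ _ ((mem_normalizer_iff.1 (inv_mem (mul_mem hk₂ hk₁)) d).1 hd)
    rw [inv_inv] at h4
    rw [commutatorElement_def]
    have h5 : k₁ * k₂ * k₁⁻¹ * k₂⁻¹ * d * (k₁ * k₂ * k₁⁻¹ * k₂⁻¹)⁻¹ = d := by
      calc k₁ * k₂ * k₁⁻¹ * k₂⁻¹ * d * (k₁ * k₂ * k₁⁻¹ * k₂⁻¹)⁻¹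
          = k₁ * (k₂ * ((k₂ * k₁)⁻¹ * d * (k₂ * k₁)) * k₂⁻¹) * k₁⁻¹ := by group
        _ = k₂ * (k₁ * ((k₂ * k₁)⁻¹ * d * (k₂ * k₁)) * k₁⁻¹) * k₂⁻¹ := h4
        _ = d := by group
    exact (mul_inv_eq_iff_eq_mul.1 h5).symm
  have h4 : ⁅k₁ * n₁, k₂ * n₂⁆ = ⁅k₁, k₂⁆ * (⁅k₁, k₂⁆⁻¹ * ⁅k₁ * n₁, k₂ * n₂⁆) := by group
  rw [h4]
  refine mul_mem (mem_sup_left h3) (mem_sup_right ?_)
  have h5 : QuotientGroup.mk' N (⁅k₁, k₂⁆⁻¹ * ⁅k₁ * n₁, k₂ * n₂⁆) = 1 := by
    have e1 : QuotientGroup.mk' N (k₁ * n₁) = QuotientGroup.mk' N k₁ := by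
      rw [map_mul, (QuotientGroup.eq_one_iff n₁).2 hn₁ |> (fun h => (h : QuotientGroup.mk' N n₁ = 1)), mul_one]
    have e2 : QuotientGroup.mk' N (k₂ * n₂) = QuotientGroup.mk' N k₂ := by
      rw [map_mul, (QuotientGroup.eq_one_iff n₂).2 hn₂ |> (fun h => (h : QuotientGroup.mk' N n₂ = 1)), mul_one]
    rw [map_mul, map_inv, map_commutatorElement, map_commutatorElement, e1, e2, inv_mul_cancel]
  exact (QuotientGroup.eq_one_iff _).1 h5

/-- an element of `N` of 2-power order normalising `D = R ⊓ N` lies in `D` -/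
theorem mem_of_two_el (hR : IsPGroup 2 R) (hodd : Odd ((R ⊓ N).relIndex N)) {n : G} (hn : n ∈ N)
    (hnD : n ∈ normalizer ((R ⊓ N : Subgroup G) : Set G)) {k : ℕ} (hk : n ^ 2 ^ k = 1) : n ∈ R ⊓ N := by
  have : Fact (Nat.Prime 2) := ⟨Nat.prime_two⟩
  have hn2 : IsPGroup 2 (zpowers n) := by
    rintro ⟨_, i, rfl⟩
    refine ⟨k, Subtype.ext ?_⟩
    show (n ^ i) ^ 2 ^ k = 1
    rw [← zpow_natCast, ← zpow_mul, mul_comm, zpow_mul, zpow_natCast, hk, one_zpow]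
  have hV : IsPGroup 2 (zpowers n ⊔ (R ⊓ N) : Subgroup G) :=
    hn2.to_sup_of_normal_right' (hR.to_le inf_le_left) (by rw [zpowers_le]; exact hnD)
  have h1 := le_of_two hodd hV (sup_le (by rw [zpowers_le]; exact hn) inf_le_right) le_sup_right
  exact ⟨h1 (mem_sup_left (mem_zpowers n)), hn⟩

theorem mem_of_coprime {H : Subgroup G} {t : G} {m k : ℕ} (h1 : t ^ m ∈ H) (h2 : t ^ k ∈ H) (hc : Nat.Coprime m k) :
    t ∈ H := by
  have h3 : (t : G) = (t ^ m) ^ (Nat.gcdA m k) * (t ^ k) ^ (Nat.gcdB m k) := by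
    rw [← zpow_natCast, ← zpow_natCast, ← zpow_mul, ← zpow_mul, ← zpow_add, ← Nat.gcd_eq_gcd_ab, hc.gcd_eq_one]
    simp
  rw [h3]
  exact H.mul_mem (H.zpow_mem h1 _) (H.zpow_mem h2 _)

/-- elements of `R` above a perfect subgroup of `G/N` centralise `R ⊓ N` -/
theorem comm_of_perfect (hR : IsPGroup 2 R) (hodd : Odd ((R ⊓ N).relIndex N)) (hDc : R ⊓ N ≤ zpowers c)
    {L : Subgroup (G ⧸ N)} (hL : ⁅L, L⁆ = L) {t d : G} (ht : t ∈ R) (htL : QuotientGroup.mk' N t ∈ L)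
    (hd : d ∈ R ⊓ N) : t * d * t⁻¹ = d := by
  set D : Subgroup G := R ⊓ N with hD
  have hΓ := commutator_le_gamma hR hodd hDc
  rw [← hD] at hΓ
  -- `t = c₀ n`
  have h1 : t ∈ centralizer (D : Set G) ⊔ N := by
    have h2 : QuotientGroup.mk' N t ∈ (⁅(⊤ : Subgroup G), (⊤ : Subgroup G)⁆ : Subgroup G).map (QuotientGroup.mk' N) := by
      rw [map_commutator, ← MonoidHom.range_eq_map, MonoidHom.range_eq_top.2 (QuotientGroup.mk'_surjective N)]
      rw [← hL] at htL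
      exact commutator_mono le_top le_top htL
    obtain ⟨y, hy, hyt⟩ := h2
    have h3 : y⁻¹ * t ∈ N := QuotientGroup.eq.1 hyt
    have h4 : t = y * (y⁻¹ * t) := by group
    rw [h4]
    exact mul_mem (hΓ hy) (mem_sup_right h3)
  obtain ⟨c₀, hc₀, n, hn, hcn⟩ := mem_sup_of_normal_right.1 h1
  have hRD : R ≤ normalizer (D : Set G) := by
    have key : ∀ r ∈ R, ∀ e ∈ D, r * e * r⁻¹ ∈ D := fun r hr e he =>
      ⟨R.mul_mem (R.mul_mem hr he.1) (R.inv_mem hr), hN.conj_mem e he.2 r⟩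
    intro r hr
    rw [mem_normalizer_iff]
    intro e
    refine ⟨key r hr e, fun h => ?_⟩
    have h2 := key r⁻¹ (R.inv_mem hr) _ h
    have e1 : r⁻¹ * (r * e * r⁻¹) * r⁻¹⁻¹ = e := by group
    rwa [e1] at h2
  have hcD : centralizer (D : Set G) ≤ normalizer (D : Set G) := Subgroup.centralizer_le_normalizer _
  have hnt : n = c₀⁻¹ * t := by rw [← hcn]; group
  have hnD : n ∈ normalizer (D : Set G) := by
    rw [hnt]; exact mul_mem (inv_mem (hcD hc₀)) (hRD ht)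
  have hact : ∀ e ∈ D, n * e * n⁻¹ = t * e * t⁻¹ := by
    intro e he
    have h2 : t * e * t⁻¹ ∈ D := (mem_normalizer_iff.1 (hRD ht) e).1 he
    have h3 : (t * e * t⁻¹) * c₀ = c₀ * (t * e * t⁻¹) := mem_centralizer_iff.1 hc₀ _ h2
    rw [hnt]
    calc c₀⁻¹ * t * e * (c₀⁻¹ * t)⁻¹ = c₀⁻¹ * ((t * e * t⁻¹) * c₀) := by group
      _ = t * e * t⁻¹ := by rw [h3]; group
  have hpow : ∀ j : ℕ, ∀ e ∈ D, n ^ j * e * (n ^ j)⁻¹ = t ^ j * e * (t ^ j)⁻¹ := by
    intro j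
    induction j with
    | zero => intro e _; simp
    | succ j ih =>
      intro e he
      have h2 : n * e * n⁻¹ ∈ D := (mem_normalizer_iff.1 hnD e).1 he
      calc n ^ (j + 1) * e * (n ^ (j + 1))⁻¹ = n ^ j * (n * e * n⁻¹) * (n ^ j)⁻¹ := by rw [pow_succ]; group
        _ = t ^ j * (n * e * n⁻¹) * (t ^ j)⁻¹ := ih _ h2
        _ = t ^ j * (t * e * t⁻¹) * (t ^ j)⁻¹ := by rw [hact e he]
        _ = _ := by rw [pow_succ]; group
  obtain ⟨a, m, hmo, hm2⟩ := Nat.exists_eq_two_pow_mul_odd (n := orderOf n) (orderOf_pos n).ne'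
  have hn2 : (n ^ m) ^ 2 ^ a = 1 := by
    rw [← pow_mul, mul_comm, ← hm2, pow_orderOf_eq_one]
  have hnm : n ^ m ∈ D := mem_of_two_el hR hodd (N.pow_mem hn m) (pow_mem hnD m) hn2
  have htm : t ^ m ∈ centralizer (D : Set G) := by
    rw [mem_centralizer_iff]
    intro e he
    have h2 : t ^ m * e * (t ^ m)⁻¹ = e := by
      rw [← hpow m e he]
      obtain ⟨i, hi⟩ := hDc hnm
      obtain ⟨j, hj⟩ := hDc he
      have hi' : c ^ i = n ^ m := hi
      have hj' : c ^ j = e := hj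
      rw [← hi', ← hj']
      group
    exact (mul_inv_eq_iff_eq_mul.1 h2).symm
  obtain ⟨k, hk⟩ := hR ⟨t, ht⟩
  have hk' : t ^ 2 ^ k = 1 := congrArg Subtype.val hk
  have htD : t ∈ centralizer (D : Set G) :=
    mem_of_coprime htm (by rw [hk']; exact one_mem _) (Nat.Coprime.pow_right k hmo.coprime_two_right)
  have h5 := mem_centralizer_iff.1 htD d hd
  rw [← h5, mul_inv_cancel_right]

theorem mk'_eq_one_iff {x : G} : QuotientGroup.mk' N x = 1 ↔ x ∈ N := QuotientGroup.eq_one_iff x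

theorem cyc_eq {E : Subgroup (G ⧸ N)} (hexp : ∀ e ∈ E, e * e = 1) {s t : G} (hs : s ∈ zpowers c) (ht : t ∈ zpowers c)
    (hsE : QuotientGroup.mk' N s ∈ E) (htE : QuotientGroup.mk' N t ∈ E) (hsN : s ∉ N) (htN : t ∉ N) :
    QuotientGroup.mk' N s = QuotientGroup.mk' N t := by
  set K : Subgroup G := zpowers c ⊓ E.comap (QuotientGroup.mk' N) with hK
  have hcyc : IsCyclic K := isCyclic_of_injective (Subgroup.inclusion (inf_le_left : K ≤ zpowers c))
    (Subgroup.inclusion_injective _)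
  obtain ⟨g, hg⟩ := (Subgroup.isCyclic_iff_exists_zpowers_eq_top K).1 hcyc
  have hgK : g ∈ K := by rw [← hg]; exact mem_zpowers g
  have hg2 := hexp _ (show QuotientGroup.mk' N g ∈ E from hgK.2)
  have key : ∀ x ∈ K, x ∉ N → QuotientGroup.mk' N x = QuotientGroup.mk' N g := by
    intro x hx hxN
    rw [← hg] at hx
    obtain ⟨i, rfl⟩ := hx
    show QuotientGroup.mk' N (g ^ i) = _
    rw [map_zpow]
    obtain ⟨j, hj | hj⟩ := Int.even_or_odd' i
    · exfalso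
      apply hxN
      rw [← mk'_eq_one_iff (N := N)]
      show QuotientGroup.mk' N (g ^ i) = 1
      rw [map_zpow, hj, zpow_mul, zpow_two, hg2, one_zpow]
    · rw [hj, zpow_add, zpow_mul, zpow_two, hg2, one_zpow, one_mul, zpow_one]
  rw [key s ⟨hs, hsE⟩ hsN, key t ⟨ht, htE⟩ htN]

theorem exists_gens (q : QD R c z) {E : Subgroup (G ⧸ N)} (hER : E ≤ R.map (QuotientGroup.mk' N))
    (hexp : ∀ e ∈ E, e * e = 1) (two : ∃ x ∈ E, ∃ y ∈ E, x ≠ y ∧ x ≠ 1 ∧ y ≠ 1) :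
    ∃ y₀ ∈ R, ∃ t₀ ∈ zpowers c, QuotientGroup.mk' N y₀ ∈ E ∧ QuotientGroup.mk' N t₀ ∈ E ∧ y₀ ∉ zpowers c ∧
      t₀ ∉ N ∧ R ⊓ N ≤ zpowers c := by
  -- an element outside
  have hout : ∃ y₀ ∈ R, ∃ x ∈ E, x ≠ 1 ∧ x ≠ QuotientGroup.mk' N y₀ ∧ QuotientGroup.mk' N y₀ ∈ E ∧
      ∀ w ∈ zpowers c, QuotientGroup.mk' N w ≠ QuotientGroup.mk' N y₀ := by
    obtain ⟨x, hx, y, hy, hxy, hx1, hy1⟩ := two
    obtain ⟨s, hs, rfl⟩ := hER hx
    obtain ⟨t, ht, rfl⟩ := hER hy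
    by_cases h1 : ∃ w ∈ zpowers c, QuotientGroup.mk' N w = QuotientGroup.mk' N s
    · obtain ⟨w, hw, hws⟩ := h1
      refine ⟨t, ht, _, hx, hx1, hxy, hy, fun w' hw' h2 => ?_⟩
      apply hxy
      rw [← hws, ← h2]
      refine cyc_eq hexp hw hw' (by rw [hws]; exact hx) (by rw [h2]; exact hy) ?_ ?_
      · rw [← mk'_eq_one_iff (N := N), hws]; exact hx1
      · rw [← mk'_eq_one_iff (N := N), h2]; exact hy1
    · push Not at h1
      exact ⟨s, hs, _, hy, hy1, fun h => hxy h.symm, hx, h1⟩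
  obtain ⟨y₀, hy₀, x, hx, hx1, hxy, hyE, hw⟩ := hout
  have hyc : y₀ ∉ zpowers c := fun h => hw y₀ h rfl
  obtain ⟨s, hs, rfl⟩ := hER hx
  have hD : R ⊓ N ≤ zpowers c := by
    rintro d ⟨hd, hdN⟩
    by_contra hdc
    refine hw (y₀ * d) (q.mul y₀ hy₀ d hd hyc hdc) ?_
    rw [map_mul, mk'_eq_one_iff.2 hdN, mul_one]
  by_cases hsc : s ∈ zpowers c
  · exact ⟨y₀, hy₀, s, hsc, hyE, hx, hyc, fun h => hx1 (mk'_eq_one_iff.2 h), hD⟩
  · refine ⟨y₀, hy₀, s * y₀, q.mul s hs y₀ hy₀ hsc hyc, hyE, ?_, hyc, fun h => ?_, hD⟩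
    · rw [map_mul]; exact E.mul_mem hx hyE
    · apply hxy
      have h1 := mk'_eq_one_iff.2 h
      rw [map_mul] at h1
      have h2 := hexp _ hyE
      exact (mul_right_cancel (h1.trans h2.symm))

/-- **The exceptional case of Foote's theorem does not occur.** -/
theorem false_of_exc (hR : IsPGroup 2 R) (q : QD R c z) (hodd : Odd ((R ⊓ N).relIndex N))
    {L E Q : Subgroup (G ⧸ N)} (hL : ⁅L, L⁆ = L) (hEA : E = R.map (QuotientGroup.mk' N) ⊓ L) (hQL : Q ≤ L) (hEQ : E ≤ Q)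
    (hcen : ∀ e ∈ E, ∀ p ∈ Q, e * p = p * e) (hexp : ∀ e ∈ E, e * e = 1)
    (two : ∃ x ∈ E, ∃ y ∈ E, x ≠ y ∧ x ≠ 1 ∧ y ≠ 1) (hsq : ∃ u ∈ Q, u * u ∈ E ∧ u * u ≠ 1) : False := by
  have hf2 : Fact (Nat.Prime 2) := ⟨Nat.prime_two⟩
  set π := QuotientGroup.mk' N with hπ
  have hER : E ≤ R.map π := by rw [hEA]; exact inf_le_left
  obtain ⟨y₀, hy₀, t₀, ht₀, hyE, htE, hyc, htN, hDc⟩ := exists_gens q hER hexp two
  have hcR : zpowers c ≤ R := by rw [zpowers_le]; exact q.hc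
  have hEL : E ≤ L := by rw [hEA]; exact inf_le_right
  -- `D = {1, z}`
  have hDz : ∀ d ∈ R ⊓ N, d = 1 ∨ d = z := by
    intro d hd
    have h1 := comm_of_perfect hR hodd hDc hL hy₀ (hEL hyE) hd
    have h2 := conj_mem_zpowers_inv q hy₀ hyc (hDc hd)
    rw [h1] at h2
    have h3 : d * d = 1 := by
      nth_rewrite 2 [h2]
      exact mul_inv_cancel d
    exact q.uniq d hd.1 h3
  have ht₀N : t₀ * t₀ ∈ R ⊓ N := mem_inf.2 ⟨R.mul_mem (hcR ht₀) (hcR ht₀),
    mk'_eq_one_iff.1 (by rw [map_mul]; exact hexp _ htE)⟩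
  have ht₀1 : t₀ ≠ 1 := fun h => htN (by rw [h]; exact one_mem _)
  have hzN : z ∈ N := by
    rcases hDz _ ht₀N with h | h
    · rcases q.uniq t₀ (hcR ht₀) h with h1 | h1
      · exact absurd h1 ht₀1
      · -- `t₀ = z`: then `y₀² ∈ D` is `1` or `z`
        have hyN : y₀ * y₀ ∈ R ⊓ N := mem_inf.2 ⟨R.mul_mem hy₀ hy₀,
          mk'_eq_one_iff.1 (by rw [map_mul]; exact hexp _ hyE)⟩
        rcases hDz _ hyN with h2 | h2
        · exfalso
          rcases q.uniq y₀ hy₀ h2 with h3 | h3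
          · exact hyc (by rw [h3]; exact one_mem _)
          · exact hyc (by rw [h3, ← h1]; exact ht₀)
        · rw [← h2]; exact hyN.2
    · rw [← h]; exact ht₀N.2
  have hD : ∀ d, d ∈ R ⊓ N ↔ d = 1 ∨ d = z := fun d => ⟨hDz d, by
    rintro (rfl | rfl)
    · exact one_mem _
    · exact ⟨q.hz, hzN⟩⟩
  have ht₀z : t₀ * t₀ = z := by
    rcases hDz _ ht₀N with h | h
    · exfalso
      rcases q.uniq t₀ (hcR ht₀) h with h1 | h1
      · exact ht₀1 h1
      · exact htN (h1 ▸ hzN)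
    · exact h
  have hyt : y₀ * t₀ * y₀⁻¹ = t₀⁻¹ := conj_mem_zpowers_inv q hy₀ hyc ht₀
  have hzc : z ∈ zpowers c := hDc ((hD z).2 (Or.inr rfl))
  have hzcen : ∀ r ∈ R, r * z = z * r := by
    intro r hr
    by_cases hrc : r ∈ zpowers c
    · obtain ⟨i, rfl⟩ := hrc
      obtain ⟨j, rfl⟩ := hzc
      show c ^ i * c ^ j = c ^ j * c ^ i
      rw [← zpow_add, ← zpow_add, add_comm]
    · have h1 := conj_mem_zpowers_inv q hr hrc hzc
      have h2 : z⁻¹ = z := inv_eq_of_mul_eq_one_left q.zz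
      rw [h2] at h1
      exact mul_inv_eq_iff_eq_mul.1 h1
  -- the group `T`
  set T : Subgroup G := R ⊓ E.comap π with hT
  have hTE : T.map π = E := by
    apply le_antisymm
    · rintro _ ⟨t, ht, rfl⟩
      exact ht.2
    · intro e he
      obtain ⟨r, hr, rfl⟩ := hER he
      exact ⟨r, ⟨hr, he⟩, rfl⟩
  have hT2 : IsPGroup 2 T := hR.to_le inf_le_left
  have hy₀T : y₀ ∈ T := ⟨hy₀, hyE⟩
  have ht₀T : t₀ ∈ T := ⟨hcR ht₀, htE⟩
  have hDT : R ⊓ N ≤ T := fun d hd => ⟨hd.1, by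
    show π d ∈ E
    rw [show π d = 1 from mk'_eq_one_iff.2 hd.2]; exact one_mem _⟩
  have hNX : N ≤ E.comap π := fun n hn => by
    show π n ∈ E
    rw [show π n = 1 from mk'_eq_one_iff.2 hn]; exact one_mem _
  -- the Frattini argument
  obtain ⟨u, huQ, huE, hu1⟩ := hsq
  obtain ⟨h₀, rfl⟩ := QuotientGroup.mk'_surjective N u
  have hmax : ∀ V : Subgroup G, IsPGroup 2 V → T ≤ V → V ≤ E.comap π → V ≤ T := by
    intro V hV hTV hVX v hv
    have h1 : π v ∈ T.map π := by rw [hTE]; exact hVX hv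
    obtain ⟨t, ht, htv⟩ := h1
    have h2 : t⁻¹ * v ∈ N := QuotientGroup.eq.1 htv
    have h3 : t⁻¹ * v ∈ V ⊓ N := mem_inf.2 ⟨V.mul_mem (V.inv_mem (hTV ht)) hv, h2⟩
    have h4 : V ⊓ N ≤ R := le_of_two hodd (hV.to_le inf_le_left) inf_le_right (le_inf (hDT.trans hTV) inf_le_right)
    have h5 : t⁻¹ * v ∈ T := hDT ⟨h4 h3, h2⟩
    have h6 : v = t * (t⁻¹ * v) := by group
    rw [h6]
    exact T.mul_mem ht h5
  have hfrat : ∃ x ∈ E.comap π, x * h₀ ∈ normalizer (T : Set G) := by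
    set X : Subgroup G := E.comap π with hX
    have hTX : T ≤ X := inf_le_right
    have hT2' : IsPGroup 2 (T.subgroupOf X) := hT2.comap_of_injective _ X.subtype_injective
    obtain ⟨P₁, hP₁⟩ := hT2'.exists_le_sylow
    have hP₁T : ∀ x : X, x ∈ P₁ → (x : G) ∈ T := by
      intro x hx
      refine hmax ((P₁ : Subgroup X).map X.subtype) (P₁.isPGroup'.map _) ?_ ?_ ⟨x, hx, rfl⟩
      · intro t ht
        exact ⟨⟨t, hTX ht⟩, hP₁ ht, rfl⟩
      · rintro _ ⟨y, -, rfl⟩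
        exact y.2
    -- the conjugate
    set W : Subgroup G := T.map (MulAut.conj h₀).toMonoidHom with hW
    have hWX : W ≤ X := by
      rintro _ ⟨t, ht, rfl⟩
      show π (h₀ * t * h₀⁻¹) ∈ E
      have h1 : π t ∈ E := ht.2
      have h2 : π (h₀ * t * h₀⁻¹) = π t := by
        rw [map_mul, map_mul, map_inv, ← hcen _ h1 _ huQ, mul_inv_cancel_right]
      rw [h2]; exact h1
    have hW2 : IsPGroup 2 (W.subgroupOf X) := (hT2.map _).comap_of_injective _ X.subtype_injective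
    obtain ⟨P₂, hP₂⟩ := hW2.exists_le_sylow
    obtain ⟨g, hg⟩ := MulAction.exists_smul_eq X P₂ P₁
    refine ⟨g, g.2, ?_⟩
    have key : ∀ t ∈ T, (g : G) * h₀ * t * ((g : G) * h₀)⁻¹ ∈ T := by
      intro t ht
      have h1 : (⟨h₀ * t * h₀⁻¹, hWX ⟨t, ht, rfl⟩⟩ : X) ∈ P₂ := hP₂ ⟨t, ht, rfl⟩
      have h2 : g * ⟨h₀ * t * h₀⁻¹, hWX ⟨t, ht, rfl⟩⟩ * g⁻¹ ∈ P₁ := by
        rw [← hg]
        exact ⟨_, h1, rfl⟩
      have h3 := hP₁T _ h2
      have e1 : (g : G) * h₀ * t * ((g : G) * h₀)⁻¹ = (g : G) * (h₀ * t * h₀⁻¹) * (g : G)⁻¹ := by group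
      rw [e1]; exact h3
    exact mem_normalizer_fintype key
  obtain ⟨x, hxX, hxT⟩ := hfrat
  have hxE : π x ∈ E := hxX
  -- a 2-element `y` normalising `T`, above `Q`
  obtain ⟨a, m, hmo, hm2⟩ := Nat.exists_eq_two_pow_mul_odd (n := orderOf (x * h₀)) (orderOf_pos (x * h₀)).ne'
  obtain ⟨y, hy⟩ : ∃ y, y = (x * h₀) ^ m := ⟨_, rfl⟩
  have hy2 : y ^ 2 ^ a = 1 := by
    rw [hy, ← pow_mul, mul_comm, ← hm2, pow_orderOf_eq_one]
  have hyT : y ∈ normalizer (T : Set G) := by rw [hy]; exact pow_mem hxT m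
  have hyQ : π y ∈ Q := by
    rw [hy, map_pow, map_mul]
    exact Q.pow_mem (Q.mul_mem (hEQ hxE) huQ) m
  have hysq : π y * π y = π h₀ * π h₀ := by
    have h1 : (π x * π h₀) * (π x * π h₀) = π h₀ * π h₀ := by
      have h2 := hcen _ hxE _ huQ
      calc (π x * π h₀) * (π x * π h₀) = π x * (π h₀ * π x) * π h₀ := by group
        _ = π x * (π x * π h₀) * π h₀ := by rw [h2]
        _ = (π x * π x) * (π h₀ * π h₀) := by group
        _ = _ := by rw [hexp _ hxE, one_mul]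
    rw [hy, map_pow, map_mul, ← pow_add, ← two_mul, pow_mul, pow_two, h1]
    obtain ⟨j, hj⟩ := hmo
    rw [hj, pow_add, pow_mul, pow_two (π h₀ * π h₀), hexp _ huE, one_pow, one_mul, pow_one]
  have hact : ∀ s ∈ T, y * s * y⁻¹ = s ∨ y * s * y⁻¹ = s * z := by
    intro s hs
    have h1 : y * s * y⁻¹ ∈ T := (mem_normalizer_iff.1 hyT s).1 hs
    have h2 : s⁻¹ * (y * s * y⁻¹) ∈ R ⊓ N := by
      refine mem_inf.2 ⟨R.mul_mem (R.inv_mem hs.1) h1.1, mk'_eq_one_iff.1 ?_⟩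
      show π (s⁻¹ * (y * s * y⁻¹)) = 1
      have h3 : π s * π y = π y * π s := hcen _ hs.2 _ hyQ
      rw [map_mul, map_mul, map_mul, map_inv, map_inv, ← h3]
      group
    rcases (hD _).1 h2 with h3 | h3
    · left
      exact (inv_mul_eq_one.1 h3).symm
    · right
      rw [← h3]; group
  have hty : t₀ * y₀ * t₀⁻¹ = y₀ * z := by
    have h1 : y₀ * t₀⁻¹ * y₀⁻¹ = t₀ := by
      calc y₀ * t₀⁻¹ * y₀⁻¹ = (y₀ * t₀ * y₀⁻¹)⁻¹ := by group
        _ = t₀ := by rw [hyt, inv_inv]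
    have h3 : z = z⁻¹ := (inv_eq_of_mul_eq_one_left q.zz).symm
    calc t₀ * y₀ * t₀⁻¹ = (y₀ * t₀⁻¹ * y₀⁻¹) * y₀ * t₀⁻¹ := by rw [h1]
      _ = y₀ * (t₀ * t₀)⁻¹ := by group
      _ = y₀ * z := by rw [ht₀z, ← h3]
  have hyt' : y₀ * t₀ * y₀⁻¹ = t₀ * z := by
    rw [hyt]
    have h1 : t₀ * (t₀ * z) = 1 := by rw [← mul_assoc, ht₀z, q.zz]
    exact inv_eq_of_mul_eq_one_right h1
  have hzt : t₀ * z = z * t₀ := hzcen t₀ (hcR ht₀)
  have hzy : y₀ * z = z * y₀ := hzcen y₀ hy₀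
  have htact : ∃ t' ∈ T, y * t₀ * y⁻¹ = t' * t₀ * t'⁻¹ ∧ y * y₀ * y⁻¹ = t' * y₀ * t'⁻¹ := by
    rcases hact t₀ ht₀T with h1 | h1 <;> rcases hact y₀ hy₀T with h2 | h2
    · exact ⟨1, one_mem _, by rw [h1]; group, by rw [h2]; group⟩
    · exact ⟨t₀, ht₀T, by rw [h1]; group, by rw [h2, hty]⟩
    · exact ⟨y₀, hy₀T, by rw [h1, hyt'], by rw [h2]; group⟩
    · refine ⟨y₀ * t₀, T.mul_mem hy₀T ht₀T, ?_, ?_⟩
      · rw [h1, ← hyt']; group
      · rw [h2]
        calc y₀ * z = y₀ * (z * y₀) * y₀⁻¹ := by group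
          _ = y₀ * (y₀ * z) * y₀⁻¹ := by rw [hzy]
          _ = y₀ * (t₀ * y₀ * t₀⁻¹) * y₀⁻¹ := by rw [hty]
          _ = _ := by group
  obtain ⟨t', ht', ha1, ha2⟩ := htact
  obtain ⟨w, hw⟩ : ∃ w, w = t'⁻¹ * y := ⟨_, rfl⟩
  have hw1 : w * t₀ = t₀ * w := by
    have h1 : w * t₀ * w⁻¹ = t₀ := by
      calc w * t₀ * w⁻¹ = t'⁻¹ * (y * t₀ * y⁻¹) * t' := by rw [hw]; group
        _ = t₀ := by rw [ha1]; group
    exact mul_inv_eq_iff_eq_mul.1 h1
  have hw2 : w * y₀ = y₀ * w := by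
    have h1 : w * y₀ * w⁻¹ = y₀ := by
      calc w * y₀ * w⁻¹ = t'⁻¹ * (y * y₀ * y⁻¹) * t' := by rw [hw]; group
        _ = y₀ := by rw [ha2]; group
    exact mul_inv_eq_iff_eq_mul.1 h1
  have hwsq : π w * π w = π h₀ * π h₀ := by
    have h2 : (π t')⁻¹ = π t' := inv_eq_of_mul_eq_one_left (hexp _ ht'.2)
    have h3 := hcen _ ht'.2 _ hyQ
    rw [hw, map_mul, map_inv, h2]
    calc π t' * π y * (π t' * π y) = π t' * (π y * π t') * π y := by group
      _ = π t' * (π t' * π y) * π y := by rw [h3]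
      _ = (π t' * π t') * (π y * π y) := by group
      _ = _ := by rw [hexp _ ht'.2, one_mul, hysq]
  have h5 : π h₀ * π h₀ ∈ T.map π := by rw [hTE]; exact huE
  obtain ⟨t, ht, hte⟩ := h5
  -- the 2-group `V = T ⟨y⟩`
  set V : Subgroup G := zpowers y ⊔ T with hV
  have hV2 : IsPGroup 2 V := by
    have h1 : IsPGroup 2 (zpowers y) := by
      rintro ⟨_, i, rfl⟩
      refine ⟨a, Subtype.ext ?_⟩
      show (y ^ i) ^ 2 ^ a = 1
      rw [← zpow_natCast, ← zpow_mul, mul_comm, zpow_mul, zpow_natCast, hy2, one_zpow]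
    exact h1.to_sup_of_normal_right' hT2 (by rw [zpowers_le]; exact hyT)
  have hwV : w ∈ V := by
    rw [hw]; exact V.mul_mem (V.inv_mem (mem_sup_right ht')) (mem_sup_left (mem_zpowers y))
  have hn : (w * w)⁻¹ * t ∈ V ⊓ N := by
    refine mem_inf.2 ⟨V.mul_mem (V.inv_mem (V.mul_mem hwV hwV)) (mem_sup_right ht), mk'_eq_one_iff.1 ?_⟩
    show π ((w * w)⁻¹ * t) = 1
    rw [map_mul, map_inv, map_mul, hwsq]
    rw [show π t = π h₀ * π h₀ from hte, inv_mul_cancel]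
  have hnR : V ⊓ N ≤ R :=
    le_of_two hodd (hV2.to_le inf_le_left) inf_le_right (le_inf (hDT.trans le_sup_right) inf_le_right)
  have hnz := (hD _).1 (mem_inf.2 ⟨hnR hn, hn.2⟩)
  obtain ⟨n, hnn⟩ : ∃ n, n = (w * w)⁻¹ * t := ⟨_, rfl⟩
  rw [← hnn] at hnz
  have htn : t = w * w * n := by rw [hnn]; group
  have hn1 : n * t₀ = t₀ * n := by
    rcases hnz with h | h
    · rw [h, one_mul, mul_one]
    · rw [h, hzt]
  have hn2 : n * y₀ = y₀ * n := by
    rcases hnz with h | h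
    · rw [h, one_mul, mul_one]
    · rw [h, hzy]
  have ht1 : t * t₀ = t₀ * t := by
    rw [htn]
    calc w * w * n * t₀ = w * w * (n * t₀) := by group
      _ = w * (w * t₀) * n := by rw [hn1]; group
      _ = w * (t₀ * w) * n := by rw [hw1]
      _ = (w * t₀) * w * n := by group
      _ = (t₀ * w) * w * n := by rw [hw1]
      _ = t₀ * (w * w * n) := by group
  have ht2 : t * y₀ = y₀ * t := by
    rw [htn]
    calc w * w * n * y₀ = w * w * (n * y₀) := by group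
      _ = w * (w * y₀) * n := by rw [hn2]; group
      _ = w * (y₀ * w) * n := by rw [hw2]
      _ = (w * y₀) * w * n := by group
      _ = (y₀ * w) * w * n := by rw [hw2]
      _ = y₀ * (w * w * n) := by group
  by_cases htc : t ∈ zpowers c
  · have h1 := conj_mem_zpowers_inv q hy₀ hyc htc
    rw [← ht2, mul_inv_cancel_right] at h1
    have h2 : t * t = 1 := by
      nth_rewrite 2 [h1]
      exact mul_inv_cancel t
    apply hu1
    have h3 : t ∈ R ⊓ N := by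
      rcases q.uniq t ht.1 h2 with h | h
      · rw [h]; exact one_mem _
      · rw [h]; exact (hD z).2 (Or.inr rfl)
    show π h₀ * π h₀ = 1
    rw [← hte]
    exact mk'_eq_one_iff.2 h3.2
  · have h1 := conj_mem_zpowers_inv q ht.1 htc ht₀
    rw [ht1, mul_inv_cancel_right] at h1
    have h2 : t₀ * t₀ = 1 := by
      nth_rewrite 2 [h1]
      exact mul_inv_cancel t₀
    exact q.z1 (ht₀z.symm.trans h2)

end main

end Cfsg.Agent.H781.QuatClosed
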