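import Mathlib

/-!
# A non-real 2-element of `PSL_n(q)`, `n ≥ 6`, `q` odd (helper781)

`x = D ⊕ (-1) ⊕ 1` where `D` is a 2-element of `GL_2(q)` with determinant `-1` and trace `≠ 0`.
-/

set_option autoImplicit false

namespace Cfsg.Agent.H781.RealPsl

open Matrix

variable {F : Type*} [Field F]

/-! ### The 2-element `D` -/

theorem sq_of_trace_zero (w : Matrix (Fin 2) (Fin 2) F) (h1 : w.det = -1) (h2 : w.trace = 0) : w * w = 1 := by
  rw [det_fin_two] at h1
  rw [trace_fin_two] at h2
  have h3 : w 1 1 = - w 0 0 := by linear_combination h2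
  rw [h3] at h1
  ext i j
  fin_cases i <;> fin_cases j <;> simp [Matrix.mul_apply, Fin.sum_univ_two, h3] <;>
    first
    | linear_combination (-1 : F) * h1
    | ring

theorem exists_nonsquare [Fintype F] (hF : ringChar F ≠ 2) (hm : ¬ IsSquare (-1 : F)) :
    ∃ t : F, ¬ IsSquare (t ^ 2 + 4) := by
  by_contra hcon
  push Not at hcon
  have h1 : ∀ k : ℕ, IsSquare ((4 : F) * k) := by
    intro k
    induction k with
    | zero => simp
    | succ k ih =>
      obtain ⟨s, hs⟩ := ih
      have := hcon s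
      have e : s ^ 2 + 4 = 4 * ((k + 1 : ℕ) : F) := by
        rw [pow_two, ← hs]; push_cast; ring
      rwa [e] at this
  have hp : Fact (ringChar F).Prime := ⟨CharP.char_is_prime F _⟩
  obtain ⟨s, hs⟩ := h1 (ringChar F - 1)
  apply hm
  have h2 : ((ringChar F - 1 : ℕ) : F) = -1 := by
    have h3 : 1 ≤ ringChar F := hp.out.one_le
    rw [Nat.cast_sub h3, CharP.cast_eq_zero]
    simp
  rw [h2] at hs
  have h20 : (2 : F) ≠ 0 := Ring.two_ne_zero hF
  refine ⟨s / 2, ?_⟩
  field_simp
  linear_combination hs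

theorem exists_D [Fintype F] (hF : ringChar F ≠ 2) :
    ∃ D : Matrix (Fin 2) (Fin 2) F, (∃ k : ℕ, D ^ 2 ^ k = 1) ∧ D.det = -1 ∧ D.trace ≠ 0 := by
  have h20 : (2 : F) ≠ 0 := Ring.two_ne_zero hF
  by_cases hm : IsSquare (-1 : F)
  · obtain ⟨i, hi⟩ := hm
    have hi0 : i ≠ 0 := by
      rintro rfl
      simp at hi
    refine ⟨Matrix.diagonal fun _ => i, ⟨2, ?_⟩, ?_, ?_⟩
    · rw [Matrix.diagonal_pow, ← Matrix.diagonal_one]
      congr 1
      funext _
      show i ^ 2 ^ 2 = 1
      have : i ^ 2 ^ 2 = (i * i) * (i * i) := by ring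
      rw [this, ← hi]
      ring
    · rw [Matrix.det_diagonal, Fin.prod_univ_two, ← hi]
    · rw [Matrix.trace_diagonal, Fin.sum_univ_two]
      intro h
      have : 2 * i = 0 := by linear_combination h
      exact (mul_ne_zero h20 hi0) this
  · obtain ⟨t, ht⟩ := exists_nonsquare hF hm
    let y : Matrix (Fin 2) (Fin 2) F := !![t, 1; 1, 0]
    have hy : y.det = -1 := by simp [y, det_fin_two]
    have hyu : IsUnit y := by
      rw [Matrix.isUnit_iff_isUnit_det, hy]
      exact isUnit_one.neg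
    obtain ⟨u, hu⟩ := hyu
    have hpos : 0 < orderOf u := orderOf_pos u
    obtain ⟨k, m, hmo, hm2⟩ := Nat.exists_eq_two_pow_mul_odd (n := orderOf u) hpos.ne'
    have hup : (u ^ m) ^ 2 ^ k = 1 := by
      rw [← pow_mul, mul_comm, ← hm2, pow_orderOf_eq_one]
    refine ⟨y ^ m, ⟨k, ?_⟩, ?_, ?_⟩
    · rw [← hu]
      have := congrArg Units.val hup
      simpa using this
    · rw [det_pow, hy]
      exact Odd.neg_one_pow hmo
    · intro htr
      have hdet : (y ^ m).det = -1 := by
        rw [det_pow, hy]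
        exact Odd.neg_one_pow hmo
      have hsq := sq_of_trace_zero _ hdet htr
      have hcomm : y ^ m * y = y * y ^ m := (Commute.refl y).pow_left m
      set w := y ^ m with hw
      have e01 := congrFun (congrFun hcomm 0) 0
      have e02 := congrFun (congrFun hcomm 0) 1
      have e03 := congrFun (congrFun hcomm 1) 0
      have e11 := congrFun (congrFun hsq 0) 0
      rw [trace_fin_two] at htr
      simp only [Matrix.mul_apply, Fin.sum_univ_two, y, Matrix.of_apply, Matrix.cons_val', Matrix.cons_val_zero,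
        Matrix.cons_val_one, Matrix.one_apply_eq] at e01 e02 e03 e11
      simp at e01 e02 e03 e11
      have hb : w 0 1 = w 1 0 := by linear_combination e01
      have h2a : 2 * w 0 0 = t * w 0 1 := by linear_combination e02 + htr
      have h4 : (t ^ 2 + 4) * (w 0 1 * w 0 1) = 4 := by
        rw [← hb] at e11
        linear_combination 4 * e11 - (2 * w 0 0 + t * w 0 1) * h2a
      have hb0 : w 0 1 ≠ 0 := by
        intro h0
        rw [h0, mul_zero, mul_zero] at h4
        apply h20
        have : (2 : F) * 2 = 0 := by linear_combination -h4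
        exact (mul_self_eq_zero).1 this
      refine ht ⟨2 / w 0 1, ?_⟩
      field_simp
      linear_combination h4

/-! ### Elements of the form `A ⊕ 1` -/

section block

variable {ρ κ : Type*} [Fintype ρ] [DecidableEq ρ] [Fintype κ] [DecidableEq κ]

/-- vectors supported on the second block -/
def emb (ρ : Type*) {κ : Type*} (v : κ → F) : ρ ⊕ κ → F := Sum.elim (0 : ρ → F) v

omit [Fintype ρ] [DecidableEq ρ] [Fintype κ] [DecidableEq κ] in
theorem emb_add (v w : κ → F) : emb ρ (v + w) = emb ρ v + emb ρ w := by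
  funext x; cases x <;> simp [emb]

omit [Fintype ρ] [DecidableEq ρ] [Fintype κ] [DecidableEq κ] in
theorem emb_smul (c : F) (v : κ → F) : emb ρ (c • v) = c • emb ρ v := by
  funext x; cases x <;> simp [emb]

theorem scalar_of_conj (A : Matrix (ρ) (ρ) F) (M' g h : Matrix (ρ ⊕ κ) (ρ ⊕ κ) F)
    (hM' : M' * fromBlocks A 0 0 1 = 1) (hgh : g * h = 1) (hhg : h * g = 1)
    (lam : F) (heq : g * fromBlocks A 0 0 1 * h = lam • M') (hl : lam ≠ 1) (hκ : Fintype.card ρ ≤ Fintype.card κ) :
    A = lam • (1 : Matrix (ρ) (ρ) F) := by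
  set M : Matrix (ρ ⊕ κ) (ρ ⊕ κ) F := fromBlocks A 0 0 1 with hMd
  have h1 : M * h = lam • (h * M') := by
    calc M * h = h * g * M * h := by rw [hhg, one_mul]
      _ = h * (g * M * h) := by simp only [mul_assoc]
      _ = _ := by rw [heq, Matrix.mul_smul]
  -- fixed vectors
  have hfix : ∀ v : κ → F, M *ᵥ emb ρ v = emb ρ v := by
    intro v
    rw [hMd, emb, fromBlocks_mulVec]
    simp
  have hfix' : ∀ v : κ → F, M' *ᵥ emb ρ v = emb ρ v := by
    intro v
    conv_lhs => rw [← hfix v, mulVec_mulVec, hM', one_mulVec]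
  have heig : ∀ v : κ → F, M *ᵥ (h *ᵥ emb ρ v) = lam • (h *ᵥ emb ρ v) := by
    intro v
    rw [mulVec_mulVec, h1, smul_mulVec, ← mulVec_mulVec, hfix']
  have hinr : ∀ w : ρ ⊕ κ → F, M *ᵥ w = lam • w → ∀ k, w (Sum.inr k) = 0 := by
    intro w hw k
    have h2 := congrFun hw (Sum.inr k)
    have h3 : (M *ᵥ w) (Sum.inr k) = w (Sum.inr k) := by
      conv_lhs => rw [← Sum.elim_comp_inl_inr w, hMd, fromBlocks_mulVec]
      simp
    rw [h3, Pi.smul_apply, smul_eq_mul] at h2
    have h4 : (lam - 1) * w (Sum.inr k) = 0 := by linear_combination -h2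
    exact (mul_eq_zero.1 h4).resolve_left (sub_ne_zero.2 hl)
  have hinl : ∀ w : ρ ⊕ κ → F, M *ᵥ w = lam • w → A *ᵥ (w ∘ Sum.inl) = lam • (w ∘ Sum.inl) := by
    intro w hw
    funext i
    have h2 := congrFun hw (Sum.inl i)
    have h3 : (M *ᵥ w) (Sum.inl i) = (A *ᵥ (w ∘ Sum.inl)) i := by
      conv_lhs => rw [← Sum.elim_comp_inl_inr w, hMd, fromBlocks_mulVec]
      simp
    rw [h3] at h2
    exact h2
  -- the injection
  let φ : (κ → F) →ₗ[F] (ρ → F) :=
    { toFun := fun v => (h *ᵥ emb ρ v) ∘ Sum.inl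
      map_add' := fun v w => by
        rw [emb_add, mulVec_add]
        rfl
      map_smul' := fun c v => by
        rw [emb_smul, mulVec_smul]
        rfl }
  have hφ : Function.Injective φ := by
    rw [← LinearMap.ker_eq_bot, LinearMap.ker_eq_bot']
    intro v hv
    have h2 : h *ᵥ emb ρ v = 0 := by
      funext x
      cases x with
      | inl i => exact congrFun hv i
      | inr k => exact hinr _ (heig v) k
    have h3 : emb ρ v = 0 := by
      calc emb ρ v = g *ᵥ (h *ᵥ emb ρ v) := by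
            rw [mulVec_mulVec, hgh, one_mulVec]
        _ = 0 := by rw [h2, mulVec_zero]
    funext k
    exact congrFun h3 (Sum.inr k)
  have hrank : Module.finrank F (κ → F) = Module.finrank F (ρ → F) := by
    have h2 := LinearMap.finrank_le_finrank_of_injective hφ
    rw [Module.finrank_fintype_fun_eq_card, Module.finrank_fintype_fun_eq_card] at *
    omega
  have hsurj : Function.Surjective φ :=
    (LinearMap.injective_iff_surjective_of_finrank_eq_finrank hrank).1 hφ
  have hA : ∀ u : ρ → F, A *ᵥ u = lam • u := by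
    intro u
    obtain ⟨v, rfl⟩ := hsurj u
    exact hinl _ (heig v)
  ext i j
  have h5 := congrFun (hA (Pi.single j 1)) i
  rw [mulVec_single_one, Pi.smul_apply, smul_eq_mul] at h5
  rw [Matrix.smul_apply, smul_eq_mul, Matrix.one_apply]
  show A i j = _
  have h6 : A.col j i = A i j := rfl
  rw [h6] at h5
  rw [h5, Pi.single_apply]

end block

/-! ### The group `PSL_n(q)` -/

/-- `D ⊕ (-1)` -/
def blk (D : Matrix (Fin 2) (Fin 2) F) (c : F) : Matrix (Fin 2 ⊕ Unit) (Fin 2 ⊕ Unit) F :=
  fromBlocks D 0 0 (Matrix.of fun _ _ => c)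

theorem blk_mul (D E : Matrix (Fin 2) (Fin 2) F) (c d : F) : blk D c * blk E d = blk (D * E) (c * d) := by
  rw [blk, blk, blk, fromBlocks_multiply]
  congr 1
  · simp
  · simp
  · simp
  · ext i j; simp [Matrix.mul_apply]

theorem blk_one : blk (1 : Matrix (Fin 2) (Fin 2) F) 1 = 1 := by
  rw [blk, ← fromBlocks_one]
  congr 1

theorem blk_pow (D : Matrix (Fin 2) (Fin 2) F) (c : F) (k : ℕ) : blk D c ^ k = blk (D ^ k) (c ^ k) := by
  induction k with
  | zero => rw [pow_zero, pow_zero, pow_zero, blk_one]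
  | succ k ih => rw [pow_succ, ih, blk_mul, pow_succ, pow_succ]

theorem det_blk (D : Matrix (Fin 2) (Fin 2) F) (c : F) : (blk D c).det = D.det * c := by
  rw [blk, det_fromBlocks_zero₂₁]
  congr 1
  simp [Matrix.det_unique]

theorem trace_blk (D : Matrix (Fin 2) (Fin 2) F) (c : F) : (blk D c).trace = D.trace + c := by
  simp [blk, Matrix.trace]

/-- **A non-real 2-element of `PSL_n(q)`.** -/
theorem exists_nonreal [Fintype F] (hF : ringChar F ≠ 2) {n : ℕ} (hn : 6 ≤ n) :
    ∃ x : Matrix.ProjectiveSpecialLinearGroup (Fin n) F, (∃ k : ℕ, x ^ 2 ^ k = 1) ∧ ¬ IsConj x x⁻¹ := by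
  classical
  obtain ⟨D, ⟨k, hk⟩, hdet, htr⟩ := exists_D hF
  have h20 : (2 : F) ≠ 0 := Ring.two_ne_zero hF
  let κ := Fin (n - 3)
  let e : (Fin 2 ⊕ Unit) ⊕ κ ≃ Fin n := Fintype.equivOfCardEq (by simp [κ]; omega)
  let R : Matrix ((Fin 2 ⊕ Unit) ⊕ κ) ((Fin 2 ⊕ Unit) ⊕ κ) F ≃ₐ[F] Matrix (Fin n) (Fin n) F := reindexAlgEquiv F F e
  let M : Matrix ((Fin 2 ⊕ Unit) ⊕ κ) ((Fin 2 ⊕ Unit) ⊕ κ) F := fromBlocks (blk D (-1)) 0 0 1
  let M' : Matrix ((Fin 2 ⊕ Unit) ⊕ κ) ((Fin 2 ⊕ Unit) ⊕ κ) F := fromBlocks (blk (-D.adjugate) (-1)) 0 0 1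
  have hM'M : M' * M = 1 := by
    show fromBlocks _ 0 0 1 * fromBlocks _ 0 0 1 = (1 : Matrix ((Fin 2 ⊕ Unit) ⊕ κ) ((Fin 2 ⊕ Unit) ⊕ κ) F)
    rw [fromBlocks_multiply, blk_mul, neg_mul, adjugate_mul, hdet, ← fromBlocks_one, ← blk_one]
    simp
  have hdM : (R M).det = 1 := by
    show (reindexAlgEquiv F F e M).det = 1
    rw [det_reindexAlgEquiv]
    show (fromBlocks (blk D (-1)) 0 0 (1 : Matrix κ κ F)).det = 1
    rw [det_fromBlocks_zero₂₁, det_blk, hdet, det_one]
    ring
  let x : Matrix.SpecialLinearGroup (Fin n) F := ⟨R M, hdM⟩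
  refine ⟨QuotientGroup.mk x, ⟨k + 1, ?_⟩, ?_⟩
  · have h1 : x ^ 2 ^ (k + 1) = 1 := by
      apply Subtype.ext
      show (R M) ^ 2 ^ (k + 1) = 1
      rw [← map_pow]
      have h2 : M ^ 2 ^ (k + 1) = 1 := by
        have h3 : ∀ j : ℕ, M ^ j = fromBlocks (blk (D ^ j) ((-1) ^ j)) 0 0 1 := by
          intro j
          induction j with
          | zero => rw [pow_zero, pow_zero, pow_zero, blk_one, fromBlocks_one]
          | succ j ih =>
            rw [pow_succ, ih]
            show fromBlocks _ 0 0 1 * fromBlocks _ 0 0 1 = _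
            rw [fromBlocks_multiply, blk_mul, ← pow_succ, ← pow_succ]
            simp
        rw [h3, pow_succ 2 k, pow_mul D, hk, one_pow, mul_comm (2 ^ k) 2, pow_mul (-1 : F), neg_one_sq, one_pow,
          blk_one, fromBlocks_one]
      rw [h2, map_one]
    rw [← QuotientGroup.mk_pow, h1]
    rfl
  · intro hc
    obtain ⟨c, hc⟩ := isConj_iff.1 hc
    obtain ⟨g, rfl⟩ := QuotientGroup.mk_surjective c
    have h1 : (QuotientGroup.mk (g * x * g⁻¹ * x) : Matrix.ProjectiveSpecialLinearGroup (Fin n) F) = 1 := by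
      rw [QuotientGroup.mk_mul, QuotientGroup.mk_mul, QuotientGroup.mk_mul, QuotientGroup.mk_inv, hc]
      exact inv_mul_cancel _
    have h2 : g * x * g⁻¹ * x ∈ Subgroup.center (Matrix.SpecialLinearGroup (Fin n) F) :=
      (QuotientGroup.eq_one_iff _).1 h1
    obtain ⟨lam, -, hlam⟩ := Matrix.SpecialLinearGroup.mem_center_iff.1 h2
    -- matrices
    let G : Matrix ((Fin 2 ⊕ Unit) ⊕ κ) ((Fin 2 ⊕ Unit) ⊕ κ) F := R.symm (g : Matrix (Fin n) (Fin n) F)
    let H : Matrix ((Fin 2 ⊕ Unit) ⊕ κ) ((Fin 2 ⊕ Unit) ⊕ κ) F := R.symm ((g⁻¹ : Matrix.SpecialLinearGroup (Fin n) F) : Matrix (Fin n) (Fin n) F)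
    have hGH : G * H = 1 := by
      show R.symm _ * R.symm _ = 1
      rw [← map_mul]
      have h3 := congrArg Subtype.val (mul_inv_cancel g)
      rw [show (g : Matrix (Fin n) (Fin n) F) * ((g⁻¹ : Matrix.SpecialLinearGroup (Fin n) F) : Matrix (Fin n) (Fin n) F) = 1 from h3, map_one]
    have hHG : H * G = 1 := by
      show R.symm _ * R.symm _ = 1
      rw [← map_mul]
      have h3 := congrArg Subtype.val (inv_mul_cancel g)
      rw [show ((g⁻¹ : Matrix.SpecialLinearGroup (Fin n) F) : Matrix (Fin n) (Fin n) F) * (g : Matrix (Fin n) (Fin n) F) = 1 from h3, map_one]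
    have hMM' : M * M' = 1 := mul_eq_one_comm.1 hM'M
    have h4 : G * M * H * M = lam • (1 : Matrix ((Fin 2 ⊕ Unit) ⊕ κ) ((Fin 2 ⊕ Unit) ⊕ κ) F) := by
      apply R.injective
      rw [map_mul, map_mul, map_mul]
      show R (R.symm _) * R M * R (R.symm _) * R M = _
      rw [R.apply_symm_apply, R.apply_symm_apply, map_smul, map_one]
      have h5 : (g : Matrix (Fin n) (Fin n) F) * R M * ((g⁻¹ : Matrix.SpecialLinearGroup (Fin n) F) : Matrix (Fin n) (Fin n) F) * R M =
          scalar (Fin n) lam := hlam.symm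
      rw [h5, Matrix.scalar_apply, ← Matrix.smul_one_eq_diagonal]
    have h5 : G * M * H = lam • M' := by
      calc G * M * H = G * M * H * M * M' := by rw [mul_assoc _ M M', hMM', mul_one]
        _ = _ := by rw [h4, smul_mul_assoc, one_mul]
    by_cases hl : lam = 1
    · rw [hl, one_smul] at h5
      have h6 : M.trace = M'.trace := by
        rw [← h5, Matrix.trace_mul_comm, ← mul_assoc, hHG, one_mul]
      have h7 : ∀ B : Matrix (Fin 2 ⊕ Unit) (Fin 2 ⊕ Unit) F,
          (fromBlocks B 0 0 (1 : Matrix κ κ F)).trace = B.trace + (1 : Matrix κ κ F).trace := by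
        intro B
        simp [Matrix.trace]
      have h8 : (blk D (-1)).trace = (blk (-D.adjugate) (-1)).trace := by
        have h9 : (blk D (-1)).trace + (1 : Matrix κ κ F).trace = (blk (-D.adjugate) (-1)).trace + (1 : Matrix κ κ F).trace := by
          rw [← h7, ← h7]
          exact h6
        exact add_right_cancel h9
      rw [trace_blk, trace_blk, trace_neg] at h8
      have h10 : D.adjugate.trace = D.trace := by
        rw [adjugate_fin_two, trace_fin_two, trace_fin_two]
        simp [add_comm]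
      rw [h10] at h8
      apply htr
      have h11 : 2 * D.trace = 0 := by linear_combination h8
      exact (mul_eq_zero.1 h11).resolve_left h20
    · have h6 := scalar_of_conj (blk D (-1)) M' G H hM'M hGH hHG lam h5 hl (by simp [κ]; omega)
      have h7 : (-1 : F) = lam := by
        have := congrFun (congrFun h6 (Sum.inr ())) (Sum.inr ())
        simpa [blk] using this
      have h8 : D = lam • (1 : Matrix (Fin 2) (Fin 2) F) := by
        ext i j
        have := congrFun (congrFun h6 (Sum.inl i)) (Sum.inl j)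
        simpa [blk, Matrix.one_apply] using this
      rw [h8, Matrix.det_smul, det_one, ← h7] at hdet
      simp at hdet
      apply h20
      linear_combination hdet

end Cfsg.Agent.H781.RealPsl
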