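import Cfsg.Agent.H747.RowTwo

/-!
# S5161: a criterion for rows from the normal subgroups of the centralizer of the central involution (helper781)
-/

set_option autoImplicit false

namespace Cfsg.Agent.H781.RowFi

open Subgroup Cfsg.Agent.H747

variable {K : Type*} [Group K]

/-- `twoGen R` is normalised by `N(R)` -/
theorem conj_twoGen {R : Subgroup K} {p x : K} (hp : p ∈ normalizer (R : Set K)) (hx : x ∈ twoGen R) :
    p * x * p⁻¹ ∈ twoGen R := by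
  have h1 : p * x * p⁻¹ ∈ (twoGen R).map (MulAut.conj p).toMonoidHom := ⟨x, hx, rfl⟩
  rw [twoGen, MonoidHom.map_closure] at h1
  refine closure_mono ?_ h1
  rintro _ ⟨y, ⟨hy, k, hk⟩, rfl⟩
  refine ⟨mul_mem (mul_mem hp hy) (inv_mem hp), k, ?_⟩
  show (p * y * p⁻¹) ^ 2 ^ k = 1
  rw [conj_pow, hk]
  group

/-- elements of the normalizer of `T` centralise the only involution of `Z(T)` -/
theorem comm_of_norm {T : Subgroup K} {z : K} (hzT : z ∈ T) (hTz : ∀ x ∈ T, x * z = z * x)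
    (hZ : ∀ y ∈ T, (∀ x ∈ T, x * y = y * x) → y = 1 ∨ y = z) (hz1 : z ≠ 1) {g : K}
    (hg : g ∈ normalizer (T : Set K)) : g * z = z * g := by
  have h1 : g * z * g⁻¹ ∈ T := (mem_normalizer_iff.1 hg z).1 hzT
  have h2 : ∀ x ∈ T, x * (g * z * g⁻¹) = (g * z * g⁻¹) * x := by
    intro x hx
    have h3 : g⁻¹ * x * g ∈ T := by
      have := (mem_normalizer_iff.1 (inv_mem hg) x).1 hx
      rwa [inv_inv] at this
    have h4 := hTz _ h3
    calc x * (g * z * g⁻¹) = g * ((g⁻¹ * x * g) * z) * g⁻¹ := by group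
      _ = g * (z * (g⁻¹ * x * g)) * g⁻¹ := by rw [h4]
      _ = _ := by group
  rcases hZ _ h1 h2 with h3 | h3
  · exfalso
    apply hz1
    have e : z = g⁻¹ * (g * z * g⁻¹) * g := by group
    rw [e, h3]; group
  · exact mul_inv_eq_iff_eq_mul.1 h3

/-- **The criterion.** -/
theorem row_of_cases {z : K} {R M P : Subgroup K} (T : Sylow 2 K) (hzT : z ∈ T)
    (hTz : ∀ x ∈ T, x * z = z * x) (hZ : ∀ y ∈ T, (∀ x ∈ T, x * y = y * x) → y = 1 ∨ y = z) (hz1 : z ≠ 1)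
    (hP : ∀ x, x * z = z * x → x ∈ P) (hRP : P ≤ normalizer (R : Set K)) (hRT : R ≤ (T : Subgroup K))
    (hC : (T : Subgroup K) ⊓ centralizer (R : Set K) ≤ R)
    (hcases : ∀ N : Subgroup K, N ≤ P → (∀ u ∈ P, ∀ x ∈ N, u * x * u⁻¹ ∈ N) → N ≤ R ∨ M ≤ N)
    (hTR : ¬ (T : Subgroup K) ≤ R) (hMT : P ≤ (T : Subgroup K) ⊔ M) : RowTwo K := by
  have hTP : (T : Subgroup K) ≤ P := fun x hx => hP x (hTz x hx)
  refine Or.inl (OddRow.of_one T hRT (hTP.trans hRP) hC fun g hg => ⟨1, one_mem _, ?_⟩)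
  rw [mul_one]
  have hgP : g ∈ P := hP g (comm_of_norm hzT hTz hZ hz1 hg)
  have hTN : (T : Subgroup K) ≤ twoGen R ⊓ P := by
    intro t ht
    refine ⟨subset_closure ⟨hRP (hTP ht), ?_⟩, hTP ht⟩
    obtain ⟨k, hk⟩ := T.2 ⟨t, ht⟩
    exact ⟨k, congrArg Subtype.val hk⟩
  rcases hcases (twoGen R ⊓ P) inf_le_right (fun u hu x hx =>
    ⟨conj_twoGen (hRP hu) hx.1, P.mul_mem (P.mul_mem hu hx.2) (P.inv_mem hu)⟩) with h1 | h1
  · exact absurd (hTN.trans h1) hTR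
  · exact ((hMT.trans (sup_le hTN h1)) hgP).1

end Cfsg.Agent.H781.RowFi
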