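import Mathlib
import Cfsg.Agent.H763.PsaPar
import Cfsg.Agent.OddHalf.Orders.PSpFi23
import Cfsg.Agent.S0293
import Cfsg.Agent.FooteOdd.SporMEleven
import Cfsg.Agent.MTwelveType.SylowModel
import Cfsg.Prelude.Def_Spor_Mathieu
import Cfsg.Prelude.Def_Classical

/-!
# The Sylow 2-subgroups of `PSL_n(q)`, `n ≥ 6`, are not those of `M11`, `M12`, `Sp_6(2)`, `Ω_8⁺(2)` (helper781)
-/

set_option autoImplicit false

namespace Cfsg.Agent.H781.StepOne

open Subgroup Cfsg Cfsg.Agent.H763.Psa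
open Matrix (SpecialLinearGroup ProjectiveSpecialLinearGroup)

/-- the exponents -/
theorem rel_ne {n : ℕ} (hn : 6 ≤ n) {ty : Bool} {w c : ℕ} (hw : 2 ≤ w) (hw3 : ty = false → 3 ≤ w) (h : Cfsg.Agent.H763.Psa.Rel n ty w c) :
    n / 2 + (Nat.factorial (n / 2)).factorization 2 + c ≠ 4 ∧ n / 2 + (Nat.factorial (n / 2)).factorization 2 + c ≠ 6 ∧
    n / 2 + (Nat.factorial (n / 2)).factorization 2 + c ≠ 9 ∧ n / 2 + (Nat.factorial (n / 2)).factorization 2 + c ≠ 12 := by
  have h3 : (Nat.factorial 3).factorization 2 = 1 := by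
    have : Nat.factorial 3 = 2 * 3 := rfl
    rw [this, Nat.factorization_mul (by norm_num) (by norm_num), Finsupp.add_apply, Nat.Prime.factorization_self Nat.prime_two,
      Nat.factorization_eq_zero_of_not_dvd (by norm_num)]
  have h4 : ∀ m, 4 ≤ m → 3 ≤ (Nat.factorial m).factorization 2 := by
    intro m hm
    rw [← Nat.Prime.pow_dvd_iff_le_factorization Nat.prime_two (Nat.factorial_ne_zero _)]
    refine dvd_trans ?_ (Nat.factorial_dvd_factorial hm)
    decide
  rw [Cfsg.Agent.H763.Psa.Rel] at h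
  rcases (by omega : n = 6 ∨ n = 7 ∨ 8 ≤ n) with rfl | rfl | h8
  · have h6 : (6 : ℕ).factorization 2 = 1 := by
      have : (6 : ℕ) = 2 * 3 := rfl
      rw [this, Nat.factorization_mul (by norm_num) (by norm_num), Finsupp.add_apply, Nat.Prime.factorization_self Nat.prime_two,
        Nat.factorization_eq_zero_of_not_dvd (by norm_num)]
    have e1 : 6 / 2 = 3 := rfl
    have e2 : 6 % 2 = 0 := rfl
    rw [h6, e1, e2] at h
    rw [e1, h3]
    cases ty
    · have := hw3 rfl
      simp at h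
      omega
    · simp only [if_true] at h
      have : min w 1 = 1 := by omega
      rw [this] at h
      omega
  · have h7 : (7 : ℕ).factorization 2 = 0 := Nat.factorization_eq_zero_of_not_dvd (by norm_num)
    have e1 : 7 / 2 = 3 := rfl
    have e2 : 7 % 2 = 1 := rfl
    rw [h7, e1, e2] at h
    rw [e1, h3]
    cases ty
    · have := hw3 rfl
      simp at h
      omega
    · simp only [if_true] at h
      simp at h
      omega
  · have := h4 (n / 2) (by omega)
    have h5 : 4 ≤ n / 2 := by omega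
    cases ty
    · have h6 := hw3 rfl
      have h7 : 3 * 4 ≤ w * (n / 2) := Nat.mul_le_mul h6 h5
      simp only [Bool.false_eq_true, if_false] at h
      have h8 : min 1 (n.factorization 2) ≤ 1 := min_le_left _ _
      omega
    · simp only [if_true] at h
      have h6 : min w (n.factorization 2) ≤ w := min_le_left _ _
      have h7 : 2 * w * 4 ≤ 2 * w * (n / 2) := Nat.mul_le_mul le_rfl h5
      omega

/-- the order of a Sylow 2-subgroup -/
theorem card_ne {n : ℕ} (hn : 6 ≤ n) {F : Type*} [Field F] [Fintype F] (hF : Odd (Fintype.card F))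
    (T : Sylow 2 (ProjectiveSpecialLinearGroup (Fin n) F)) :
    ∃ v, Nat.card T = 2 ^ v ∧ v ≠ 4 ∧ v ≠ 6 ∧ v ≠ 9 ∧ v ≠ 12 := by
  obtain ⟨hw, hw3, ⟨-, A, c, hA, hR⟩ | ⟨h5, -⟩⟩ := par_psl (by omega) hF T
  · refine ⟨_, ?_, rel_ne hn hw hw3 hR⟩
    rw [pow_add, ← hA.index, ← hA.card, mul_comm]
    exact (A.card_mul_index).symm
  · omega

theorem card_sylow_of {G : Type*} [Group G] [Finite G] (S : Sylow 2 G) {v m : ℕ} (h : Nat.card G = 2 ^ v * m)
    (hm : ¬ 2 ∣ m) : Nat.card S = 2 ^ v := by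
  have hp : Fact (Nat.Prime 2) := ⟨Nat.prime_two⟩
  have hm0 : m ≠ 0 := by
    rintro rfl
    exact hm (dvd_zero 2)
  rw [S.card_eq_multiplicity, h, Nat.factorization_mul (by positivity) hm0, Finsupp.add_apply,
    Nat.Prime.factorization_pow Nat.prime_two, Finsupp.single_eq_same, Nat.factorization_eq_zero_of_not_dvd hm, add_zero]

theorem card_sp6 {F : Type*} [Field F] [Fintype F] (hF : Fintype.card F = 2) : Nat.card (PSp 3 F) = 1451520 := by
  have h := OddHalf.Orders.card_psp (F := F) 3 (by norm_num)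
  rw [hF] at h
  have h1 : OddHalf.Orders.spDen 2 = 1 := by decide
  have h2 : OddHalf.Orders.sp 3 2 = 1451520 := by decide +kernel
  rw [h1, h2, one_mul] at h
  exact h

theorem card_o8 {F : Type} [Field F] [Fintype F] (hF : Fintype.card F = 2) :
    Nat.card (POmega F (quadFormPlus 4 F)) = 174182400 := by
  have h := S0293.result (F := F) hF 4 (by norm_num)
  have hg : Nat.gcd 4 (2 ^ 4 - 1) = 1 := by decide
  rw [hg] at h
  simp only [show 4 - 1 = 3 by norm_num, Finset.prod_range_succ, Finset.prod_range_zero] at h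
  norm_num at h
  exact h

/-- the exceptions do not have the Sylow 2-subgroups of `PSL_n(q)` -/
theorem not_small {G : Type*} [Group G] [Finite G] {n : ℕ} (hn : 6 ≤ n) {F : Type*} [Field F] [Fintype F]
    (hF : Odd (Fintype.card F)) (T : Sylow 2 (ProjectiveSpecialLinearGroup (Fin n) F)) (S : Sylow 2 G)
    (φ : (S : Subgroup G) ≃* (T : Subgroup (ProjectiveSpecialLinearGroup (Fin n) F)))
    (h : Cfsg.Spor.IsoM11 G ∨ Cfsg.Spor.IsoM12 G ∨
      (∃ (F : Type) (_ : Field F) (_ : Fintype F), Fintype.card F = 2 ∧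
        (Nonempty (G ≃* Cfsg.PSp 3 F) ∨ Nonempty (G ≃* Cfsg.POmega F (Cfsg.quadFormPlus 4 F))))) : False := by
  obtain ⟨v, hv, h4, h6, h9, h12⟩ := card_ne hn hF T
  have hS : Nat.card S = 2 ^ v := by
    rw [← hv]
    exact Nat.card_congr φ.toEquiv
  have key : ∀ {w m : ℕ}, Nat.card G = 2 ^ w * m → ¬ 2 ∣ m → v = w := by
    intro w m h1 h2
    have h3 := card_sylow_of S h1 h2
    rw [hS] at h3
    exact Nat.pow_right_injective le_rfl h3
  rcases h with ⟨⟨e⟩⟩ | ⟨⟨e⟩⟩ | ⟨K, iK, iK', hK, ⟨⟨e⟩⟩ | ⟨⟨e⟩⟩⟩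
  · exact h4 (key (m := 495) (by rw [Nat.card_congr e.toEquiv, FooteOdd.SporMEleven.card]; norm_num) (by norm_num))
  · exact h6 (key (m := 1485) (by rw [Nat.card_congr e.toEquiv, MTwelveType.SylowModel.card_M12]; norm_num) (by norm_num))
  · exact h9 (key (m := 2835) (by rw [Nat.card_congr e.toEquiv, card_sp6 hK]; norm_num) (by norm_num))
  · exact h12 (key (m := 42525) (by rw [Nat.card_congr e.toEquiv, card_o8 hK]; norm_num) (by norm_num))

end Cfsg.Agent.H781.StepOne
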