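import Cfsg.Agent.H781.GoodLie
import Cfsg.Agent.H781.PslGood
import Cfsg.Agent.H781.StepOneCard

/-!
# Step (1) of S5173: a simple group with the 2-fusion system of `PSL_n(q)`, `n ≥ 6`, is of Lie type of odd characteristic (helper781)
-/

set_option autoImplicit false

namespace Cfsg.Agent.H781.StepOne

open Subgroup Cfsg Cfsg.Agent.H751.Big
open Matrix (SpecialLinearGroup ProjectiveSpecialLinearGroup)

/-- the good quaternion subgroup of `G` -/
theorem exists_good {G : Type*} [Group G] [Finite G] {n : ℕ} (hn : 5 ≤ n) {F : Type*} [Field F] [Fintype F]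
    (hF : Odd (Fintype.card F)) (T : Sylow 2 (ProjectiveSpecialLinearGroup (Fin n) F)) (S : Sylow 2 G)
    {φ : (S : Subgroup G) ≃* (T : Subgroup (ProjectiveSpecialLinearGroup (Fin n) F))}
    (h : SameFus (S : Subgroup G) (T : Subgroup (ProjectiveSpecialLinearGroup (Fin n) F)) φ) :
    ∃ (Q : Subgroup G) (z : G), Good Q z := by
  have hfin : Finite (ProjectiveSpecialLinearGroup (Fin n) F) := inferInstanceAs (Finite (_ ⧸ _))
  obtain ⟨Q, z, hQ⟩ := PslGood.exists_good hF hn
  obtain ⟨g, hg⟩ := exists_conj_le T hQ.isPGroup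
  have h1 := hQ.conj g
  have h2 : Q.map (MulAut.conj g).toMonoidHom ≤ (T : Subgroup _) := by
    rintro _ ⟨x, hx, rfl⟩
    exact hg x hx
  exact ⟨_, _, h.symm.good (z := ⟨g * z * g⁻¹, hg z hQ.mem⟩) h2 h1⟩

theorem not_comm_of_good {G : Type*} [Group G] {Q : Subgroup G} {z : G} (h : Good Q z) : ¬ IsMulCommutative G := by
  intro hc
  obtain ⟨n, ⟨f⟩⟩ := h.quat
  have h1 : f.symm (QuaternionGroup.xa 0) * f.symm (QuaternionGroup.a 1) =
      f.symm (QuaternionGroup.a 1) * f.symm (QuaternionGroup.xa 0) := Subtype.ext (hc.is_comm.comm _ _)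
  rw [← map_mul, ← map_mul] at h1
  have h2 := f.symm.injective h1
  rw [QuaternionGroup.xa_mul_a, QuaternionGroup.a_mul_xa] at h2
  simp only [QuaternionGroup.xa.injEq] at h2
  have h3 : ((2 : ℕ) : ZMod (2 * 2 ^ (n + 1))) = 0 := by
    push_cast
    linear_combination h2
  rw [ZMod.natCast_eq_zero_iff] at h3
  have h4 := Nat.le_of_dvd (by norm_num) h3
  have h5 : 1 ≤ 2 ^ n := Nat.one_le_two_pow
  rw [pow_succ] at h4
  omega

/-- **Step (1).** -/
theorem isLieTypeChar {G : Type*} [Group G] [Finite G] [IsSimpleGroup G] {n : ℕ} (hn : 6 ≤ n)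
    {F : Type*} [Field F] [Fintype F]
    (hF : Odd (Fintype.card F)) (T : Sylow 2 (ProjectiveSpecialLinearGroup (Fin n) F)) (S : Sylow 2 G)
    {φ : (S : Subgroup G) ≃* (T : Subgroup (ProjectiveSpecialLinearGroup (Fin n) F))}
    (h : SameFus (S : Subgroup G) (T : Subgroup (ProjectiveSpecialLinearGroup (Fin n) F)) φ) :
    ∃ p : ℕ, p.Prime ∧ p ≠ 2 ∧ IsLieTypeChar p G := by
  obtain ⟨Q, z, hQ⟩ := exists_good (by omega) hF T S h
  rcases GoodLie.lie_of_good (not_comm_of_good hQ) hQ with h1 | h1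
  · exact h1
  · exact (not_small hn hF T S φ h1).elim

end Cfsg.Agent.H781.StepOne
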