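import Cfsg.Agent.H781.U42Act
import Cfsg.Agent.SignalizersComponents.Components
import Cfsg.Prelude.Def_EvenType

/-!
# Components isomorphic to `U₄(2)` in the fixed points of an involutory automorphism (helper781)

* `exists_facts` : a component `A ≅ U₄(2)` of `Y` whose centralizer has odd order is normal; the involution `z`;
* `card_le` : `x` an involutory automorphism of `X`, `A` a normal subgroup of `C_X(x)` with the properties of `ZFacts`,
  `S ≤ X` with `[S, S] ≤ ⟨z⟩`, `x`-invariant and normalized by `C_A(z)` : `|S| ≤ 4 |C_S(x)|`.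
-/

set_option autoImplicit false

namespace Cfsg.Agent.H781.U42Comp

open Subgroup Cfsg Cfsg.Agent.H781.U42Act
open Cfsg.Agent.SignalizersComponents.Components

universe u v

/-- the component is normal -/
theorem normal_of {Y : Type u} [Group Y] [Finite Y] {A : Subgroup Y} (hA : IsComponent A)
    (hC : ∀ u ∈ centralizer (A : Set Y), u * u = 1 → u = 1) (h2 : 2 ∣ Nat.card ↥A) : A.Normal := by
  have hp : Fact (Nat.Prime 2) := ⟨Nat.prime_two⟩
  have key : ∀ y : Y, A.map (MulAut.conj y).toMonoidHom = A := by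
    intro y
    by_contra hne
    have h1 := component_le_centralizer_of_ne (isComponent_conj y hA) hA hne
    obtain ⟨u, hu⟩ := exists_prime_orderOf_dvd_card' (G := ↥A) 2 h2
    have hu2 := pow_orderOf_eq_one u
    rw [hu, pow_two] at hu2
    have hu3 : (u : Y) * u = 1 := congrArg Subtype.val hu2
    have h3 : (u : Y) ≠ 1 := by
      intro h
      have h4 : u = 1 := Subtype.ext h
      rw [h4, orderOf_one] at hu
      omega
    have h4 : y * u * y⁻¹ ∈ centralizer (A : Set Y) := h1 ⟨u, u.2, rfl⟩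
    have h5 := hC _ h4 (by
      calc y * u * y⁻¹ * (y * u * y⁻¹) = y * (u * u) * y⁻¹ := by group
        _ = 1 := by rw [hu3]; group)
    apply h3
    calc (u : Y) = y⁻¹ * (y * u * y⁻¹) * y := by group
      _ = 1 := by rw [h5]; group
  refine ⟨fun a ha y => ?_⟩
  rw [← key y]
  exact ⟨a, ha, rfl⟩

theorem exists_facts {Y : Type u} [Group Y] [Finite Y] {A : Subgroup Y} (hA : IsComponent A)
    (hC : ∀ u ∈ centralizer (A : Set Y), u * u = 1 → u = 1) {F : Type v} [Field F] [Fintype F]
    (hF : Fintype.card F = 4) (e : ↥A ≃* PSU 4 F 2) : A.Normal ∧ ∃ z, ZFacts A z := by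
  obtain ⟨f⟩ := exists_omega hF
  have h2 : 2 ∣ Nat.card ↥A := by
    rw [Nat.card_congr (e.trans f).toEquiv, H845.AutUFour.card_omega]
    norm_num
  have hn := normal_of hA hC h2
  exact ⟨hn, exists_z hn (e.trans f) hC⟩

/-- a subgroup of index at most two -/
theorem card_le_two {G : Type u} [Group G] [Finite G] {B C : Subgroup G} (h : B ≤ C)
    (H : ∀ x ∈ C, ∀ y ∈ C, x ∉ B → y ∉ B → x * y ∈ B) : Nat.card ↥C ≤ 2 * Nat.card ↥B := by
  classical
  by_cases hex : ∃ r ∈ C, r ∉ B
  · obtain ⟨r, hr, hrB⟩ := hex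
    have h1 : Nat.card ↥C ≤ Nat.card (Bool × ↥B) := by
      refine Nat.card_le_card_of_injective (fun x : ↥C => if hx : (x : G) ∈ B then (true, (⟨x, hx⟩ : ↥B)) else
        (false, ⟨r * x, H r hr x x.2 hrB hx⟩)) ?_
      intro x y hxy
      by_cases hx : (x : G) ∈ B <;> by_cases hy : (y : G) ∈ B <;> simp only [hx, hy, dite_true, dite_false] at hxy
      · exact Subtype.ext (congrArg (fun p : Bool × ↥B => (p.2 : G)) hxy)
      · exact absurd (congrArg Prod.fst hxy) (by simp)
      · exact absurd (congrArg Prod.fst hxy) (by simp)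
      · exact Subtype.ext (mul_left_cancel (congrArg (fun p : Bool × ↥B => (p.2 : G)) hxy))
    rw [Nat.card_prod] at h1
    have h2 : Nat.card Bool = 2 := by rw [Nat.card_eq_fintype_card, Fintype.card_bool]
    rwa [h2] at h1
  · push Not at hex
    have h1 : C = B := le_antisymm hex h
    rw [h1]
    have := Nat.card_pos (α := ↥B)
    omega

/-- **Counting.** -/
theorem card_le {X : Type u} [Group X] [Finite X] {x : MulAut X} (hxx : x * x = 1) {A : Subgroup ↥(fixedSubgroup x)}
    {z : ↥(fixedSubgroup x)} (Z : ZFacts A z) {S : Subgroup X} (hinv : ∀ r ∈ S, x r ∈ S)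
    (hnorm : ∀ c : ↥(fixedSubgroup x), c ∈ A → c * z = z * c → ∀ r ∈ S, (c : X) * r * (c : X)⁻¹ ∈ S)
    (hz : ∀ r ∈ S, r * z = z * r) (hzS : (z : X) ∈ S) (hsq : ∀ r ∈ S, r * r = 1 ∨ r * r = z)
    (hcomm : ∀ r ∈ S, ∀ q ∈ S, r * q * r⁻¹ * q⁻¹ = 1 ∨ r * q * r⁻¹ * q⁻¹ = z) :
    Nat.card ↥S ≤ 4 * Nat.card ↥(S ⊓ fixedSubgroup x) := by
  have hx2 : ∀ y, x (x y) = y := fun y => DFunLike.congr_fun hxx y
  have hzz : (z : X) * z = 1 := congrArg Subtype.val Z.sq
  have hzi : (z : X)⁻¹ = z := inv_eq_of_mul_eq_one_left hzz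
  have hxz : x (z : X) = z := z.2
  -- `δ`
  have dS : ∀ r ∈ S, x r * r⁻¹ ∈ S := fun r hr => S.mul_mem (hinv r hr) (S.inv_mem hr)
  have dinv : ∀ r, x (x r * r⁻¹) = (x r * r⁻¹)⁻¹ := by
    intro r
    rw [map_mul, map_inv, hx2, mul_inv_rev, inv_inv]
  -- `δ` is multiplicative modulo `z`
  have dmul : ∀ r ∈ S, ∀ q ∈ S, x (r * q) * (r * q)⁻¹ = x r * r⁻¹ * (x q * q⁻¹) ∨
      x (r * q) * (r * q)⁻¹ = x r * r⁻¹ * (x q * q⁻¹) * z := by
    intro r hr q hq
    have h1 : x (r * q) * (r * q)⁻¹ = x r * r⁻¹ * (r * (x q * q⁻¹) * r⁻¹ * (x q * q⁻¹)⁻¹) * (x q * q⁻¹) := by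
      rw [map_mul]; group
    rcases hcomm r hr _ (dS q hq) with h | h
    · left
      rw [h1, h, mul_one]
    · right
      rw [h1, h, mul_assoc (x r * r⁻¹), ← hz _ (dS q hq), ← mul_assoc]
  have dfix : ∀ r ∈ S, ∀ q ∈ S, x (x r * r⁻¹ * (x q * q⁻¹)) = x r * r⁻¹ * (x q * q⁻¹) →
      x (x (r * q) * (r * q)⁻¹) = x (r * q) * (r * q)⁻¹ := by
    intro r hr q hq h
    rcases dmul r hr q hq with h1 | h1
    · rw [h1, h]
    · rw [h1, map_mul, h, hxz]
  -- the fixed values
  have key : ∀ r ∈ S, x (x r * r⁻¹) = x r * r⁻¹ → x r * r⁻¹ = 1 ∨ x r * r⁻¹ = z := by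
    intro r hr h
    have hnn : x r * r⁻¹ * (x r * r⁻¹) = 1 := by
      have h1 := dinv r
      rw [h] at h1
      nth_rewrite 1 [h1]
      exact inv_mul_cancel _
    let n : ↥(fixedSubgroup x) := ⟨x r * r⁻¹, h⟩
    have h1 := Z.one n (Subtype.ext (hz _ (dS r hr))) (Subtype.ext hnn) (by
      intro c hc hcz
      have hcS := hnorm c hc hcz r hr
      have hxc : x (c : X) = c := c.2
      have h2 : x ((c : X) * r * (c : X)⁻¹) * ((c : X) * r * (c : X)⁻¹)⁻¹ = c * (x r * r⁻¹) * (c : X)⁻¹ := by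
        rw [map_mul, map_mul, map_inv, hxc]
        group
      have h3 : x (c * (x r * r⁻¹) * (c : X)⁻¹) = c * (x r * r⁻¹) * (c : X)⁻¹ := by
        rw [map_mul, map_mul, map_inv, hxc, h]
      apply Subtype.ext
      change x r * r⁻¹ * (c * (x r * r⁻¹) * (c : X)⁻¹) = c * (x r * r⁻¹) * (c : X)⁻¹ * (x r * r⁻¹)
      set m : X := c * (x r * r⁻¹) * (c : X)⁻¹ with hm
      set d : X := x r * r⁻¹ with hd
      have hmm : m * m = 1 := by
        rw [hm]
        calc (c : X) * d * (c : X)⁻¹ * (c * d * (c : X)⁻¹) = c * (d * d) * (c : X)⁻¹ := by group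
          _ = 1 := by rw [hnn]; group
      -- `(d m)² = 1`
      have h4 : x (d * m) = d * m := by rw [map_mul, h, h3]
      have h5 : (d * m) * (d * m) = 1 := by
        have h6 := dfix r hr _ hcS (by rw [h2]; exact h4)
        have h7 := dinv (r * (c * r * (c : X)⁻¹))
        rw [h6] at h7
        have h8 : x (r * (c * r * (c : X)⁻¹)) * (r * (c * r * (c : X)⁻¹))⁻¹ *
            (x (r * (c * r * (c : X)⁻¹)) * (r * (c * r * (c : X)⁻¹))⁻¹) = 1 := by
          nth_rewrite 1 [h7]
          exact inv_mul_cancel _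
        rcases dmul r hr _ hcS with h9 | h9
        · rw [h9, h2] at h8
          exact h8
        · rw [h9, h2] at h8
          have hmz : m * z = z * m := by
            rw [← h2]
            exact hz _ (dS _ hcS)
          have hdz : d * z = z * d := hz _ (dS r hr)
          calc d * m * (d * m) = d * m * (d * m) * (z * z) := by rw [hzz, mul_one]
            _ = d * m * (d * (m * z)) * z := by simp only [mul_assoc]
            _ = d * m * (d * z) * m * z := by rw [hmz]; simp only [mul_assoc]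
            _ = d * m * z * (d * m * z) := by rw [hdz]; simp only [mul_assoc]
            _ = 1 := h8
      have hdi : d⁻¹ = d := inv_eq_of_mul_eq_one_left hnn
      have hmi : m⁻¹ = m := inv_eq_of_mul_eq_one_left hmm
      calc d * m = (d * m)⁻¹ := (inv_eq_of_mul_eq_one_left h5).symm
        _ = m * d := by rw [mul_inv_rev, hdi, hmi])
    rcases h1 with h1 | h1
    · exact Or.inl (congrArg Subtype.val h1)
    · exact Or.inr (congrArg Subtype.val h1)
  -- the elements fixed modulo `z`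
  let F1 : Subgroup X :=
    { carrier := {r | r ∈ S ∧ (x r = r ∨ x r = r * z)}
      one_mem' := ⟨S.one_mem, Or.inl (map_one x)⟩
      mul_mem' := fun {a b} ha hb => by
        refine ⟨S.mul_mem ha.1 hb.1, ?_⟩
        have hbz := hz b hb.1
        rcases ha.2 with h1 | h1 <;> rcases hb.2 with h2 | h2
        · left; rw [map_mul, h1, h2]
        · right; rw [map_mul, h1, h2, mul_assoc]
        · right
          rw [map_mul, h1, h2, mul_assoc, ← hbz, mul_assoc]
        · left
          rw [map_mul, h1, h2]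
          calc a * z * (b * z) = a * (z * b) * z := by group
            _ = a * (b * z) * z := by rw [hbz]
            _ = a * b * (z * z) := by group
            _ = a * b := by rw [hzz, mul_one]
      inv_mem' := fun {a} ha => by
        refine ⟨S.inv_mem ha.1, ?_⟩
        have haz := hz _ (S.inv_mem ha.1)
        rcases ha.2 with h1 | h1
        · left; rw [map_inv, h1]
        · right; rw [map_inv, h1, mul_inv_rev, hzi, haz] }
  have hF1 : ∀ {r : X}, r ∈ F1 ↔ r ∈ S ∧ (x r = r ∨ x r = r * z) := Iff.rfl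
  have hF1' : ∀ r ∈ S, x (x r * r⁻¹) = x r * r⁻¹ → r ∈ F1 := by
    intro r hr h
    refine ⟨hr, ?_⟩
    rcases key r hr h with h1 | h1
    · left
      exact mul_inv_eq_one.1 h1
    · right
      rw [hz r hr]
      exact mul_inv_eq_iff_eq_mul.1 h1
  have dcase : ∀ r ∈ S, r ∉ F1 → x (x r * r⁻¹) = x r * r⁻¹ * z := by
    intro r hr hrF
    have hd := dS r hr
    have h1 := dinv r
    rcases hsq _ hd with h2 | h2
    · exfalso
      apply hrF
      apply hF1' r hr
      rw [h1]
      exact inv_eq_of_mul_eq_one_left h2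
    · rw [h1]
      apply inv_eq_of_mul_eq_one_right
      rw [← mul_assoc, h2, hzz]
  have c1 : Nat.card ↥S ≤ 2 * Nat.card ↥F1 := by
    apply card_le_two (B := F1) (C := S) (fun r hr => (hF1.1 hr).1)
    intro r hr q hq hrF hqF
    apply hF1' _ (S.mul_mem hr hq)
    apply dfix r hr q hq
    rw [map_mul, dcase r hr hrF, dcase q hq hqF]
    have hdz : x q * q⁻¹ * z = z * (x q * q⁻¹) := hz _ (dS q hq)
    calc x r * r⁻¹ * z * (x q * q⁻¹ * z) = x r * r⁻¹ * (z * (x q * q⁻¹)) * z := by group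
      _ = x r * r⁻¹ * (x q * q⁻¹ * z) * z := by rw [hdz]
      _ = x r * r⁻¹ * (x q * q⁻¹) * (z * z) := by group
      _ = _ := by rw [hzz, mul_one]
  have c2 : Nat.card ↥F1 ≤ 2 * Nat.card ↥(S ⊓ fixedSubgroup x) := by
    apply card_le_two
    · intro r hr
      exact ⟨hr.1, Or.inl hr.2⟩
    · intro r hr q hq hrF hqF
      have h1 : x r = r * z := by
        rcases hr.2 with h | h
        · exact absurd ⟨hr.1, h⟩ hrF
        · exact h
      have h2 : x q = q * z := by
        rcases hq.2 with h | h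
        · exact absurd ⟨hq.1, h⟩ hqF
        · exact h
      refine ⟨S.mul_mem hr.1 hq.1, ?_⟩
      change x (r * q) = r * q
      have hqz := hz q hq.1
      rw [map_mul, h1, h2]
      calc r * z * (q * z) = r * (z * q) * z := by group
        _ = r * (q * z) * z := by rw [hqz]
        _ = r * q * (z * z) := by group
        _ = r * q := by rw [hzz, mul_one]
  omega

/-- the fixed points on a 2-group of class two -/
theorem no_large {X : Type u} [Group X] [Finite X] {x : MulAut X} (hxx : x * x = 1) {A : Subgroup ↥(fixedSubgroup x)}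
    {z : ↥(fixedSubgroup x)} (Z : ZFacts A z) {S : Subgroup X} (hp : IsPGroup 2 ↥S) (hinv : ∀ r ∈ S, x r ∈ S)
    (hnorm : ∀ g : X, g * z = z * g → ∀ r ∈ S, g * r * g⁻¹ ∈ S)
    (hz : ∀ r ∈ S, r * z = z * r) (hzS : (z : X) ∈ S) (hsq : ∀ r ∈ S, r * r = 1 ∨ r * r = z)
    (hcomm : ∀ r ∈ S, ∀ q ∈ S, r * q * r⁻¹ * q⁻¹ = 1 ∨ r * q * r⁻¹ * q⁻¹ = z) : Nat.card ↥S ≤ 256 := by
  have h1 := card_le hxx Z hinv (fun c _ hcz r hr => hnorm c (congrArg Subtype.val hcz) r hr) hz hzS hsq hcomm
  have h2 := Z.big (S.subgroupOf (fixedSubgroup x)) (hp.comap_of_injective _ (subtype_injective _)) (by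
    intro c hc hcz r hr
    exact hnorm c (congrArg Subtype.val hcz) r hr)
  have h3 : Nat.card ↥(S ⊓ fixedSubgroup x) = Nat.card ↥(S.subgroupOf (fixedSubgroup x)) := by
    rw [← inf_subgroupOf_right, Nat.card_congr (subgroupOfEquivOfLe inf_le_right).toEquiv]
  omega

end Cfsg.Agent.H781.U42Comp
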