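import Cfsg.Agent.H781.U42Comp
import Cfsg.Agent.H287.OutFi22
import Cfsg.Agent.H287.FrameComp
import Cfsg.Agent.H287.Central

/-!
# `U₄(2)` and the outer involutory automorphisms of `Fi₂₂` (helper781)
-/

set_option autoImplicit false

namespace Cfsg.Agent.H781.U42Fi

open Subgroup Cfsg Cfsg.Agent.R01.FiFusion Cfsg.Agent.R01.FiFacts Cfsg.Agent.StdFi22.TLev
open Cfsg.Agent.OddHalf.D8.Fi22
open Cfsg.Agent.OddHalf.D4.Spor.Fi22 (inv_cases kt comm_w)
open Cfsg.Agent.StdFi22.MainFi22 (bas)
open Cfsg.Agent.R08.AutT (T aut_mem)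
open Cfsg.Agent.CTwoTab.Fi22 (facts comm_mul mem_pair ee ee_normal mem_ee ee_sq mem_a mem_b mem_c)
open Cfsg.Agent.CpAut Cfsg.Agent.CpAut.TwoAbs Cfsg.Agent.CpAut.CtThree Cfsg.Agent.CpAut.Fi22Row
open Cfsg.Agent.CpAut.UnitFix (Sp6)
open Cfsg.Agent.H781.U42Act Cfsg.Agent.H781.U42Comp
open Cfsg.Agent.SignalizersComponents.Components Cfsg.Agent.H287

universe v

instance finite : Finite Spor.Fi22 := Cfsg.Agent.R01.Fi22Facts.finite

/-- the two cases for a transposition -/
theorem case_one' {x : MulAut Spor.Fi22} (hxx : x * x = 1) (hx : ¬ ∃ g, x = MulAut.conj g) (u : ↥(fixedSubgroup x))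
    (hd : (u : Spor.Fi22) ∈ T) : (∃ θ : ↥(centralizer ({u} : Set ↥(fixedSubgroup x))) →* Sp6, Function.Surjective θ ∧
      ∀ c, θ c = 1 ↔ c = 1 ∨ c = ⟨u, mem_centralizer_singleton_iff.2 rfl⟩) ∨
    ∃ r ∈ T, r ≠ u ∧ x r = r ∧ r * u = u * r ∧ ∀ c, x c = c → c * u = u * c → c * r = r * c := by
  obtain ⟨π, lift, L, hT⟩ := bas.base.loc (u : Spor.Fi22) hd
  let C : Subgroup Spor.Fi22 := centralizer ({(u : Spor.Fi22)} : Set Spor.Fi22)
  let a : MulAut ↥C := restr hxx C (inv_cent u)
  have hau : ∀ c : ↥C, ((a c : ↥C) : Spor.Fi22) = x c := fun _ => rfl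
  have haz : a (Cfsg.Agent.R01.Start.zel (u : Spor.Fi22)) = Cfsg.Agent.R01.Start.zel (u : Spor.Fi22) :=
    Subtype.ext u.2
  have haa : ∀ c, a (a c) = c := fun c => Subtype.ext (DFunLike.congr_fun hxx (c : Spor.Fi22))
  obtain ⟨e, φ, he, hφ, ha, hφφ⟩ := UnitInv.norm L haz haa
  rcases he with rfl | rfl
  · exfalso
    obtain ⟨c, hc⟩ := UnitInv.inner_of_lin L hφ ha hφφ
    have h1 : ∀ y ∈ T, y * (u : Spor.Fi22) = u * y → ((MulAut.conj (c : Spor.Fi22))⁻¹ * x) y = y := by
      intro y _ hy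
      have h2 := congrArg Subtype.val (DFunLike.congr_fun hc (⟨y, mem_centralizer_singleton_iff.2 hy⟩ : ↥C))
      have h3 : x y = c * y * (c : Spor.Fi22)⁻¹ := h2
      change (MulAut.conj (c : Spor.Fi22))⁻¹ (x y) = y
      rw [h3, ← map_inv, MulAut.conj_apply]
      group
    rcases kt.cJ hd _ h1 with h2 | h2
    · exact hx ⟨c, (inv_mul_eq_one.1 h2).symm⟩
    · exact hx ⟨c * u, by rw [map_mul, ← h2, mul_inv_cancel_left]⟩
  · obtain ⟨g, k, hb, hg, hk1, hk2, hk0⟩ := Cfsg.Agent.U62.Semi2.semi_normal Cfsg.Agent.Fischer.Unit22.hF hφ hφφ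
    rcases hk0 with hk0 | hk0
    · -- type (a)
      left
      have hk : ∀ i, φ (k i) = k i := by
        intro i
        fin_cases i
        exacts [hk0, hk1, hk2]
      obtain ⟨θ, hθ, hker⟩ := UnitFix.exists_theta L haz hφ ha hφφ hb hg hk
      refine ⟨θ.comp (fixCent hxx u).symm.toMonoidHom, hθ.comp (fixCent hxx u).symm.surjective, fun c => ?_⟩
      change θ ((fixCent hxx u).symm c) = 1 ↔ _
      rw [hker]
      constructor
      · rintro (h | h)
        · left
          have h0 : ((c : ↥(fixedSubgroup x)) : Spor.Fi22) = 1 := congrArg (Subtype.val : ↥C → Spor.Fi22) h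
          have h1 : (c : ↥(fixedSubgroup x)) = 1 := Subtype.ext h0
          exact Subtype.ext h1
        · right
          have h0 : ((c : ↥(fixedSubgroup x)) : Spor.Fi22) = u := congrArg (Subtype.val : ↥C → Spor.Fi22) h
          have h1 : (c : ↥(fixedSubgroup x)) = u := Subtype.ext h0
          exact Subtype.ext h1
      · rintro (rfl | rfl)
        · exact Or.inl rfl
        · exact Or.inr rfl
    · -- type (b)
      right
      have h0 := Cfsg.Agent.U62.Semi.hyp_iso_g Cfsg.Agent.Fischer.Unit22.hF hb 0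
      have hrT : ((lift (g 0) : ↥C) : Spor.Fi22) ∈ T :=
        (hT _).2 (Or.inr (Cfsg.Agent.R01.Label.Lab.mem_D h0.1 h0.2))
      have hru : ((lift (g 0) : ↥C) : Spor.Fi22) * u = u * (lift (g 0) : ↥C) :=
        mem_centralizer_singleton_iff.1 (lift (g 0)).2
      have hne : (u : Spor.Fi22) ≠ ((lift (g 0) : ↥C) : Spor.Fi22) := by
        intro h
        apply L.z_notMem
        have h1 : Cfsg.Agent.R01.Start.zel (u : Spor.Fi22) = lift (g 0) := Subtype.ext h
        rw [h1]
        exact Cfsg.Agent.R01.Label.Lab.mem_D h0.1 h0.2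
      have hxr : x ((lift (g 0) : ↥C) : Spor.Fi22) = (lift (g 0) : ↥C) := by
        rw [← hau, ha _ h0, hg]
      refine ⟨_, hrT, hne.symm, hxr, hru, fun c hxc hcu => ?_⟩
      have hc : c ∈ C := mem_centralizer_singleton_iff.2 hcu
      have h1 : a ⟨c, hc⟩ = ⟨c, hc⟩ := Subtype.ext hxc
      have h2 := UnitInv.comm_of_b L hφ ha hφφ hb hg hk1 hk2 hk0 h1
      exact congrArg Subtype.val h2

/-- the order of the centralizer in the first case -/
theorem card_theta {x : MulAut Spor.Fi22} {u : ↥(fixedSubgroup x)} (hu1 : u ≠ 1)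
    {θ : ↥(centralizer ({u} : Set ↥(fixedSubgroup x))) →* Sp6} (hθ : Function.Surjective θ)
    (hk : ∀ c, θ c = 1 ↔ c = 1 ∨ c = ⟨u, mem_centralizer_singleton_iff.2 rfl⟩) :
    Nat.card ↥(centralizer ({u} : Set ↥(fixedSubgroup x))) = 2903040 := by
  rw [card_eq_card_quotient_mul_card_subgroup θ.ker,
    Nat.card_congr (QuotientGroup.quotientKerEquivOfSurjective θ hθ).toEquiv, CpAut.UnitFix.card_sp6]
  have h4 : (θ.ker : Set ↥(centralizer ({u} : Set ↥(fixedSubgroup x)))) =
      {1, ⟨u, mem_centralizer_singleton_iff.2 rfl⟩} := by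
    ext c
    exact hk c
  have h5 : Nat.card ↥θ.ker = (θ.ker : Set ↥(centralizer ({u} : Set ↥(fixedSubgroup x)))).ncard := rfl
  rw [h5, h4, Set.ncard_pair]
  intro h6
  exact hu1 (congrArg Subtype.val h6).symm

/-- the components of the centralizers -/
theorem hcard_cent {x : MulAut Spor.Fi22} (hxx : x * x = 1) (hout : ¬ ∃ g, x = MulAut.conj g) (u : ↥(fixedSubgroup x))
    (hu : orderOf u = 2) : HCard OutFi22.P ↥(centralizer ({u} : Set ↥(fixedSubgroup x))) := by
  rcases cases hxx hout u hu with h | ⟨θ, hθ, hk⟩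
  · exact HCard.of_ct h
  · have hs := UnitFix.simple_sp6
    have hZ : θ.ker ≤ center ↥(centralizer ({u} : Set ↥(fixedSubgroup x))) := by
      intro c hc
      rcases (hk c).1 hc with rfl | rfl
      · exact one_mem _
      · rw [mem_center_iff]
        intro g
        apply Subtype.ext
        exact mem_centralizer_singleton_iff.1 g.2
    have e := QuotientGroup.quotientKerEquivOfSurjective θ hθ
    have hsq : IsSimpleGroup (↥(centralizer ({u} : Set ↥(fixedSubgroup x))) ⧸ θ.ker) := e.isSimpleGroup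
    have hcard : Nat.card (↥(centralizer ({u} : Set ↥(fixedSubgroup x))) ⧸ θ.ker) = 1451520 := by
      rw [Nat.card_congr e.toEquiv, UnitFix.card_sp6]
    have hna : ¬ IsMulCommutative (↥(centralizer ({u} : Set ↥(fixedSubgroup x))) ⧸ θ.ker) :=
      not_comm_of_card (by rw [hcard]; norm_num)
    exact (HCard.of_central hZ hna).mono fun n m h => h.1.trans hcard

/-- an automorphism fixing `a b` -/
theorem map_R {a b : Spor.Fi22} {R : Subgroup Spor.Fi22} (F : KFacts.FiTT.Facts Spor.Fi22 a b R) {x : MulAut Spor.Fi22}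
    (hx : x (a * b) = a * b) (hxx : x * x = 1) : ∀ r ∈ R, x r ∈ R := by
  have hx2 : ∀ y, x (x y) = y := fun y => DFunLike.congr_fun hxx y
  -- the action on `{a, b}`
  let C : Subgroup Spor.Fi22 := centralizer ({a * b} : Set Spor.Fi22)
  have hcase : ∀ y ∈ C, (y * a * y⁻¹ = a ∧ y * b * y⁻¹ = b) ∨ (y * a * y⁻¹ = b ∧ y * b * y⁻¹ = a) := by
    intro y hy
    rcases F.cz y (mem_centralizer_singleton_iff.1 hy) with h | h
    · exact Or.inl ⟨by rw [h.1, mul_inv_cancel_right], by rw [h.2, mul_inv_cancel_right]⟩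
    · exact Or.inr h
  have hcomm : ∀ y ∈ C, ∀ w ∈ C, y * w * y⁻¹ * w⁻¹ ∈ centralizer ({a, b} : Set Spor.Fi22) := by
    intro y hy w hw
    have conj : ∀ s, y * w * y⁻¹ * w⁻¹ * s * (y * w * y⁻¹ * w⁻¹)⁻¹ =
        y * (w * (y⁻¹ * (w⁻¹ * s * w) * y) * w⁻¹) * y⁻¹ := by
      intro s; group
    have inv : ∀ g s t : Spor.Fi22, g * s * g⁻¹ = t → g⁻¹ * t * g = s := by
      rintro g s t rfl
      group
    have key : y * w * y⁻¹ * w⁻¹ * a * (y * w * y⁻¹ * w⁻¹)⁻¹ = a ∧
        y * w * y⁻¹ * w⁻¹ * b * (y * w * y⁻¹ * w⁻¹)⁻¹ = b := by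
      rw [conj, conj]
      rcases hcase y hy with ⟨h1, h2⟩ | ⟨h1, h2⟩ <;> rcases hcase w hw with ⟨h3, h4⟩ | ⟨h3, h4⟩
      · rw [inv _ _ _ h3, inv _ _ _ h1, h3, h1, inv _ _ _ h4, inv _ _ _ h2, h4, h2]
        exact ⟨rfl, rfl⟩
      · rw [inv _ _ _ h4, inv _ _ _ h2, h4, h1, inv _ _ _ h3, inv _ _ _ h1, h3, h2]
        exact ⟨rfl, rfl⟩
      · rw [inv _ _ _ h3, inv _ _ _ h2, h4, h2, inv _ _ _ h4, inv _ _ _ h1, h3, h1]
        exact ⟨rfl, rfl⟩
      · rw [inv _ _ _ h4, inv _ _ _ h1, h3, h2, inv _ _ _ h3, inv _ _ _ h2, h4, h1]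
        exact ⟨rfl, rfl⟩
    exact mem_pair.2 ⟨mul_inv_eq_iff_eq_mul.1 key.1, mul_inv_eq_iff_eq_mul.1 key.2⟩
  have hPC : centralizer ({a, b} : Set Spor.Fi22) ≤ C := by
    intro y hy
    obtain ⟨h1, h2⟩ := mem_pair.1 hy
    exact mem_centralizer_singleton_iff.2 (comm_mul h1 h2)
  have hxC : ∀ y ∈ C, x y ∈ C := by
    intro y hy
    have h1 := congrArg x (mem_centralizer_singleton_iff.1 hy)
    rw [map_mul x y, map_mul x (a * b) y, hx] at h1
    exact mem_centralizer_singleton_iff.2 h1
  -- `x` preserves `C(a, b)`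
  have hP : ∀ y ∈ centralizer ({a, b} : Set Spor.Fi22), x y ∈ centralizer ({a, b} : Set Spor.Fi22) := by
    let P : Subgroup Spor.Fi22 := centralizer ({a, b} : Set Spor.Fi22)
    have h1 : ⁅P, P⁆ = P := by
      have h2 := congrArg (Subgroup.map P.subtype) F.perfect
      rw [_root_.commutator_def, map_commutator, ← MonoidHom.range_eq_map, range_subtype] at h2
      exact h2
    have h2 : ⁅P.map x.toMonoidHom, P.map x.toMonoidHom⁆ = P.map x.toMonoidHom := by
      rw [← map_commutator, h1]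
    have h3 : ⁅P.map x.toMonoidHom, P.map x.toMonoidHom⁆ ≤ P := by
      rw [commutator_le]
      rintro _ ⟨y, hy, rfl⟩ _ ⟨w, hw, rfl⟩
      exact hcomm _ (hxC y (hPC hy)) _ (hxC w (hPC hw))
    intro y hy
    rw [h2] at h3
    exact h3 ⟨y, hy, rfl⟩
  have h1 := F.O2 (R.map x.toMonoidHom) (by
    rintro _ ⟨r, hr, rfl⟩
    exact hP r (F.R_le hr)) (by
    rintro g hga hgb _ ⟨r, hr, rfl⟩
    have hg : x g ∈ centralizer ({a, b} : Set Spor.Fi22) := hP g (mem_pair.2 ⟨hga, hgb⟩)
    obtain ⟨k1, k2⟩ := mem_pair.1 hg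
    refine ⟨x g * r * (x g)⁻¹, F.R_normal _ (comm_mul k1 k2) r hr, ?_⟩
    change x (x g * r * (x g)⁻¹) = g * x r * g⁻¹
    rw [map_mul, map_mul, map_inv, hx2]) (F.R_two.map _)
  intro r hr
  exact h1 ⟨r, hr, rfl⟩

/-- **Outer automorphisms of `Fi₂₂`.** -/
theorem no_outer {x : MulAut Spor.Fi22} (hxx : x * x = 1) (hout : ¬ ∃ g, x = MulAut.conj g)
    {A : Subgroup ↥(fixedSubgroup x)} (hA : IsComponent A) {F : Type v} [Field F] [Fintype F]
    (hF : Fintype.card F = 4) (e : ↥A ≃* PSU 4 F 2) : False := by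
  have hcA : Nat.card ↥A = 25920 := by
    obtain ⟨f⟩ := exists_omega hF
    rw [Nat.card_congr (e.trans f).toEquiv, H845.AutUFour.card_omega]
  have hC : ∀ u ∈ centralizer (A : Set ↥(fixedSubgroup x)), u * u = 1 → u = 1 := by
    intro u huA huu
    by_contra hu1
    have hu : orderOf u = 2 := orderOf_eq_prime (by rw [pow_two, huu]) hu1
    have hle : A ≤ centralizer ({u} : Set ↥(fixedSubgroup x)) := by
      intro w hw
      rw [mem_centralizer_singleton_iff]
      exact mem_centralizer_iff.1 huA w hw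
    have h1 := hcard_cent hxx hout u hu _ (isComponent_subgroupOf hle hA)
    change Nat.card _ = 1451520 at h1
    have h2 := card_quotient_dvd_card (center ↥(A.subgroupOf (centralizer ({u} : Set ↥(fixedSubgroup x)))))
    rw [h1, Nat.card_congr (subgroupOfEquivOfLe hle).toEquiv, hcA] at h2
    exact absurd h2 (by norm_num)
  obtain ⟨hn, z, Z⟩ := exists_facts hA hC hF e
  have hzz : (z : Spor.Fi22) * z = 1 := congrArg Subtype.val Z.sq
  have hz1 : (z : Spor.Fi22) ≠ 1 := fun h => Z.ne (Subtype.ext h)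
  rcases inv_cases hzz hz1 with h | ⟨a, ha, b, hb, hab, cab, h⟩ | ⟨a, b, c, ht, h⟩
  · -- a transposition
    rcases case_one' hxx hout z h with ⟨θ, hθ, hk⟩ | ⟨r, hrT, hne, hxr, hrz, hcr⟩
    · apply Z.card
      have h1 := card_theta Z.ne hθ hk
      have h2 := card_subgroup_dvd_card (centralizer ({z} : Set ↥(fixedSubgroup x)))
      rw [h1] at h2
      exact (by norm_num : 256 ∣ 2903040).trans h2
    · let r' : ↥(fixedSubgroup x) := ⟨r, hxr⟩
      have hrr : r * r = 1 := bas.sq hrT
      rcases Z.one r' (Subtype.ext hrz) (Subtype.ext hrr) (by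
        intro c _ hcz
        apply Subtype.ext
        have h1 : (c : Spor.Fi22) * r = r * c := hcr c c.2 (congrArg Subtype.val hcz)
        change r * (c * r * (c : Spor.Fi22)⁻¹) = c * r * (c : Spor.Fi22)⁻¹ * r
        rw [h1, mul_inv_cancel_right]) with h2 | h2
      · have h3 : r = 1 := congrArg Subtype.val h2
        have h4 := hcr
        exact bas.ne_one hrT h3
      · exact hne (congrArg Subtype.val h2)
  · -- a product of two transpositions
    obtain ⟨R, FF⟩ := facts ha hb hab cab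
    have hxz : x (a * b) = a * b := by rw [← h]; exact z.2
    have h1 := no_large hxx Z FF.R_two (map_R FF hxz hxx) (by
      intro g hg r hr
      rw [h] at hg
      exact FF.R_normal g hg r hr) (by
      intro r hr
      rw [h]
      obtain ⟨k1, k2⟩ := mem_pair.1 (FF.R_le hr)
      exact comm_mul k1 k2) (by rw [h]; exact R.mul_mem FF.d_mem FF.d'_mem) (by
      rw [h]; exact FF.R_sq) (by rw [h]; exact FF.R_comm)
    rw [FF.R_card] at h1
    norm_num at h1
  · -- a product of three transpositions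
    have hxz : x (a * b * c) = a * b * c := by rw [← h]; exact z.2
    have hx2 : ∀ y, x (x y) = y := fun y => DFunLike.congr_fun hxx y
    have hxE : ∀ w ∈ ee (a * b * c), x w ∈ ee (a * b * c) := by
      intro w hw
      rw [mem_ee] at hw ⊢
      refine ⟨fun t htT htw => ?_, ?_⟩
      · have h1 : x t * (a * b * c) = a * b * c * x t := by
          have h2 := congrArg x htw
          rwa [map_mul x t, map_mul x (a * b * c) t, hxz] at h2
        have h2 := congrArg x (hw.1 (x t) (aut_mem x htT) h1)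
        rwa [map_mul, map_mul, hx2] at h2
      · have h1 := congrArg x hw.2
        rwa [map_mul x w, map_mul x (a * b * c) w, hxz] at h1
    have hEsq : ∀ w ∈ ee (a * b * c), w * w = 1 := fun w hw => ee_sq ht hw
    have hEc : ∀ w ∈ ee (a * b * c), ∀ v ∈ ee (a * b * c), w * v = v * w := by
      intro w hw v hv
      have h1 := hEsq _ ((ee (a * b * c)).mul_mem hw hv)
      have h2 := hEsq w hw
      have h3 := hEsq v hv
      calc w * v = (w * v)⁻¹ := (inv_eq_of_mul_eq_one_left h1).symm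
        _ = v * w := by rw [mul_inv_rev, inv_eq_of_mul_eq_one_left h2, inv_eq_of_mul_eq_one_left h3]
    have hfix : ∀ w ∈ ee (a * b * c), x w = w → w = 1 ∨ w = z := by
      intro w hw hxw
      let w' : ↥(fixedSubgroup x) := ⟨w, hxw⟩
      rcases Z.one w' (Subtype.ext (by
        change w * z = z * w
        rw [h]
        exact (mem_ee.1 hw).2)) (Subtype.ext (hEsq w hw)) (by
        intro g _ hgz
        apply Subtype.ext
        have hg : (g : Spor.Fi22) * z = z * g := congrArg Subtype.val hgz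
        rw [h] at hg
        exact hEc w hw _ (ee_normal g (mem_centralizer_singleton_iff.2 hg) w hw)) with h2 | h2
      · exact Or.inl (congrArg Subtype.val h2)
      · exact Or.inr (congrArg Subtype.val h2)
    have hval : ∀ w ∈ ee (a * b * c), x w = w ∨ x w = z * w := by
      intro w hw
      have h1 : x (x w * w) = x w * w := by
        rw [map_mul, hx2]
        exact hEc w hw _ (hxE w hw)
      have hww := hEsq w hw
      rcases hfix _ ((ee (a * b * c)).mul_mem (hxE w hw) hw) h1 with h2 | h2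
      · left
        calc x w = x w * (w * w) := by rw [hww, mul_one]
          _ = x w * w * w := by group
          _ = w := by rw [h2, one_mul]
      · right
        calc x w = x w * (w * w) := by rw [hww, mul_one]
          _ = x w * w * w := by group
          _ = z * w := by rw [h2]
    have ka := mem_a ht
    have kb := mem_b ht
    have hcc : c * c = 1 := bas.sq ht.mw
    have hbb : b * b = 1 := bas.sq ht.my
    have haz : a * (z : Spor.Fi22) = z * a := by
      rw [h]
      exact (mem_ee.1 ka).2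
    rcases hval a ka with h1 | h1
    · rcases hfix a ka h1 with h2 | h2
      · exact bas.ne_one ht.mx h2
      · apply ht.yw
        have h3 : b * c = 1 := by
          rw [h, mul_assoc] at h2
          exact (mul_eq_left.1 h2.symm)
        calc b = b * (c * c) := by rw [hcc, mul_one]
          _ = b * c * c := by group
          _ = c := by rw [h3, one_mul]
    rcases hval b kb with h4 | h4
    · rcases hfix b kb h4 with h2 | h2
      · exact bas.ne_one ht.my h2
      · apply ht.xw
        have h3 : a * c = 1 := by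
          rw [h, ht.cxy, mul_assoc] at h2
          exact (mul_eq_left.1 h2.symm)
        calc a = a * (c * c) := by rw [hcc, mul_one]
          _ = a * c * c := by group
          _ = c := by rw [h3, one_mul]
    have h5 : x (a * b) = a * b := by
      rw [map_mul, h1, h4]
      calc z * a * (z * b) = z * (a * z) * b := by group
        _ = z * (z * a) * b := by rw [haz]
        _ = (z * z) * (a * b) := by group
        _ = a * b := by rw [hzz, one_mul]
    rcases hfix _ ((ee (a * b * c)).mul_mem ka kb) h5 with h2 | h2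
    · apply ht.xy
      calc a = a * (b * b) := by rw [hbb, mul_one]
        _ = a * b * b := by group
        _ = b := by rw [h2, one_mul]
    · rw [h] at h2
      exact bas.ne_one ht.mw (mul_eq_left.1 h2.symm)

end Cfsg.Agent.H781.U42Fi
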