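import Cfsg.Agent.H781.U42Num
import Cfsg.Agent.H845.AutUFour

/-!
# The centralizer of a long root involution in `O₆⁻(2)` (helper781)

`prop_one`, `prop_five`, `prop_three` : the involution `z`, the element `c` of order 3 of `Ω₆⁻(2)` : an involution of
`C(z)` which commutes with its conjugate under `c` is `z`; `C(z)` has no element of order 5; there are two involutions
in `C(z) ∩ Ω` with a product of order 3.
-/

set_option autoImplicit false

namespace Cfsg.Agent.H781.U42Gam

open Cfsg Matrix Cfsg.Agent.H781.U42Num Cfsg.Agent.H845.AutUFour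

abbrev I : Type := (Fin 2 ⊕ Fin 2) ⊕ Fin 2
abbrev V : Type := I → ZMod 2
abbrev Γ : Type := ↥(isometryGroup (ZMod 2) Q6)

/-- the bit of a coordinate -/
def num : I → ℕ
  | .inl (.inl 0) => 0
  | .inl (.inr 0) => 1
  | .inl (.inl 1) => 2
  | .inl (.inr 1) => 3
  | .inr 0 => 4
  | .inr 1 => 5

def toV (n : ℕ) : V := fun i => if n.testBit (num i) then 1 else 0

def bit (x : ZMod 2) (k : ℕ) : ℕ := if x = 1 then k else 0

def ofV (v : V) : ℕ :=
  bit (v (.inl (.inl 0))) 1 + bit (v (.inl (.inr 0))) 2 + bit (v (.inl (.inl 1))) 4 + bit (v (.inl (.inr 1))) 8 +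
    bit (v (.inr 0)) 16 + bit (v (.inr 1)) 32

theorem bit_le (x : ZMod 2) (k : ℕ) : bit x k ≤ k := by
  unfold bit
  split
  · exact le_rfl
  · exact Nat.zero_le _

theorem ofV_lt (v : V) : ofV v < 64 := by
  have h1 := bit_le (v (.inl (.inl 0))) 1
  have h2 := bit_le (v (.inl (.inr 0))) 2
  have h3 := bit_le (v (.inl (.inl 1))) 4
  have h4 := bit_le (v (.inl (.inr 1))) 8
  have h5 := bit_le (v (.inr 0)) 16
  have h6 := bit_le (v (.inr 1)) 32
  unfold ofV
  omega

theorem ofV_toV : ∀ n < 64, ofV (toV n) = n := by decide +kernel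

set_option maxRecDepth 10000 in
theorem toV_ofV : ∀ v : V, toV (ofV v) = v := by decide +kernel

theorem toV_xor (m n : ℕ) : toV (Nat.xor m n) = toV m + toV n := by
  ext i
  change (if (m ^^^ n).testBit (num i) then (1 : ZMod 2) else 0) = (if m.testBit (num i) then 1 else 0) +
    (if n.testBit (num i) then 1 else 0)
  rw [Nat.testBit_xor]
  cases m.testBit (num i) <;> cases n.testBit (num i) <;> decide

theorem ofV_add (v w : V) : ofV (v + w) = Nat.xor (ofV v) (ofV w) := by
  have h1 : toV (Nat.xor (ofV v) (ofV w)) = v + w := by rw [toV_xor, toV_ofV, toV_ofV]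
  rw [← h1]
  apply ofV_toV
  exact Nat.xor_lt_two_pow (n := 6) (ofV_lt v) (ofV_lt w)

/-- the action on numbers -/
def a (g : Γ) (n : ℕ) : ℕ := ofV ((g : GL I (ZMod 2)).1 *ᵥ toV n)

theorem a_lt (g : Γ) (n : ℕ) : a g n < 64 := ofV_lt _

theorem a_xor (g : Γ) (m n : ℕ) : a g (Nat.xor m n) = Nat.xor (a g m) (a g n) := by
  rw [a, toV_xor, mulVec_add, ofV_add, a, a]

theorem toV_a (g : Γ) (n : ℕ) : toV (a g n) = (g : GL I (ZMod 2)).1 *ᵥ toV n := toV_ofV _

theorem a_mul (g h : Γ) (n : ℕ) : a (g * h) n = a g (a h n) := by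
  rw [a, a, toV_a]
  congr 1
  rw [mulVec_mulVec]
  rfl

theorem a_zero (g : Γ) : a g 0 = 0 := by
  have h := a_xor g 0 0
  have h0 : Nat.xor 0 0 = 0 := rfl
  rw [h0] at h
  rw [h]
  exact Nat.xor_self _

/-- additive functions -/
theorem ap_map (f : ℕ → ℕ) (h0 : f 0 = 0) (hf : ∀ m n, f (Nat.xor m n) = Nat.xor (f m) (f n)) (ts : List ℕ) (n : ℕ) :
    f (ap ts n) = ap (ts.map f) n := by
  induction ts generalizing n with
  | nil => exact h0
  | cons t ts ih =>
    rw [List.map_cons, ap, ap]
    cases Nat.beq (n % 2) 1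
    · exact ih _
    · rw [cond_true, cond_true, hf, ih]

theorem ap_basis : ∀ n < 64, ap basis n = n := by decide +kernel

/-- the images of the basis vectors -/
def im (g : Γ) : List ℕ := basis.map (a g)

theorem a_eq_ap (g : Γ) {n : ℕ} (hn : n < 64) : a g n = ap (im g) n := by
  rw [im, ← ap_map (a g) (a_zero g) (a_xor g), ap_basis n hn]

theorem ext_basis {g h : Γ} (H : ∀ m ∈ basis, a g m = a h m) : g = h := by
  have h1 : im g = im h := List.map_congr_left H
  have h2 : ∀ v : V, (g : GL I (ZMod 2)).1 *ᵥ v = (h : GL I (ZMod 2)).1 *ᵥ v := by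
    intro v
    rw [← toV_ofV v, ← toV_a, ← toV_a, a_eq_ap g (ofV_lt v), a_eq_ap h (ofV_lt v), h1]
  apply Subtype.ext
  apply Units.ext
  apply Matrix.ext_of_mulVec_single
  intro i
  exact h2 _

theorem qf_spec : ∀ n < 64, qf n = true ↔ Q6 (toV n) = 1 := by decide +kernel

theorem qf_a (g : Γ) {n : ℕ} (hn : n < 64) : qf (a g n) = qf n := by
  rw [Bool.eq_iff_iff, qf_spec _ (a_lt g n), qf_spec _ hn, toV_a]
  have h : Q6 ((g : GL I (ZMod 2)).1 *ᵥ toV n) = Q6 (toV n) := g.2 (toV n) 0
  rw [h]

theorem pol_a (g : Γ) {m n : ℕ} (hm : m < 64) (hn : n < 64) : pol (a g m) (a g n) = pol m n := by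
  unfold pol
  have h : Nat.xor m n < 64 := Nat.xor_lt_two_pow (n := 6) hm hn
  rw [← a_xor, qf_a g hm, qf_a g hn, qf_a g h]

/-! ### explicit elements -/

/-- the matrix with given columns -/
def mat (t : List ℕ) : Matrix I I (ZMod 2) := Matrix.of fun i j => toV (ap t (2 ^ num j)) i

/-- an explicit isometry -/
def mk (t s : List ℕ) (h1 : mat t * mat s = 1) (h2 : mat s * mat t = 1) (h3 : ∀ v : V, Q6 (mat t *ᵥ v) = Q6 v) : Γ :=
  ⟨⟨mat t, mat s, h1, h2⟩, fun u _ => h3 u⟩

def zG : Γ := mk zl zl (by decide +kernel) (by decide +kernel) (by decide +kernel)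
def cG : Γ := mk cl cil (by decide +kernel) (by decide +kernel) (by decide +kernel)
def rG : Γ := mk [1, 19, 4, 45, 20, 33] [1, 23, 4, 44, 20, 33] (by decide +kernel) (by decide +kernel) (by decide +kernel)
def kG : Γ := mk [27, 45, 30, 39, 21, 42] [30, 39, 27, 45, 21, 42] (by decide +kernel) (by decide +kernel)
  (by decide +kernel)

theorem a_zG : ∀ n < 64, a zG n = ap zl n := by decide +kernel
theorem a_cG : ∀ n < 64, a cG n = ap cl n := by decide +kernel

theorem a_cG_inv : ∀ n < 64, a cG⁻¹ n = ap cil n := by decide +kernel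

theorem zz : zG * zG = 1 := ext_basis (by decide +kernel)
theorem z_ne : zG ≠ 1 := by
  intro h
  have h1 := congrArg (fun g => a g 2) h
  revert h1
  decide +kernel
theorem cz : cG * zG = zG * cG := ext_basis (by decide +kernel)
theorem ccc : cG * (cG * cG) = 1 := ext_basis (by decide +kernel)
theorem rr : rG * rG = zG := ext_basis (by decide +kernel)

def gG : Γ := kG * kG

theorem gg : gG * gG = 1 := ext_basis (by decide +kernel)
theorem gz : gG * zG = zG * gG := ext_basis (by decide +kernel)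
theorem gcg : (gG * (cG * gG * cG⁻¹)) * ((gG * (cG * gG * cG⁻¹)) * (gG * (cG * gG * cG⁻¹))) = 1 :=
  ext_basis (by decide +kernel)
theorem gcg_ne : gG * (cG * gG * cG⁻¹) ≠ 1 := by
  intro h
  have h1 := congrArg (fun g => a g 1) h
  revert h1
  decide +kernel

/-! ### the enumeration -/

theorem leaf_im {g : Γ} (hg : g * zG = zG * g) : leaf (im g) = true := by
  have key : ∀ n < 64, a g (ap zl n) = ap zl (a g n) := by
    intro n hn
    rw [← a_zG n hn, ← a_mul, hg, a_mul, a_zG _ (a_lt g n)]
  have e1 : Nat.xor (ap zl (a g 2)) (a g 2) = a g 4 := by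
    rw [← key 2 (by norm_num), ← a_xor]
    congr 1
  have e0 : Nat.xor (ap zl (a g 8)) (a g 8) = a g 1 := by
    rw [← key 8 (by norm_num), ← a_xor]
    congr 1
  have h1 := allB_spec chk (a_lt g 2)
  rw [chkA, e1, qf_a g (by norm_num), pol_a g (by norm_num) (by norm_num), show qf 2 = false by decide +kernel,
    show pol 4 2 = false by decide +kernel, Bool.false_or, Bool.false_or] at h1
  have h2 := allB_spec h1 (a_lt g 8)
  rw [chkB, e0, qf_a g (by norm_num), pol_a g (by norm_num) (by norm_num), pol_a g (by norm_num) (by norm_num),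
    show qf 8 = false by decide +kernel, show pol 2 8 = false by decide +kernel,
    show pol 4 8 = true by decide +kernel, Bool.false_or, Bool.false_or, Bool.not_true, Bool.false_or] at h2
  have h3 := allB_spec h2 (a_lt g 16)
  rw [chkP, qf_a g (by norm_num), pol_a g (by norm_num) (by norm_num), pol_a g (by norm_num) (by norm_num),
    pol_a g (by norm_num) (by norm_num), pol_a g (by norm_num) (by norm_num),
    show qf 16 = true by decide +kernel, show pol 16 2 = false by decide +kernel,
    show pol 16 8 = false by decide +kernel, show pol 16 1 = false by decide +kernel,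
    show pol 16 4 = false by decide +kernel, Bool.not_true, Bool.false_or, Bool.false_or, Bool.false_or,
    Bool.false_or, Bool.false_or] at h3
  have h4 := allB_spec h3 (a_lt g 32)
  rw [chkQ, qf_a g (by norm_num), pol_a g (by norm_num) (by norm_num), pol_a g (by norm_num) (by norm_num),
    pol_a g (by norm_num) (by norm_num), pol_a g (by norm_num) (by norm_num), pol_a g (by norm_num) (by norm_num),
    show qf 32 = true by decide +kernel, show pol 32 2 = false by decide +kernel,
    show pol 32 8 = false by decide +kernel, show pol 32 1 = false by decide +kernel,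
    show pol 32 4 = false by decide +kernel, show pol 16 32 = true by decide +kernel, Bool.not_true, Bool.false_or,
    Bool.false_or, Bool.false_or, Bool.false_or, Bool.false_or, Bool.false_or] at h4
  exact h4

theorem lt_of_basis {m : ℕ} (hm : m ∈ basis) : m < 64 := by
  revert m
  decide

theorem all_iff {f : ℕ → Bool} : basis.all f = true ↔ ∀ m ∈ basis, f m = true := List.all_eq_true

theorem beq_iff {m n : ℕ} : Nat.beq m n = true ↔ m = n := Nat.beq_eq ▸ Iff.rfl

/-- **An involution of `C(z)` commuting with its conjugate under `c`.** -/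
theorem prop_one {g : Γ} (hg : g * zG = zG * g) (h2 : g * g = 1)
    (hc : g * (cG * g * cG⁻¹) = cG * g * cG⁻¹ * g) : g = 1 ∨ g = zG := by
  have h := leaf_im hg
  rw [leaf, Bool.and_eq_true] at h
  have h3 := h.1
  have e1 : (basis.all fun m => Nat.beq (ap (im g) (ap (im g) m)) m) = true := by
    rw [all_iff]
    intro m hm
    have h4 : m < 64 := lt_of_basis hm
    rw [← a_eq_ap g h4, ← a_eq_ap g (a_lt g m), ← a_mul, h2]
    have h5 : a 1 m = m := by
      rw [a]
      have : ((1 : Γ) : GL I (ZMod 2)).1 = 1 := rfl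
      rw [this, one_mulVec, ofV_toV m h4]
    rw [h5]
    exact Nat.beq_refl m
  have e2 : (basis.all fun m => Nat.beq (ap (im g) (ap cl (ap (im g) (ap cil m))))
      (ap cl (ap (im g) (ap cil (ap (im g) m))))) = true := by
    rw [all_iff]
    intro m hm
    have h4 : m < 64 := lt_of_basis hm
    rw [← a_cG_inv m h4, ← a_eq_ap g (a_lt _ _), ← a_cG _ (a_lt _ _), ← a_eq_ap g (a_lt _ _), ← a_eq_ap g h4,
      ← a_cG_inv _ (a_lt _ _), ← a_eq_ap g (a_lt _ _), ← a_cG _ (a_lt _ _), ← a_mul, ← a_mul, ← a_mul, ← a_mul,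
      ← a_mul, ← a_mul]
    have h5 : g * cG * g * cG⁻¹ = cG * g * cG⁻¹ * g := by rw [← hc]; group
    rw [h5]
    exact Nat.beq_refl _
  rw [e1, e2, Bool.not_true, Bool.false_or, Bool.false_or, Bool.or_eq_true, all_iff, all_iff] at h3
  rcases h3 with h3 | h3
  · left
    apply ext_basis
    intro m hm
    have h4 : m < 64 := lt_of_basis hm
    rw [a_eq_ap g h4, Nat.eq_of_beq_eq_true (h3 m hm), a]
    have : ((1 : Γ) : GL I (ZMod 2)).1 = 1 := rfl
    rw [this, one_mulVec, ofV_toV m h4]
  · right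
    apply ext_basis
    intro m hm
    have h4 : m < 64 := lt_of_basis hm
    rw [a_eq_ap g h4, Nat.eq_of_beq_eq_true (h3 m hm), a_zG m h4]

/-- **No element of order 5 in `C(z)`.** -/
theorem prop_five {g : Γ} (hg : g * zG = zG * g) (h5 : g ^ 5 = 1) : g = 1 := by
  have h := leaf_im hg
  rw [leaf, Bool.and_eq_true] at h
  have h3 := h.2
  have hone : ∀ m < 64, a 1 m = m := by
    intro m h4
    rw [a]
    have : ((1 : Γ) : GL I (ZMod 2)).1 = 1 := rfl
    rw [this, one_mulVec, ofV_toV m h4]
  have e1 : (basis.all fun m => Nat.beq (ap (im g) (ap (im g) (ap (im g) (ap (im g) (ap (im g) m))))) m) = true := by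
    rw [all_iff]
    intro m hm
    have h4 : m < 64 := lt_of_basis hm
    rw [← a_eq_ap g h4, ← a_eq_ap g (a_lt g _), ← a_eq_ap g (a_lt g _), ← a_eq_ap g (a_lt g _),
      ← a_eq_ap g (a_lt g _), ← a_mul, ← a_mul, ← a_mul, ← a_mul]
    have h6 : g * g * g * g * g = 1 := by rw [← h5]; simp only [pow_succ, pow_zero, one_mul]
    rw [h6, hone m h4]
    exact Nat.beq_refl m
  rw [e1, Bool.not_true, Bool.false_or, all_iff] at h3
  apply ext_basis
  intro m hm
  have h4 : m < 64 := lt_of_basis hm
  rw [a_eq_ap g h4, Nat.eq_of_beq_eq_true (h3 m hm), hone m h4]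

/-! ### the subgroup of index 2 -/

theorem index_omega : (Omega (ZMod 2) Q6).index = 2 := by
  have h1 := (Omega (ZMod 2) Q6).card_mul_index
  rw [card_omega, card_isometry] at h1
  omega

theorem sq_mem (g : Γ) : g * g ∈ Omega (ZMod 2) Q6 := by
  have h := Subgroup.sq_mem_of_index_two index_omega g
  rwa [pow_two] at h

theorem z_mem : zG ∈ Omega (ZMod 2) Q6 := rr ▸ sq_mem rG

theorem g_mem : gG ∈ Omega (ZMod 2) Q6 := sq_mem kG

theorem c_mem : cG ∈ Omega (ZMod 2) Q6 := by
  have h1 : cG = (cG * cG) * (cG * cG) := by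
    calc cG = (cG * (cG * cG)) * cG := by rw [ccc, one_mul]
      _ = _ := by group
  rw [h1]
  exact sq_mem _

end Cfsg.Agent.H781.U42Gam
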