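import Mathlib

/-!
# The centralizer of a long root involution in `O₆⁻(2)` : numbers (helper781)

Vectors of `F₂⁶` are numbers below 64; the bits are the coordinates with respect to `e₀ f₀ e₁ f₁ p q`, the quadratic form
is `e₀f₀ + e₁f₁ + p² + pq + q²`.
-/

set_option autoImplicit false

namespace Cfsg.Agent.H781.U42Num

/-- all numbers below `n` -/
def allB : ℕ → (ℕ → Bool) → Bool
  | 0, _ => true
  | n + 1, f => Bool.and (f n) (allB n f)

theorem allB_spec {n : ℕ} {f : ℕ → Bool} (h : allB n f = true) {m : ℕ} (hm : m < n) : f m = true := by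
  induction n with
  | zero => omega
  | succ n ih =>
    rw [allB, Bool.and_eq_true] at h
    rcases Nat.lt_succ_iff_lt_or_eq.1 hm with h1 | rfl
    · exact ih h.2 h1
    · exact h.1

/-- the quadratic form -/
def qf (n : ℕ) : Bool := Nat.testBit 9761419664792451208 n

/-- the polar form -/
def pol (m n : ℕ) : Bool := Bool.xor (qf (Nat.xor m n)) (Bool.xor (qf m) (qf n))

/-- the images of the basis vectors; the image of `n` -/
def ap : List ℕ → ℕ → ℕ
  | [], _ => 0
  | t :: ts, n => bif Nat.beq (n % 2) 1 then Nat.xor t (ap ts (n / 2)) else ap ts (n / 2)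

/-- the long root involution -/
def zl : List ℕ := [1, 6, 4, 9, 16, 32]
def cl : List ℕ := [4, 10, 5, 2, 32, 48]
def cil : List ℕ := [5, 8, 1, 10, 48, 16]
def basis : List ℕ := [1, 2, 4, 8, 16, 32]

/-- the two properties -/
def leaf (t : List ℕ) : Bool :=
  Bool.and
    (Bool.or (Bool.not (basis.all fun m => Nat.beq (ap t (ap t m)) m))
      (Bool.or (Bool.not (basis.all fun m => Nat.beq (ap t (ap cl (ap t (ap cil m)))) (ap cl (ap t (ap cil (ap t m))))))
        (Bool.or (basis.all fun m => Nat.beq (ap t m) m) (basis.all fun m => Nat.beq (ap t m) (ap zl m)))))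
    (Bool.or (Bool.not (basis.all fun m => Nat.beq (ap t (ap t (ap t (ap t (ap t m))))) m))
      (basis.all fun m => Nat.beq (ap t m) m))

def chkQ (e0 a e1 b p q : ℕ) : Bool :=
  Bool.or (Bool.not (qf q)) (Bool.or (pol q a) (Bool.or (pol q b) (Bool.or (pol q e0) (Bool.or (pol q e1)
    (Bool.or (Bool.not (pol p q)) (leaf [e0, a, e1, b, p, q]))))))

def chkP (e0 a e1 b p : ℕ) : Bool :=
  Bool.or (Bool.not (qf p)) (Bool.or (pol p a) (Bool.or (pol p b) (Bool.or (pol p e0) (Bool.or (pol p e1)
    (allB 64 fun q => chkQ e0 a e1 b p q)))))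

def chkB (e1 a b : ℕ) : Bool :=
  Bool.or (qf b) (Bool.or (pol a b) (Bool.or (Bool.not (pol e1 b))
    (allB 64 fun p => chkP (Nat.xor (ap zl b) b) a e1 b p)))

def chkA (a : ℕ) : Bool :=
  Bool.or (qf a) (Bool.or (pol (Nat.xor (ap zl a) a) a) (allB 64 fun b => chkB (Nat.xor (ap zl a) a) a b))

set_option maxRecDepth 100000 in
theorem chk : allB 64 chkA = true := by decide +kernel

end Cfsg.Agent.H781.U42Num
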